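import Cfsg.Agent.H3.N9Mod
import Cfsg.Agent.FT.Base11
import Cfsg.Agent.H8.D8Core

set_option autoImplicit false
set_option linter.unusedSectionVars false

/-! `3³ : S₄` with strongly closed `O₃` containing its centralizers is the whole group. -/

namespace CfsgH3.N9

open Subgroup CfsgH5 CfsgH6 Cfsg CfsgFT S3L

universe u

variable {G : Type u} [Group G] [Finite G]

theorem s3_lemma' {M' : Type*} [Group M'] {f : M' →* G} (hf : Function.Injective f)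
    (π : M' →* Equiv.Perm (Fin 3)) (hπ : Function.Surjective π) {X : Subgroup G} {A : Set G}
    (hA : ∀ g, g ∈ A ↔ ∃ m, π m * π m ≠ 1 ∧ f m = g)
    {H : G → Subgroup G} (h : DadeHyp X f.range A H) {t : G} (htX : t ∈ X) (ht : t * t = 1)
    (h2 : ∀ a ∈ A, ∀ k ∈ H a, ∀ g ∈ X, ∀ b, b * b = 1 → g * t * g⁻¹ * b ≠ k * a) :
    ∃ K, NormalIn K X ∧ t ∈ K ∧ ∀ a ∈ A, a ∉ K := by
  have e : ∀ m, (MonoidHom.ofInjective hf).symm ⟨f m, m, rfl⟩ = m := fun m =>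
    (MulEquiv.symm_apply_eq _).2 (Subtype.ext rfl)
  refine s3_lemma h (π.comp (MonoidHom.ofInjective hf).symm.toMonoidHom)
    (hπ.comp (MonoidHom.ofInjective hf).symm.surjective) (fun a => ?_) htX ?_ ?_
  · rw [hA]
    constructor
    · rintro ⟨m, h1, rfl⟩
      exact ⟨⟨m, rfl⟩, by simpa [e] using h1⟩
    · rintro ⟨⟨m, rfl⟩, h1⟩
      exact ⟨m, by simpa [e] using h1, rfl⟩
  · intro hs
    obtain ⟨a, ha, k, hk, g, hg, e1⟩ := mem_DadeSupp.1 hs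
    refine h2 a ha k hk g⁻¹ (inv_mem hg) 1 (one_mul 1) ?_
    rw [e1]; group
  · intro g hg g' hg' hs
    obtain ⟨a, ha, k, hk, x, hx, e1⟩ := mem_DadeSupp.1 hs
    refine h2 a ha k hk (x⁻¹ * g) (mul_mem (inv_mem hx) hg) (x⁻¹ * g' * t * (x⁻¹ * g')⁻¹)
      (by rw [conj_mul, ht]; simp) ?_
    calc _ = x⁻¹ * (g * t * g⁻¹ * (g' * t * g'⁻¹)) * x := by group
      _ = _ := by rw [e1]; group

theorem pr_conj {j : M} (h : j.w = 0) (m : M) : (m * j * m⁻¹).w = 0 := by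
  rw [← pr_eq_one] at h ⊢
  simp [h]

theorem comm_T {a b : M} (ha : a.w = 0) (hb : b.w = 0) : a * b = b * a := by
  obtain ⟨a, _⟩ := a
  obtain ⟨b, _⟩ := b
  cases ha; cases hb
  exact fT a b

structure Hyp (f : M →* G) : Prop where
  inj : Function.Injective f
  cent : ∀ j : M, j.w = 0 → j ≠ 1 → C1 (f j) ≤ f.range
  sc : ∀ j : M, j.w = 0 → ∀ g m, g * f j * g⁻¹ = f m → m.w = 0

namespace Hyp

variable {f : M →* G} (h : Hyp f)
include h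

theorem ti {j : M} (h1 : j.w = 0) (h2 : j ≠ 1) {g : G} (h3 : g * f j * g⁻¹ ∈ f.range) :
    g ∈ f.range := by
  have ne : ∀ {k k' : M}, k ≠ 1 → g * f k * g⁻¹ = f k' → k' ≠ 1 := by
    rintro k k' hk e rfl
    rw [map_one, conj_eq_one_iff, map_eq_one_iff f h.inj] at e
    exact hk e
  have cm : ∀ {k k' y : M}, k'.w = 0 → k ≠ 1 → g * f k * g⁻¹ = f k' → y * k = k * y →
      ∃ y', f y' = g * f y * g⁻¹ ∧ y' * k' = k' * y' := by
    intro k k' y h4 h5 e hc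
    have : g * f y * g⁻¹ * f k' = f k' * (g * f y * g⁻¹) := by
      rw [← e, conj_mul, conj_mul, ← map_mul, ← map_mul, hc]
    obtain ⟨y', hy'⟩ := h.cent k' h4 (ne h5 e) (mem_centralizer_singleton_iff.2 this)
    exact ⟨y', hy', h.inj (by rw [map_mul, map_mul, hy', this])⟩
  obtain ⟨j', e⟩ := h3
  have hz : zz ≠ 1 := by decide
  obtain ⟨z', e1, -⟩ := cm (h.sc j h1 g j' e.symm) h2 e.symm (comm_T (a := zz) rfl h1)
  have hz' := h.sc zz rfl g z' e1.symm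
  obtain ⟨y, e2, hy⟩ := cm hz' hz e1.symm (show xx * zz = zz * xx by decide +kernel)
  obtain ⟨w, e3⟩ := fA2 z' (fA1 z' hz' (ne hz e1.symm) y hy (h.inj (by
    rw [map_pow, e2, conj_pow, ← map_pow, show xx ^ 3 = 1 by decide +kernel]; simp)) fun h0 => by
      have := h.sc y h0 g⁻¹ xx (by rw [e2]; group)
      revert this; decide)
  have : (f ⟨0, w⟩)⁻¹ * g ∈ f.range := h.cent zz rfl hz (mem_C1_iff_conj.2 (by
    have := congrArg f e3
    rw [e1, map_mul, map_mul, map_inv] at this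
    calc _ = (f ⟨0, w⟩)⁻¹ * (g * f zz * g⁻¹) * f ⟨0, w⟩ := by group
      _ = _ := by rw [← this]; group))
  simpa using mul_mem (⟨⟨0, w⟩, rfl⟩ : f ⟨0, w⟩ ∈ f.range) this

theorem conj3 {Y : Subgroup G} {j : M} (h1 : j.w = 0) (h2 : j ≠ 1) (h3 : f j ∈ Y)
    (hY : ∀ y, f y ∈ Y → y ^ 3 = 1 → y.w = 0) {k : M} (k1 : k.w = 0) (k2 : k ≠ 1) {g : G}
    (hg : g * f k * g⁻¹ ∈ Y) : ∃ c ∈ Y, c * g ∈ f.range := by
  have : Fact (Nat.Prime 3) := ⟨Nat.prime_three⟩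
  have p3 : ∀ k : M, k.w = 0 → ∀ g : G, IsPGroup 3 (zpowers (g * f k * g⁻¹)) := fun k hk g =>
    CfsgH8.isPGroup_zpowers_of_pow (by rw [conj_pow, ← map_pow, fT3 k hk]; simp)
  obtain ⟨P, hP1, hP⟩ := exists_sylIn_ge (zpowers_le.2 h3) (p := 3)
    (CfsgH8.isPGroup_zpowers_of_pow (by rw [← map_pow, fT3 j h1, map_one]))
  have hjP : f j ∈ P := hP1 (mem_zpowers _)
  have hne : P ≠ ⊥ := fun e => h2 ((map_eq_one_iff f h.inj).1 (mem_bot.1 (e ▸ hjP)))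
  obtain ⟨u, hu, hu1⟩ := (bot_or_exists_ne_one _).resolve_left
    (Om1_Z_ne_bot Nat.prime_three hP.isPGroup hne)
  have hu3 : u ^ 3 = 1 := ((mem_Om1_of_ab (ab_Z P)).1 hu).2
  have huZ : u ∈ Z P := Om1_le _ _ hu
  obtain ⟨y, rfl⟩ := h.cent j h1 h2 (mem_centralizer_singleton_iff.2
    (mem_centralizer_iff.1 huZ.2 _ hjP).symm)
  have hPH : P ≤ f.range := fun x hx => h.cent y (hY y (hP.le huZ.1) (h.inj (by
      rw [map_pow, hu3, map_one]))) (fun e => hu1 (by rw [e, map_one]))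
    (mem_centralizer_singleton_iff.2 (mem_centralizer_iff.1 huZ.2 _ hx))
  obtain ⟨c, hc, e⟩ := hP.exists_le_cj (zpowers_le.2 hg) (p3 k k1 g)
  refine ⟨c⁻¹, inv_mem hc, h.ti k1 k2 ?_⟩
  have := hPH (mem_cj.1 (e (mem_zpowers _)))
  convert this using 1
  group

theorem fus {X : Subgroup G} (hX : ∀ j : M, j.w = 0 → f j ∈ X) {t s : M} (h1 : t * t = 1)
    (h2 : t ≠ 1) {g : G} (hg : g ∈ X) (e : g * f t * g⁻¹ = f s) :
    ∃ m, f m ∈ X ∧ s = m * t * m⁻¹ := by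
  have ne : ∀ v : Fin 27, v ≠ 0 → (⟨v, 0⟩ : M) ≠ 1 := fun v hv e => hv (congrArg M.v e)
  obtain ⟨v, v1, v2⟩ := fG s (h.inj (by rw [map_mul, ← e, conj_mul, ← map_mul, h1]; simp))
  obtain ⟨u, u1, u2⟩ := fG t h1
  obtain ⟨c, hc, m, hm⟩ := h.conj3 (Y := X ⊓ C1 (f t)) (j := ⟨u, 0⟩) rfl (ne u u1)
    ⟨hX _ rfl, mem_centralizer_singleton_iff.2 (by rw [← map_mul, u2, map_mul])⟩
    (fun y hy h3 => fF h1 h2 h3 (h.inj (by
      rw [map_mul, map_mul]; exact mem_centralizer_singleton_iff.1 hy.2)))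
    (k := ⟨v, 0⟩) rfl (ne v v1) (g := g⁻¹)
    ⟨X.mul_mem (X.mul_mem (X.inv_mem hg) (hX _ rfl)) (X.inv_mem (X.inv_mem hg)),
      mem_centralizer_singleton_iff.2 (by
        have := congrArg f v2
        rw [map_mul, map_mul, ← e] at this
        calc _ = g⁻¹ * (f ⟨v, 0⟩ * (g * f t * g⁻¹)) * g := by group
          _ = _ := by rw [this]; group)⟩
  refine ⟨m⁻¹, ?_, h.inj ?_⟩
  · rw [map_inv, hm]; exact inv_mem (mul_mem hc.1 (inv_mem hg))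
  · rw [map_mul, map_mul, map_inv, map_inv, map_inv, hm, ← e]
    conv_rhs => rw [← mem_C1_iff_conj.1 hc.2]
    group

theorem nE {a : M} (ha : pA a) {g : G} (hg : ∀ x ∈ f.range ⊓ C1 (f a), g * x * g⁻¹ ∈ f.range) :
    g ∈ f.range := by
  obtain ⟨z, z1, z2, -⟩ := fB a ha
  refine h.ti z1.1 (fun e => by rw [e] at z1; revert z1; decide) (hg _ ⟨⟨z, rfl⟩, ?_⟩)
  exact mem_centralizer_singleton_iff.2 (by rw [← map_mul, z2, map_mul])

theorem memE {a : M} {x : G} (hx : x ∈ f.range ⊓ C1 (f a)) : ∃ y, f y = x ∧ y * a = a * y := by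
  obtain ⟨⟨y, rfl⟩, h2⟩ := hx
  exact ⟨y, rfl, h.inj (by rw [map_mul, map_mul]; exact mem_centralizer_singleton_iff.1 h2)⟩

theorem pE {a : M} (ha : pA a) : IsPGroup 3 ↥(f.range ⊓ C1 (f a)) := by
  rintro ⟨x, hx⟩
  obtain ⟨y, rfl, hy⟩ := h.memE hx
  exact ⟨2, Subtype.ext (by simp [← map_pow, fB9 ha hy])⟩

theorem selfN {a : M} (ha : pA a) :
    ⊤ ⊓ C1 (f a) ⊓ N (f.range ⊓ C1 (f a)) ≤ f.range ⊓ C1 (f a) := fun g hg =>
  ⟨h.nE ha fun x hx => ((mem_normalizer_iff.1 hg.2 x).1 hx).1, hg.1.2⟩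

theorem sylE {a : M} (ha : pA a) : SylIn 3 (f.range ⊓ C1 (f a)) (⊤ ⊓ C1 (f a)) := by
  refine sylIn_of_sylIn_N Nat.prime_three ?_
  rw [le_antisymm (h.selfN ha) (le_inf (le_inf le_top inf_le_right) le_normalizer)]
  exact sylIn_self (h.pE ha)

theorem dade1 : DadeHyp ⊤ f.range {g | ∃ m, pb m * pb m ≠ 1 ∧ f m = g}
    fun a => Opc 3 (⊤ ⊓ C1 a) where
  le := le_top
  one_not_mem := by
    rintro ⟨m, h1, h2⟩
    rw [(map_eq_one_iff f h.inj).1 h2] at h1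
    simp at h1
  sub := by rintro _ ⟨m, -, rfl⟩; exact ⟨m, rfl⟩
  conj_mem := by
    rintro _ ⟨x, rfl⟩ _ ⟨m, h1, rfl⟩
    refine ⟨x * m * x⁻¹, ?_, by simp⟩
    rwa [map_mul, map_mul, map_inv, conj_mul, Ne, conj_eq_one_iff]
  fusion := by
    have : Fact (Nat.Prime 3) := ⟨Nat.prime_three⟩
    rintro _ ⟨a, ha, rfl⟩ g - ⟨b, hb, e⟩
    rw [pb_sq] at ha hb
    obtain ⟨c, hc, h1⟩ := (h.sylE hb).exists_le_cj (X := cj g (f.range ⊓ C1 (f a)))
      (by rw [e, ← cj_C1]; exact le_inf le_top (cj_mono inf_le_right)) ((h.pE ha).map _)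
    refine ⟨c⁻¹ * g, h.nE ha fun x hx => ?_, ?_⟩
    · have : c⁻¹ * (g * x * g⁻¹) * c ∈ f.range := (mem_cj.1 (h1 (conj_mem_cj.2 hx))).1
      convert this using 1
      group
    · calc _ = c⁻¹ * (g * f a * g⁻¹) * c⁻¹⁻¹ := by group
        _ = _ := by rw [← e]; exact mem_C1_iff_conj.1 (inv_mem hc.2)
  sdp := by
    rintro _ ⟨a, ha, rfl⟩
    rw [pb_sq] at ha
    refine (h.sylE ha).sdp_of_le_C Nat.prime_three ((h.selfN ha).trans fun x hx => ?_)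
    refine mem_centralizer_iff.2 fun y hy => ?_
    obtain ⟨x, rfl, h1⟩ := h.memE hx
    obtain ⟨y, rfl, h2⟩ := h.memE hy
    rw [← map_mul, ← map_mul, fBc ha h1 h2]
  coprime := by
    rintro a - _ ⟨b, hb, rfl⟩
    exact coprime_Opc Nat.prime_three _ (h.pE ((pb_sq b).1 hb))

theorem step1 : ∃ K, NormalIn K ⊤ ∧ f (tt 0) ∈ K ∧ ∀ m, pA m → f m ∉ K := by
  have : Fact (Nat.Prime 3) := ⟨Nat.prime_three⟩
  obtain ⟨q1, q2, q3, -⟩ := fQ 0
  have ht : f (tt 0) * f (tt 0) = 1 := by rw [← map_mul, q1, map_one]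
  refine (s3_lemma' h.inj pb pb_surj (fun _ => Iff.rfl) h.dade1 (mem_top _) ht ?_).imp
    fun K ⟨h1, h2, h3⟩ => ⟨h1, h2, fun m hm => h3 _ ⟨m, (pb_sq m).2 hm, rfl⟩⟩
  rintro _ ⟨a, ha', rfl⟩ k hk g - b hb e
  have ha := (pb_sq a).1 ha'
  have inv : ∀ s b : G, s * s = 1 → b * b = 1 → s * (s * b) * s⁻¹ = (s * b)⁻¹ := by
    intro s b hs hb
    rw [← mul_assoc, hs, one_mul, mul_inv_rev s b, inv_eq_of_mul_eq_one_right hb]
  set s := g * f (tt 0) * g⁻¹ with hs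
  have s2 : s * s = 1 := by rw [hs, conj_mul, ht]; simp
  have sa : s * f a * s⁻¹ = (f a)⁻¹ := by
    obtain ⟨n, e1⟩ := mem_zpowers_iff.1
      (h.dade1.ppart_mul ⟨a, ha', rfl⟩ hk ▸ ppart_mem_zpowers _ (k * f a) :)
    rw [← e1, ← conj_zpow, ← e, inv s b s2 hb, inv_zpow]
  obtain ⟨c, hc, e1⟩ := (h.sylE ha).frattini (g := s) (by
    rw [top_inf_eq, cj_C1, sa, C1_inv])
  obtain ⟨n, hn⟩ := h.nE ha (g := c * s) fun x hx => (e1.le (conj_mem_cj.2 hx)).1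
  have sdp := h.dade1.sdp _ ⟨a, ha', rfl⟩
  obtain ⟨k', hk', e', he', e2⟩ := sdp.exists_mul (inv_mem hc)
  obtain ⟨e0, rfl, -⟩ := h.memE he'
  have e3 : s = k' * f (e0 * n) := by rw [map_mul, hn, ← mul_assoc, ← e2]; group
  obtain ⟨z, z1, z2, -, z4⟩ := fB a ha
  have z0 : z ≠ 1 := fun e => by rw [e] at z1; revert z1; decide
  have kc : k'⁻¹ * (f a)⁻¹ * k' = (f a)⁻¹ := by
    have := mem_C1_iff_conj.1 (inv_mem (Opc_le _ _ hk').2)
    rw [inv_inv] at this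
    conv_rhs => rw [← this]
    group
  have e4 := congrArg f (z4 (e0 * n) (h.inj (by
    rw [map_mul, map_mul _ (e0 * n), map_inv, map_inv, ← kc, ← sa, e3]; group)))
  rw [map_mul, map_mul _ (e0 * n), map_inv, map_inv] at e4
  have zY : f z ∈ ⊤ ⊓ C1 (f a) :=
    ⟨mem_top _, mem_centralizer_singleton_iff.2 (by rw [← map_mul, z2, map_mul])⟩
  have z3 : f z ^ 3 = 1 := by rw [← map_pow, fT3 z z1.1, map_one]
  obtain ⟨x, -, c', hc', e5⟩ := exists_conj_cent_coset (K := Opc 3 (⊤ ⊓ C1 (f a))) (b := f z)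
    ((nrm_Opc _ _).le_N zY) (((Nat.coprime_comm.1 ((Nat.Prime.coprime_iff_not_dvd
      Nat.prime_three).2 (not_dvd_card_Opc Nat.prime_three _))).symm).of_dvd_left
      (orderOf_dvd_of_pow_eq_one z3))
    (k := k' * ((f z)⁻¹ * k'⁻¹ * (f z)⁻¹⁻¹))
    (mul_mem hk' (nrm_Opc _ _ _ (inv_mem zY) _ (inv_mem hk')))
  have c1 : c' = 1 := mem_bot.1 (sdp.inf.le ⟨hc'.1, h.cent z z1.1 z0 hc'.2, (Opc_le _ _ hc'.1).2⟩)
  have e6 : s * (f z * s * (f z)⁻¹) = x * f z * x⁻¹ := by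
    rw [c1, one_mul] at e5
    rw [← e5]
    calc _ = s * f z * s⁻¹ * (f z)⁻¹ := by rw [inv_eq_of_mul_eq_one_right s2]; group
      _ = k' * (f (e0 * n) * f z * (f (e0 * n))⁻¹) * k'⁻¹ * (f z)⁻¹ := by rw [e3]; group
      _ = k' * (f z)⁻¹ * k'⁻¹ * (f z)⁻¹ * f z ^ 3 := by rw [e4, z3, mul_one]
      _ = _ := by rw [pow_three]; group
  have e7 := inv s (f z * s * (f z)⁻¹) s2 (by rw [conj_mul, s2]; simp)
  rw [e6] at e7
  have e8 : x⁻¹ * s * x * f z * (x⁻¹ * s * x)⁻¹ = f z⁻¹ := by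
    calc _ = x⁻¹ * (s * (x * f z * x⁻¹) * s⁻¹) * x := by group
      _ = _ := by rw [e7, map_inv]; group
  obtain ⟨s0, e9⟩ := h.ti z1.1 z0 ⟨_, e8.symm⟩
  obtain ⟨m, -, rfl⟩ := h.fus (X := ⊤) (fun _ _ => mem_top _) q1 q2 (mem_top (x⁻¹ * g)) (s := s0)
    (by rw [e9, hs]; group)
  refine fH z z1 (m * tt 0 * m⁻¹) ((pb_one _).1 ?_) (h.inj ?_)
  · rw [map_mul, map_mul, (pb_one _).2 q3]; simp
  · rw [map_mul, map_mul _ (m * tt 0 * m⁻¹), map_inv, e9, e8]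

theorem step1' : ∃ K, NormalIn K ⊤ ∧ ∀ m, f m ∈ K ↔ p0 m := by
  obtain ⟨K, h1, h2, h3⟩ := h.step1
  have cj : ∀ {m}, f m ∈ K → ∀ x, f (x * m * x⁻¹) ∈ K := fun hm x => by
    rw [map_mul, map_mul, map_inv]; exact h1.nrm _ (mem_top _) _ hm
  have t1 : f (tt 1) ∈ K := (fQ 0).2.2.2.2.2.2.1 ▸ cj h2 xx
  have t2 : f (tt 2) ∈ K := (fQ 1).2.2.2.2.2.2.1 ▸ cj t1 xx
  have tK : ∀ i, f (tt i) ∈ K := fun i => by fin_cases i <;> assumption
  have eK : ∀ i, f (ee (i + 1)) ∈ K := fun i => by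
    rw [← (fQ i).2.2.2.2.2.1, map_mul]; exact mul_mem (tK i) (cj (tK i) _)
  refine ⟨K, h1, fun m => ⟨fun hm => ?_, fun hm => ?_⟩⟩
  · by_contra e
    rcases fI m e with e | e
    · exact h3 m e hm
    · exact h3 _ e (by rw [map_mul]; exact mul_mem hm (cj hm xx))
  · obtain ⟨a, b, c, e⟩ := fJ1 m.v
    rw [fJ3 m, e]
    simp only [map_mul, map_pow]
    refine mul_mem (mul_mem (mul_mem (pow_mem (eK 2) _) (pow_mem (eK 0) _)) (pow_mem (eK 1) _)) ?_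
    rcases fJ4 m.w hm with e | ⟨i, e⟩
    · rw [e]; exact (map_one f).symm ▸ one_mem K
    · exact e ▸ tK i

theorem step2 {X : Subgroup G} (hX : ∀ m, f m ∈ X ↔ p0 m) (i : Fin 3) :
    ∃ K, NormalIn K X ∧ f (tt i) ∈ K ∧ ∀ m, pB i m → f m ∉ K := by
  obtain ⟨q1, q2, q3, -, -, -, -, -, -, q4⟩ := fQ i
  have ht : f (tt i) * f (tt i) = 1 := by rw [← map_mul, q1, map_one]
  have hf : Function.Injective (f.comp pb.ker.subtype) := h.inj.comp Subtype.val_injective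
  have hr : ∀ g, g ∈ X → g ∈ f.range → g ∈ (f.comp pb.ker.subtype).range := by
    rintro _ h1 ⟨m, rfl⟩
    exact ⟨⟨m, (pb_one m).2 ((hX m).1 h1)⟩, rfl⟩
  have a4 : ∀ a : pb.ker, rh i a * rh i a ≠ 1 → ((a : M) ^ 4).w = 0 ∧ (a : M) ^ 4 ≠ 1 :=
    fun a ha => fK a ((pb_one _).1 a.2) fun e => ha (by
      rw [← map_mul, show a * a = 1 from Subtype.ext e, map_one])
  have key : ∀ g ∈ X, ∀ a : pb.ker, rh i a * rh i a ≠ 1 → g * f a * g⁻¹ ∈ f.range →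
      g ∈ (f.comp pb.ker.subtype).range := fun g hg a ha e =>
    hr g hg (h.ti (a4 a ha).1 (a4 a ha).2 (by rw [map_pow, ← conj_pow]; exact pow_mem e 4))
  have hTI : NormedTI {g | ∃ m, rh i m * rh i m ≠ 1 ∧ f.comp pb.ker.subtype m = g} X
      (f.comp pb.ker.subtype).range := by
    refine ⟨?_, ?_, ?_, ?_⟩
    · obtain ⟨m, hm⟩ := rh_surj i (Equiv.swap 0 1 * Equiv.swap 1 2)
      exact ⟨_, m, by rw [hm]; decide, rfl⟩
    · rintro _ ⟨m, rfl⟩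
      exact (hX m).2 ((pb_one _).1 m.2)
    · rintro _ ⟨x, rfl⟩ _ ⟨m, h1, rfl⟩
      refine ⟨x * m * x⁻¹, ?_, by simp⟩
      rwa [map_mul, map_mul, map_inv, conj_mul, Ne, conj_eq_one_iff]
    · rintro g hg _ ⟨a, ha, rfl⟩ ⟨b, -, e⟩
      exact key g hg a ha ⟨b, e⟩
  have hD := hTI.dadeHyp (by
    rintro _ ⟨m, h1, rfl⟩
    refine ⟨(hX m).2 ((pb_one _).1 m.2), fun e => h1 ?_⟩
    rw [(map_eq_one_iff _ hf).1 e]; simp)
  refine (s3_lemma' hf (rh i) (rh_surj i) (fun _ => Iff.rfl) hD ((hX _).2 q3) ht ?_).imp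
    fun K ⟨h1, h2, h3⟩ =>
      ⟨h1, h2, fun m hm => h3 _ ⟨⟨m, (pb_one m).2 hm.1⟩, (rh_sq i _).2 hm, rfl⟩⟩
  rintro _ ⟨a, ha, rfl⟩ k hk g hg b hb e
  rw [mem_bot.1 hk, one_mul] at e
  set s := g * f (tt i) * g⁻¹ with hs
  have s2 : s * s = 1 := by rw [hs, conj_mul, ht]; simp
  have sa : s * f a * s⁻¹ = f (a : M)⁻¹ := by
    rw [map_inv, show f a = s * b from e.symm, ← mul_assoc, s2, one_mul, mul_inv_rev s b,
      inv_eq_of_mul_eq_one_right hb]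
  obtain ⟨s0, e1⟩ := key s (mul_mem (mul_mem hg ((hX _).2 q3)) (inv_mem hg)) a ha ⟨_, sa.symm⟩
  obtain ⟨m, hm, e2⟩ := h.fus (X := X) (fun j hj => (hX j).2 (by unfold p0; rw [hj]; decide)) q1 q2
    hg (s := s0) e1.symm
  have r1 : rh i ⟨tt i, (pb_one _).2 q3⟩ = 1 := Equiv.ext q4
  have r2 : rh i s0 = 1 := by
    rw [show s0 = ⟨m, (pb_one _).2 ((hX m).1 hm)⟩ * ⟨tt i, (pb_one _).2 q3⟩ *
      ⟨m, (pb_one _).2 ((hX m).1 hm)⟩⁻¹ from Subtype.ext e2, map_mul, map_mul, r1]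
    simp
  have r3 : s0 * a * s0⁻¹ = a⁻¹ := hf (by rw [map_mul, map_mul, map_inv, e1]; exact sa)
  have r4 := congrArg (rh i) r3
  rw [map_mul, map_mul, map_inv, r2, map_inv, one_mul, inv_one, mul_one] at r4
  exact ha (by nth_rw 1 [r4]; simp)

theorem main : f.range = ⊤ := by
  obtain ⟨X, hXn, hX⟩ := h.step1'
  choose K k1 k2 k3 using h.step2 hX
  have pT : ∀ j : M, j.w = 0 → p0 j := fun j hj => by unfold p0; rw [hj]; decide
  have eK : ∀ i, f (ee (i + 1)) ∈ K i := fun i => by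
    rw [← (fQ i).2.2.2.2.2.1, map_mul, map_mul, map_mul, map_inv]
    exact mul_mem (k2 i) ((k1 i).nrm _ ((hX _).2 (pT _ (fQ _).2.2.2.1)) _ (k2 i))
  have fr : ∀ i, ∀ g ∈ X, ∃ c ∈ K i, c * g ∈ f.range := fun i g hg =>
    h.conj3 (fQ _).2.2.2.1 (fQ _).2.2.2.2.1 (eK i)
      (fun y hy h3 => (fE y h3).resolve_right (fM y ((hX y).1 ((k1 i).le hy))))
      (fQ _).2.2.2.1 (fQ _).2.2.2.2.1 ((k1 i).nrm g hg _ (eK i))
  have nK : ∀ g ∈ X, ∀ k ∈ ⨅ i, K i, g * k * g⁻¹ ∈ ⨅ i, K i := fun g hg k hk =>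
    mem_iInf.2 fun i => (k1 i).nrm g hg k (mem_iInf.1 hk i)
  have KT : ∀ y : M, y.w = 0 → f y ∈ ⨅ i, K i → y = 1 := fun y hy hk => by
    by_contra e
    obtain ⟨i, hi⟩ := fN y hy e
    exact k3 i y hi (mem_iInf.1 hk i)
  have hK : ⨅ i, K i = ⊥ := by
    refine CfsgH8.eq_bot_of_fpf_pp (T := pr.ker.map f) ?_ ?_ Nat.prime_three (z := f (ee 0))
      (a := f (ee 1)) ⟨_, rfl, rfl⟩ ⟨_, rfl, rfl⟩ ?_ ?_ ?_ ?_
    · rintro _ ⟨j, hj, rfl⟩
      exact nK _ ((hX j).2 (pT j (pr_eq_one.1 hj)))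
    · rintro _ ⟨j, hj, rfl⟩ j1 k hk e
      obtain ⟨m, rfl⟩ := h.cent j (pr_eq_one.1 hj) (fun e => j1 (by rw [e, map_one]))
        (mem_centralizer_singleton_iff.2 e.symm)
      rw [KT m (fL m fun i => ?_) hk, map_one]
      have h1 := KT (m * ee i * m⁻¹ * (ee i)⁻¹) (by
        rw [← pr_eq_one, map_mul, map_inv, pr_eq_one.2 (pr_conj (fQ i).2.2.2.1 m),
          pr_eq_one.2 (fQ i).2.2.2.1]; simp) (by
        have := mul_mem hk (nK _ ((hX _).2 (pT _ (fQ i).2.2.2.1)) _ (inv_mem hk))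
        simpa only [map_mul, map_inv, mul_assoc] using this)
      rwa [mul_inv_eq_one, mul_inv_eq_iff_eq_mul] at h1
    · rw [orderOf_injective f h.inj]
      exact orderOf_eq_prime (fT3 _ rfl) (by decide)
    · rw [← map_pow, fT3 _ rfl, map_one]
    · rw [← map_mul, ← map_mul, comm_T rfl rfl]
    · refine CfsgH8.not_mem_zpowers_of_lt (n := 3) (by norm_num)
        (by rw [← map_pow, fT3 _ rfl, map_one]) fun i e => ?_
      rw [← map_pow] at e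
      have := h.inj e
      revert this i
      have : ∀ i : Fin 3, ee 0 ^ i.val ≠ ee 1 := by decide +kernel
      exact fun i _ => this i
  have e0 : f (ee 0) ∈ X := (hX _).2 (pT _ rfl)
  have hXH : X ≤ f.range := by
    intro g hg
    refine h.ti (j := ee 0) rfl (by decide) (h.cent (ee 0) rfl (by decide) ?_)
    have : g * f (ee 0) * g⁻¹ * f (ee 0) * (g * f (ee 0) * g⁻¹)⁻¹ * (f (ee 0))⁻¹ ∈ ⨅ i, K i := by
      refine mem_iInf.2 fun i => ?_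
      obtain ⟨c, hc, m, hm⟩ := fr i g hg
      have hm' : f m ∈ X := hm ▸ mul_mem ((k1 i).le hc) hg
      have e1 := congrArg f (comm_T (pr_conj (j := ee 0) rfl m) (b := ee 0) rfl)
      simp only [map_mul, map_inv] at e1
      set w := f m * f (ee 0) * (f m)⁻¹ with hw
      have wX : w ∈ X := mul_mem (mul_mem hm' e0) (inv_mem hm')
      have e2 : g * f (ee 0) * g⁻¹ = c⁻¹ * w * c := by rw [hw, hm]; group
      have n := (k1 i).nrm
      have := mul_mem (mul_mem (mul_mem (inv_mem hc) (n w wX c hc))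
        (n _ (mul_mem wX e0) _ (inv_mem hc))) (n _ e0 c hc)
      convert this using 1
      rw [e2]
      calc _ = c⁻¹ * w * c * f (ee 0) * c⁻¹ * (w * f (ee 0))⁻¹ * f (ee 0) * c *
          (f (ee 0))⁻¹ := by rw [e1]; group
        _ = _ := by group
    rw [hK, mem_bot, mul_inv_eq_one, mul_inv_eq_iff_eq_mul] at this
    exact mem_centralizer_singleton_iff.2 this
  exact eq_top_iff.2 fun g _ =>
    h.ti (j := ee 0) rfl (by decide) (hXH (hXn.nrm g (mem_top g) _ e0))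

end Hyp

end CfsgH3.N9
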