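import Cfsg.Agent.H3.S3Lem

set_option autoImplicit false

/-! A table model of `3³ : S₄`, the normalizer in `A₉` of `⟨(123), (456), (789)⟩`. -/

namespace CfsgH3.N9

open Subgroup

def TW : ℕ := 963083904067687740382735603551689790147753333418677730851915356374567097974957112575863131996239068055923001004403506150795281191190920846141744853349985126505427498725276702117869127575727930333969630230266788003694818243872477377286486892174864225286507265199805722399513218724366521145231041304945935782458849498836985413339277262656543733815870597513957888108524598833545755037078744427520723529335585824425723682293446964617925868942572772314561998565413250558024005584205178041195721112450911944985254980831311300737842154825946411835640822693186939405523677139322961202011889075464832150459845881892697145867523939936971093167672118517404002720525875751366839575021710876658696210406344600236528194449607891204522884717127757952986887367704934359527340708609740998571683450709658446377951332934764400421412397882957658075244984472824790822941658012205549600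
def TA : ℕ := 75150505046255314798489685391020665237269972839199016236531863363015665923001742456229351084689902038717653518106513130657617068951229356428726003026906558492358800083830573113440275144003476052792566941892602299777882364067977349437797343320406671996792905576379887716021511817167104349238407880929698114267539042482426851509991408548239687044287684350879104229713496183531221886070170445757491667269417590182330052389652361431412526514097498441893367359840187151311886577666816048503013842125104194134019618082310076531812189072690233597194014516619233243125301861877697925561107732711607147553334350514889071336740785786945591258504409916514741656346870155555294402327657245846420144069164440426495388895400094139477523038370528629171041859228100866534512951703527148976704232518721536083035883438230600251534393140141788263715281931504014876240028758486139783903237238956894586976306404170572266036570986620563972084529839927404151829155220209832186651094278309047543203462320134402358042272281330674243114372448018502334876350344569499375583300284542602561201339169671287012408772920583751712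
def TX : ℕ := 930037117061230230000611638961823016346630034531844249859755422866678225805821032362209539092620938605955852502841580205913410932050199097669242712036275445141011685646858021368968287955567367400181005896179350225197040793541610182778637812059636679080743750802656654572985214334894830771262189470605534326327924726062087118743068716299169786780381593640987373000852876358478741864516227692160090274133306838809839463054225406002915990514748881812169535907436631118231818850203499407465588104262422355528721017255673438259959172788528163673161119182204442624140588660478382471272619741390852754312138927191177392529282823300981761908329718085910554166567855087550347210964197106839995551767641933227340316082783465330803580201456621077394608404577530979389341496945048130553994441709940217592979731150557372111896333750532290996555476833549658042526787981172242030541446478172224802998095310547291755233902590633684444427180791120675766054382045605511011360629780845758089248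
def TI : ℕ := 982224427065455782826412183800350752
def TN : ℕ := 18306815260805972811530360991366254888000
def TT : ℕ := 126867962033134250519387639185486599482552754005053797647932007847142812903928452255612321532963258320509967634060123929972369918239951400180099674528933951817258343933032270882220805111781770611656879829175594554243256426240994837612878114706821331801909514180505631066150123153788269995225356062710986511770001708596280177127158022510708576376535074265569570162720
def TL : ℕ := 430156172076816067012642423169578154124523423180868981757030230281683346250888913585150800171804889572535744120431010399462467052453918220981260993249339541997464560493550632275527736400238394923483849153039679918174431015677405564082360778470074195310990521329096764935309859535875994325490953440877311990816427907515254816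

def lk (T k : ℕ) : ℕ := Nat.mod (Nat.shiftRight T (Nat.mul 5 k)) 32
def f24 (n : ℕ) : Fin 24 := ⟨Nat.mod n 24, Nat.mod_lt _ (by decide)⟩
def f27 (n : ℕ) : Fin 27 := ⟨Nat.mod n 27, Nat.mod_lt _ (by decide)⟩
def f9 (n : ℕ) : Fin 9 := ⟨Nat.mod n 9, Nat.mod_lt _ (by decide)⟩
def wm (a b : Fin 24) : Fin 24 := f24 (lk TW (Nat.add (Nat.mul 24 a.val) b.val))
def wi (a : Fin 24) : Fin 24 := f24 (lk TI a.val)
def va (a b : Fin 27) : Fin 27 := f27 (lk TA (Nat.add (Nat.mul 27 a.val) b.val))
def vn (a : Fin 27) : Fin 27 := f27 (lk TN a.val)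
def ac (a : Fin 24) (b : Fin 27) : Fin 27 := f27 (lk TX (Nat.add (Nat.mul 27 a.val) b.val))
def tr (a : Fin 27) (i : Fin 9) : Fin 9 := f9 (lk TT (Nat.add (Nat.mul 9 a.val) i.val))
def lw (a : Fin 24) (i : Fin 9) : Fin 9 := f9 (lk TL (Nat.add (Nat.mul 9 a.val) i.val))

@[ext] structure M where
  v : Fin 27
  w : Fin 24
  deriving DecidableEq, Fintype

instance (priority := high) decAll (p : M → Prop) [DecidablePred p] : Decidable (∀ m, p m) :=
  decidable_of_iff (∀ v : Fin 27, ∀ w : Fin 24, p ⟨v, w⟩) ⟨fun h m => h m.v m.w, fun h _ _ => h _⟩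
instance (priority := high) decEx (p : M → Prop) [DecidablePred p] : Decidable (∃ m, p m) :=
  decidable_of_iff (∃ v : Fin 27, ∃ w : Fin 24, p ⟨v, w⟩)
    ⟨fun ⟨_, _, h⟩ => ⟨_, h⟩, fun ⟨m, h⟩ => ⟨m.v, m.w, h⟩⟩

theorem wm_assoc : ∀ a b c, wm (wm a b) c = wm a (wm b c) := by decide +kernel
theorem va_assoc : ∀ a b c, va (va a b) c = va a (va b c) := by decide +kernel
theorem ac_va : ∀ a b c, ac a (va b c) = va (ac a b) (ac a c) := by decide +kernel
theorem ac_wm : ∀ a b c, ac (wm a b) c = ac a (ac b c) := by decide +kernel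

instance instGroupM : Group M where
  mul x y := ⟨va x.v (ac x.w y.v), wm x.w y.w⟩
  one := ⟨0, 0⟩
  inv x := ⟨ac (wi x.w) (vn x.v), wi x.w⟩
  mul_assoc x y z := M.ext (by
    show va (va x.v (ac x.w y.v)) (ac (wm x.w y.w) z.v) = va x.v (ac x.w (va y.v (ac y.w z.v)))
    rw [va_assoc, ac_va, ac_wm]) (wm_assoc _ _ _)
  one_mul := by decide +kernel
  mul_one := by decide +kernel
  inv_mul_cancel := by decide +kernel

theorem tr_va : ∀ a b i, tr (va a b) i = tr a (tr b i) := by decide +kernel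
theorem lw_wm : ∀ a b i, lw (wm a b) i = lw a (lw b i) := by decide +kernel
theorem lw_tr : ∀ a b i, lw a (tr b i) = tr (ac a b) (lw a i) := by decide +kernel

def act (m : M) (i : Fin 9) : Fin 9 := tr m.v (lw m.w i)

theorem act_mul (x y : M) (i : Fin 9) : act (x * y) i = act x (act y i) := by
  show tr (va x.v (ac x.w y.v)) (lw (wm x.w y.w) i) = tr x.v (lw x.w (tr y.v (lw y.w i)))
  rw [tr_va, lw_wm, lw_tr]

/-- the permutation representation. -/
def F : M →* Equiv.Perm (Fin 9) := MonoidHom.toHomPerm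
  { toFun := fun m => act m
    map_one' := funext (by decide +kernel)
    map_mul' := fun x y => funext (act_mul x y) }

theorem F_apply (m : M) (i : Fin 9) : F m i = act m i := rfl

theorem F_inj : Function.Injective F := by
  rw [injective_iff_map_eq_one]
  intro m hm
  have h : ∀ i, act m i = i := fun i => by rw [← F_apply, hm]; rfl
  revert h m
  have : ∀ m : M, (∀ i, act m i = i) → m = 1 := by decide +kernel
  exact fun m _ => this m

def bl (a : Fin 24) (i : Fin 3) : Fin 3 := Fin.ofNat 3 ((lw a (Fin.ofNat 9 (3 * i.val))).val / 3)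
theorem bl_wm : ∀ a b i, bl (wm a b) i = bl a (bl b i) := by decide +kernel

/-- the action on blocks. -/
def pb : M →* Equiv.Perm (Fin 3) := MonoidHom.toHomPerm
  { toFun := fun m => bl m.w
    map_one' := funext (by decide +kernel)
    map_mul' := fun x y => funext (bl_wm x.w y.w) }

def pA (m : M) : Prop := 12 ≤ m.w.val ∧ m.w.val ≤ 19
instance : DecidablePred pA := fun _ => inferInstanceAs (Decidable (_ ∧ _))
def p0 (m : M) : Prop := m.w.val ≤ 3
instance : DecidablePred p0 := fun _ => inferInstanceAs (Decidable (_ ≤ _))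
def Z8 (m : M) : Prop := m.w = 0 ∧ m.v.val % 3 ≠ 0 ∧ m.v.val / 3 % 3 ≠ 0 ∧ m.v.val / 9 ≠ 0
instance : DecidablePred Z8 := fun _ => inferInstanceAs (Decidable (_ ∧ _))

theorem pb_sq : ∀ m, pb m * pb m ≠ 1 ↔ pA m := by decide +kernel
theorem pb_one : ∀ m, pb m = 1 ↔ p0 m := by decide +kernel
theorem pb_surj : Function.Surjective pb := by
  have : ∀ s, ∃ w : Fin 24, pb ⟨0, w⟩ = s := by decide +kernel
  exact fun s => (this s).elim fun w h => ⟨_, h⟩

def rf (i : Fin 3) (m : M) (a : Fin 3) : Fin 3 :=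
  Fin.ofNat 3 (act m (Fin.ofNat 9 (3 * i.val + a.val))).val
theorem rf_blk : ∀ m, p0 m → ∀ (i a : Fin 3),
    act m (Fin.ofNat 9 (3 * i.val + a.val)) = Fin.ofNat 9 (3 * i.val + (rf i m a).val) := by
  decide +kernel
theorem rf_mul (i : Fin 3) (m m' : M) (h : p0 m') (a : Fin 3) :
    rf i (m * m') a = rf i m (rf i m' a) := by
  rw [rf, act_mul, rf_blk m' h]; rfl

/-- the action of the kernel on the `i`-th block. -/
def rh (i : Fin 3) : pb.ker →* Equiv.Perm (Fin 3) := MonoidHom.toHomPerm
  { toFun := fun m => rf i m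
    map_one' := funext (by revert i; decide +kernel)
    map_mul' := fun x y => funext (rf_mul i x y ((pb_one _).1 y.2)) }

def pB (i : Fin 3) (m : M) : Prop := p0 m ∧ rf i m (rf i m 0) ≠ 0
instance (i : Fin 3) : DecidablePred (pB i) := fun _ => inferInstanceAs (Decidable (_ ∧ _))

theorem rh_sq (i : Fin 3) (m : pb.ker) : rh i m * rh i m ≠ 1 ↔ pB i m := by
  have h1 : ∀ s : Equiv.Perm (Fin 3), s * s ≠ 1 ↔ s (s 0) ≠ 0 := by decide
  rw [h1]
  exact ⟨fun h => ⟨(pb_one _).1 m.2, h⟩, fun h => h.2⟩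

theorem rh_surj (i : Fin 3) : Function.Surjective (rh i) := by
  have : ∀ (i : Fin 3) (s : Equiv.Perm (Fin 3)), ∃ m : M, p0 m ∧ ∀ a, rf i m a = s a := by
    decide +kernel
  intro s
  obtain ⟨m, h1, h2⟩ := this i s
  exact ⟨⟨m, (pb_one _).2 h1⟩, Equiv.ext h2⟩

def ee (i : Fin 3) : M := ⟨Fin.ofNat 27 (3 ^ i.val), 0⟩
def tt (i : Fin 3) : M := ⟨0, Fin.ofNat 24 (i.val + 1)⟩
def xx : M := ⟨0, 12⟩
def yy : M := ⟨0, 8⟩
def zz : M := ⟨13, 0⟩

/-- the projection onto the complement. -/
def pr : M →* M where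
  toFun m := ⟨0, m.w⟩
  map_one' := rfl
  map_mul' x y := M.ext (by
    have : ∀ w : Fin 24, (0 : Fin 27) = va 0 (ac w 0) := by decide +kernel
    exact this x.w) rfl

theorem pr_eq_one {m : M} : pr m = 1 ↔ m.w = 0 :=
  ⟨fun h => congrArg M.w h, fun h => M.ext rfl h⟩

theorem fT : ∀ a b : Fin 27, (⟨a, 0⟩ : M) * ⟨b, 0⟩ = ⟨b, 0⟩ * ⟨a, 0⟩ := by decide +kernel
theorem fT3 : ∀ a : M, a.w = 0 → a ^ 3 = 1 := by decide +kernel
theorem fA1 : ∀ j : M, j.w = 0 → j ≠ 1 → ∀ y, y * j = j * y → y ^ 3 = 1 → y.w ≠ 0 → Z8 j := by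
  decide +kernel
theorem fA2 : ∀ j : M, Z8 j → ∃ w : Fin 24, ⟨0, w⟩ * zz * (⟨0, w⟩ : M)⁻¹ = j := by decide +kernel
theorem fZ : ∀ m : M, Z8 (m⁻¹ * zz * m) := by decide +kernel
theorem fR : ∀ w : Fin 24, pA ⟨0, w⟩ → ∃ u : Fin 24, wm (wm u w) (wi u) = 12 := by decide +kernel
theorem fB0 : ∀ v : Fin 27, zz * ⟨v, 12⟩ = ⟨v, 12⟩ * zz ∧
    ∀ y : M, y * ⟨v, 12⟩ = ⟨v, 12⟩ * y → ∃ i k : Fin 3, y = ⟨v, 12⟩ ^ i.val * zz ^ k.val := by
  decide +kernel
theorem fD0 : ∀ n : M, (n * xx * n⁻¹).w = 16 → n * zz * n⁻¹ = zz⁻¹ := by decide +kernel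
theorem fC : ∀ a : M, pA a → a ^ 9 = 1 ∧ a * a ≠ 1 ∧ pA a⁻¹ := by decide +kernel
theorem fE : ∀ y : M, y ^ 3 = 1 → y.w = 0 ∨ pA y := by decide +kernel
theorem fG : ∀ s : M, s * s = 1 → ∃ v : Fin 27, v ≠ 0 ∧ ⟨v, 0⟩ * s = s * ⟨v, 0⟩ := by
  decide +kernel
theorem fH : ∀ z : M, Z8 z → ∀ n, p0 n → n * z * n⁻¹ ≠ z⁻¹ := by decide +kernel
theorem fI : ∀ n : M, ¬ p0 n → pA n ∨ pA (n * (xx * n * xx⁻¹)) := by decide +kernel
theorem fJ1 : ∀ v : Fin 27, ∃ a b c : Fin 3,
    (⟨v, 0⟩ : M) = ee 0 ^ a.val * ee 1 ^ b.val * ee 2 ^ c.val := by decide +kernel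
theorem fJ2 : ∀ w : Fin 24, ∃ (a b d : Fin 2) (c : Fin 3),
    (⟨0, w⟩ : M) = tt 2 ^ a.val * tt 0 ^ b.val * xx ^ c.val * yy ^ d.val := by decide +kernel
theorem fJ3 : ∀ m : M, m = ⟨m.v, 0⟩ * ⟨0, m.w⟩ := by decide +kernel
theorem fJ4 : ∀ w : Fin 24, p0 ⟨0, w⟩ → w = 0 ∨ ∃ i, tt i = ⟨0, w⟩ := by decide +kernel
theorem fK : ∀ a, p0 a → a * a ≠ 1 → (a ^ 4).w = 0 ∧ a ^ 4 ≠ 1 := by decide +kernel
theorem fL : ∀ m : M, (∀ i, m * ee i = ee i * m) → m.w = 0 := by decide +kernel
theorem fM : ∀ y : M, p0 y → ¬ pA y := by decide +kernel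
theorem fN : ∀ y : M, y.w = 0 → y ≠ 1 → ∃ i, pB i y := by decide +kernel
theorem fO : ∀ w : Fin 24, (⟨0, w⟩ : M) ^ 12 = 1 ∧ (w ≠ 0 → (⟨0, w⟩ : M) ^ 3 ≠ 1 ∨
    ((⟨0, w⟩ : M)⁻¹ * (tt 0 * ⟨0, w⟩ * (tt 0)⁻¹)) ^ 3 ≠ 1) := by decide +kernel
theorem fQ : ∀ i, tt i * tt i = 1 ∧ tt i ≠ 1 ∧ p0 (tt i) ∧ (ee i).w = 0 ∧ ee i ≠ 1 ∧
    tt i * (ee (i + 1) * tt i * (ee (i + 1))⁻¹) = ee (i + 1) ∧
    xx * tt i * xx⁻¹ = tt (i + 1) ∧ xx * ee i * xx⁻¹ = ee (i + 1) ∧ ee i * tt i = tt i * ee i ∧
    ∀ a, rf i (tt i) a = a := by decide +kernel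

theorem fB (a : M) (ha : pA a) : ∃ z, Z8 z ∧ z * a = a * z ∧
    (∀ y, y * a = a * y → ∃ i k : ℕ, y = a ^ i * z ^ k) ∧
    ∀ n, n * a * n⁻¹ = a⁻¹ → n * z * n⁻¹ = z⁻¹ := by
  obtain ⟨u, hu⟩ := fR a.w ha
  obtain ⟨m, v, rfl⟩ : ∃ (m : M) (v : Fin 27), a = m⁻¹ * ⟨v, 12⟩ * m := by
    refine ⟨⟨0, u⟩, (⟨0, u⟩ * a * (⟨0, u⟩ : M)⁻¹).v, ?_⟩
    have : (⟨(⟨0, u⟩ * a * (⟨0, u⟩ : M)⁻¹).v, 12⟩ : M) = ⟨0, u⟩ * a * (⟨0, u⟩ : M)⁻¹ :=
      M.ext rfl hu.symm
    rw [this]; group
  obtain ⟨h1, h2⟩ := fB0 v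
  generalize hb : (⟨v, 12⟩ : M) = b at h1 h2 ⊢
  have hc : ∀ (x : M) (k : ℕ), (m⁻¹ * x * m) ^ k = m⁻¹ * x ^ k * m := fun x k => by
    simpa using conj_pow (a := m⁻¹) (b := x) (i := k)
  refine ⟨m⁻¹ * zz * m, fZ m, ?_, fun y hy => ?_, fun n hn => ?_⟩
  · calc m⁻¹ * zz * m * (m⁻¹ * b * m) = m⁻¹ * (zz * b) * m := by group
      _ = _ := by rw [h1]; group
  · obtain ⟨i, k, h⟩ := h2 (m * y * m⁻¹) (by
      calc m * y * m⁻¹ * b = m * (y * (m⁻¹ * b * m)) * m⁻¹ := by group
        _ = _ := by rw [hy]; group)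
    refine ⟨i, k, ?_⟩
    rw [hc, hc]
    calc y = m⁻¹ * (m * y * m⁻¹) * m := by group
      _ = _ := by rw [h]; group
  · have h3 : m * n * m⁻¹ * b * (m * n * m⁻¹)⁻¹ = b⁻¹ := by
      calc m * n * m⁻¹ * b * (m * n * m⁻¹)⁻¹ = m * (n * (m⁻¹ * b * m) * n⁻¹) * m⁻¹ := by group
        _ = _ := by rw [hn]; group
    have h4 := fD0 (m * n * m⁻¹) (by
      have := congrArg M.w h3
      rw [← hb] at this
      exact this.trans (show wi 12 = 16 by decide +kernel))
    calc n * (m⁻¹ * zz * m) * n⁻¹ = m⁻¹ * (m * n * m⁻¹ * zz * (m * n * m⁻¹)⁻¹) * m := by group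
      _ = _ := by rw [h4]; group

theorem fB9 {a y : M} (ha : pA a) (hy : y * a = a * y) : y ^ 9 = 1 := by
  obtain ⟨z, h1, h2, h3, -⟩ := fB a ha
  obtain ⟨i, k, rfl⟩ := h3 y hy
  have hc : Commute a z := h2.symm
  rw [(hc.pow_pow i k).mul_pow, ← pow_mul, ← pow_mul, mul_comm i, mul_comm k, pow_mul, pow_mul,
    (fC a ha).1, show 9 = 3 * 3 from rfl, pow_mul, fT3 z h1.1]
  simp

theorem fBc {a y y' : M} (ha : pA a) (hy : y * a = a * y) (hy' : y' * a = a * y') :
    y * y' = y' * y := by
  obtain ⟨z, h1, h2, h3, -⟩ := fB a ha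
  obtain ⟨i, k, rfl⟩ := h3 y hy
  obtain ⟨i', k', rfl⟩ := h3 y' hy'
  have hc : Commute a z := h2.symm
  exact (((Commute.refl a).pow_pow i i').mul_right (hc.pow_pow i k')).mul_left
    ((hc.symm.pow_pow k i').mul_right ((Commute.refl z).pow_pow k k'))

theorem fF {s y : M} (h1 : s * s = 1) (h2 : s ≠ 1) (h3 : y ^ 3 = 1) (h4 : y * s = s * y) :
    y.w = 0 := by
  refine (fE y h3).resolve_right fun h => h2 ?_
  have := fB9 h h4.symm
  rwa [show 9 = 2 * 4 + 1 from rfl, pow_succ, pow_mul, pow_two, h1, one_pow, one_mul] at this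

theorem range_F : F.range = closure ({Equiv.swap (0 : Fin 9) 1 * Equiv.swap 1 2,
    Equiv.swap (0 : Fin 9) 3 * Equiv.swap 3 6 * (Equiv.swap (1 : Fin 9) 4 * Equiv.swap 4 7) *
      (Equiv.swap (2 : Fin 9) 5 * Equiv.swap 5 8),
    Equiv.swap (0 : Fin 9) 1 * Equiv.swap 3 4,
    Equiv.swap (0 : Fin 9) 3 * Equiv.swap 1 4 * Equiv.swap 2 5 * Equiv.swap 6 7} :
      Set (Equiv.Perm (Fin 9))) := by
  have g1 : F (ee 0) = Equiv.swap (0 : Fin 9) 1 * Equiv.swap 1 2 := by decide +kernel
  have g2 : F xx = Equiv.swap (0 : Fin 9) 3 * Equiv.swap 3 6 *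
    (Equiv.swap (1 : Fin 9) 4 * Equiv.swap 4 7) * (Equiv.swap (2 : Fin 9) 5 * Equiv.swap 5 8) := by
    decide +kernel
  have g3 : F ⟨4, 3⟩ = Equiv.swap (0 : Fin 9) 1 * Equiv.swap 3 4 := by decide +kernel
  have g4 : F ⟨9, 8⟩ = Equiv.swap (0 : Fin 9) 3 * Equiv.swap 1 4 * Equiv.swap 2 5 *
    Equiv.swap 6 7 := by decide +kernel
  rw [← g1, ← g2, ← g3, ← g4]
  refine le_antisymm ?_ ((closure_le _).2 ?_)
  · rintro _ ⟨m, rfl⟩
    set S := (closure {F (ee 0), F xx, F ⟨4, 3⟩, F ⟨9, 8⟩}).comap F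
    have h1 : ee 0 ∈ S := subset_closure (by simp)
    have h2 : xx ∈ S := subset_closure (by simp)
    have h3 : (⟨4, 3⟩ : M) ∈ S := subset_closure (by simp)
    have h4 : (⟨9, 8⟩ : M) ∈ S := subset_closure (by simp)
    have h5 : ee 1 ∈ S := (fQ 0).2.2.2.2.2.2.2.1 ▸ mul_mem (mul_mem h2 h1) (inv_mem h2)
    have h6 : ee 2 ∈ S := (fQ 1).2.2.2.2.2.2.2.1 ▸ mul_mem (mul_mem h2 h5) (inv_mem h2)
    have h7 : tt 2 ∈ S := (show (ee 0 * ee 1)⁻¹ * ⟨4, 3⟩ = tt 2 by decide +kernel) ▸
      mul_mem (inv_mem (mul_mem h1 h5)) h3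
    have h8 : tt 0 ∈ S := (fQ 2).2.2.2.2.2.2.1 ▸ mul_mem (mul_mem h2 h7) (inv_mem h2)
    have h9 : yy ∈ S := (show (ee 2)⁻¹ * ⟨9, 8⟩ = yy by decide +kernel) ▸ mul_mem (inv_mem h6) h4
    show m ∈ S
    obtain ⟨a, b, c, e⟩ := fJ1 m.v
    obtain ⟨a', b', d', c', e'⟩ := fJ2 m.w
    rw [fJ3 m, e, e']
    exact mul_mem (mul_mem (mul_mem (pow_mem h1 _) (pow_mem h5 _)) (pow_mem h6 _))
      (mul_mem (mul_mem (mul_mem (pow_mem h7 _) (pow_mem h8 _)) (pow_mem h2 _)) (pow_mem h9 _))
  · rintro _ (rfl | rfl | rfl | rfl) <;> exact ⟨_, rfl⟩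

end CfsgH3.N9
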