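import Cfsg.Agent.H7.OB0
import Cfsg.Agent.H4.OA4

/-!
Components of a point stabiliser: if only one component at `x` moves a given `y`, then components
at different points meet trivially.
-/

set_option autoImplicit false

namespace CfsgO3

open MulAction Subgroup CfsgOA CfsgH5

variable {G Ω : Type*} [Group G] [Finite G] [MulAction G Ω] {C : Ω → Set (Subgroup G)}

/-- a component fixing `y` and normalising a component at `y` centralises its stabiliser. -/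
theorem cen_stab (h : CfsgOB.CF C) {x : Ω} {T1 U : Subgroup G} (h1 : T1 ∈ C x)
    (nU : ∀ t ∈ T1, ∀ u ∈ U, t * u * t⁻¹ ∈ U) (ti : ∀ t ∈ T1, t ∈ U → t = 1)
    {c : G} (hc : c ∈ U) (cx : c • x = x) {t : G} (ht : t ∈ T1) : c * t = t * c := by
  have w : ∀ t ∈ T1, c * t * c⁻¹ * t⁻¹ ∈ U := fun t ht => by
    have := U.mul_mem hc (nU t ht _ (U.inv_mem hc))
    simpa [mul_assoc] using this
  have m : ∀ t ∈ T1, c * t * c⁻¹ ∈ cj c T1 := fun t ht => mem_cj.2 (by simpa [mul_assoc] using ht)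
  by_cases e : cj c T1 = T1
  · have := ti _ (T1.mul_mem (e ▸ m t ht) (T1.inv_mem ht)) (w t ht)
    calc c * t = c * t * c⁻¹ * t⁻¹ * (t * c) := by group
      _ = t * c := by rw [this, one_mul]
  · exfalso
    refine h.nab x T1 h1 ⟨⟨fun a b => Subtype.ext ?_⟩⟩
    have cm := h.comm x _ (h.cjm' cx h1) T1 h1 e _ (m a a.2) b b.2
    have k : (b : G) * (c * a * c⁻¹ * (a : G)⁻¹) * (b : G)⁻¹ * (c * a * c⁻¹ * (a : G)⁻¹)⁻¹ ∈ U :=
      U.mul_mem (nU b b.2 _ (w a a.2)) (U.inv_mem (w a a.2))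
    have cm2 := h.comm x _ (h.cjm' cx h1) T1 h1 e _ (m a a.2) _
      (T1.mul_mem (T1.mul_mem (T1.mul_mem b.2 (T1.inv_mem a.2)) (T1.inv_mem b.2)) a.2)
    have eq : (b : G) * (c * a * c⁻¹ * (a : G)⁻¹) * (b : G)⁻¹ * (c * a * c⁻¹ * (a : G)⁻¹)⁻¹ =
        b * (a : G)⁻¹ * (b : G)⁻¹ * a := by
      calc (b : G) * (c * a * c⁻¹ * (a : G)⁻¹) * (b : G)⁻¹ * (c * a * c⁻¹ * (a : G)⁻¹)⁻¹
          = (b * (c * a * c⁻¹)) * ((a : G)⁻¹ * (b : G)⁻¹ * a) * (c * a * c⁻¹)⁻¹ := by group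
        _ = (c * a * c⁻¹ * (b * (a : G)⁻¹ * (b : G)⁻¹ * a)) * (c * a * c⁻¹)⁻¹ := by
          rw [← cm]; group
        _ = _ := by rw [cm2]; group
    rw [eq] at k
    have := ti _ (T1.mul_mem (T1.mul_mem (T1.mul_mem b.2 (T1.inv_mem a.2)) (T1.inv_mem b.2)) a.2) k
    show (a : G) * b = b * a
    generalize (a : G) = a at this ⊢
    generalize (b : G) = b at this ⊢
    calc a * b = a * (b * a⁻¹ * b⁻¹ * a) * (a⁻¹ * b * a) := by group
      _ = b * a := by rw [this]; group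

/-- such a component fixes only its own point on the orbit. -/
theorem only_fix (h : CfsgOB.CF C) {x y : Ω} {T1 U : Subgroup G} (h1 : T1 ∈ C x) (hU : U ∈ C y)
    (nU : ∀ t ∈ T1, ∀ u ∈ U, t * u * t⁻¹ ∈ U) (ti : ∀ t ∈ T1, t ∈ U → t = 1)
    (mv : ∃ u ∈ U, u • x ≠ x) {r : G} (hr : r ∈ U) (fx : ∀ t ∈ T1, t • r • x = r • x) :
    r • x = x := by
  have pU : ∀ t ∈ T1, r⁻¹ * t * r * t⁻¹ ∈ U := fun t ht => by
    have := U.mul_mem (U.inv_mem hr) (nU t ht _ hr)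
    simpa [mul_assoc] using this
  have px : ∀ t ∈ T1, (r⁻¹ * t * r * t⁻¹) • x = x := fun t ht => by
    rw [mul_smul, mul_smul, mul_smul, h.fix x T1 h1 _ (T1.inv_mem ht), fx t ht, inv_smul_smul]
  let f : T1 → U := fun t => ⟨r⁻¹ * t * r * (t : G)⁻¹, pU t t.2⟩
  have ninj : ¬ Function.Injective f := fun inj => by
    have := (inj.bijective_of_nat_card_le (h.card_eq hU h1).le).2
    obtain ⟨u, hu, ux⟩ := mv
    obtain ⟨t, e⟩ := this ⟨u, hu⟩
    have e' : r⁻¹ * t * r * (t : G)⁻¹ = u := congrArg Subtype.val e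
    exact ux (e' ▸ px t t.2)
  obtain ⟨a, b, e, ab⟩ := Function.not_injective_iff.1 ninj
  have e' : r⁻¹ * a * r * (a : G)⁻¹ = r⁻¹ * b * r * (b : G)⁻¹ := congrArg Subtype.val e
  have le : T1 ≤ centralizer {r} := by
    refine CfsgOB.simp_le (h.simp x T1 h1) (fun g hg t ht tT => ?_) (r := (b : G)⁻¹ * a) ?_
      (T1.mul_mem (T1.inv_mem b.2) a.2) fun e => ab (Subtype.ext (inv_mul_eq_one.1 e).symm)
    · rw [mem_centralizer_singleton_iff] at ht ⊢
      have c1 := cen_stab h h1 nU ti (pU _ (T1.inv_mem hg)) (px _ (T1.inv_mem hg)) tT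
      calc g * t * g⁻¹ * r = g * (t * r) * (r⁻¹ * g⁻¹ * r * g⁻¹⁻¹) * g⁻¹ := by group
        _ = g * r * (t * (r⁻¹ * g⁻¹ * r * g⁻¹⁻¹)) * g⁻¹ := by rw [ht]; group
        _ = r * (g * t * g⁻¹) := by
          rw [← c1]
          have c2 := cen_stab h h1 nU ti (pU _ (T1.inv_mem hg)) (px _ (T1.inv_mem hg)) hg
          calc g * r * (r⁻¹ * g⁻¹ * r * g⁻¹⁻¹ * t) * g⁻¹ = r * (g * t * g⁻¹) := by group
            _ = _ := rfl
    · rw [mem_centralizer_singleton_iff]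
      calc (b : G)⁻¹ * a * r = (b : G)⁻¹ * r * (r⁻¹ * a * r * (a : G)⁻¹) * a := by group
        _ = r * ((b : G)⁻¹ * a) := by
          rw [e']; group
  have : cj r T1 = T1 := CfsgOB.cj_of_comm fun s hs =>
    (mem_centralizer_singleton_iff.1 (le hs)).symm
  exact h.uniq (h.cjm r x T1 h1) (this.symm ▸ h1)

theorem one_mover' (h : CfsgOB.CF C)
    (om : ∀ x y, x ≠ y → ∀ T ∈ C x, ∀ T1 ∈ C x, (∃ t ∈ T, t • y ≠ y) → (∃ t ∈ T1, t • y ≠ y) →
      T = T1) {x y : Ω} (xy : x ≠ y) {T U : Subgroup G} (hT : T ∈ C x) (hU : U ∈ C y) :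
    T ⊓ U = ⊥ := by
  rw [eq_bot_iff]
  rintro s ⟨sT, sU⟩
  by_contra s1
  rw [mem_bot] at s1
  have mT := h.moves xy hT hU sT sU s1
  have mU := h.moves xy.symm hU hT sU sT s1
  obtain ⟨T1, h1, ne⟩ := h.twoc x T hT
  have fy : ∀ t ∈ T1, t • y = y := fun t ht => by
    by_contra n
    exact ne (om x y xy T1 h1 T hT ⟨t, ht, n⟩ mT)
  have nU : ∀ t ∈ T1, ∀ u ∈ U, t * u * t⁻¹ ∈ U := fun t ht u hu => by
    have : cj t U = U := h.eq_of_mem (h.cjm' (fy t ht) hU) hU (mem_cj.2 (by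
      rw [mul_assoc, ← h.comm x T1 h1 T hT ne t ht s sT, inv_mul_cancel_left]; exact sU)) sU s1
    rw [← this]
    exact mem_cj.2 (by simpa [mul_assoc] using hu)
  have ti : ∀ t ∈ T1, t ∈ U → t = 1 := fun t ht tU => by
    by_contra t1
    obtain ⟨a, ha, ay⟩ := h.moves xy h1 hU ht tU t1
    exact ay (fy a ha)
  have fx : ∀ r ∈ U, s • r • x = r • x := fun r hr => by
    by_cases e : r • x = x
    · rw [e, h.fix x T hT s sT]
    · by_contra n
      refine ne (om x (r • x) (Ne.symm e) T1 h1 T hT ?_ ⟨s, sT, n⟩)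
      by_contra q
      push Not at q
      exact e (only_fix h h1 hU nU ti mU hr q)
  let R : Subgroup G :=
    { carrier := {g | ∀ r ∈ U, g • r • x = r • x}
      one_mem' := fun r _ => one_smul _ _
      mul_mem' := fun {a b} ha hb r hr => by rw [mul_smul, hb r hr, ha r hr]
      inv_mem' := fun {a} ha r hr => by rw [inv_smul_eq_iff, ha r hr] }
  have le : U ≤ R := CfsgOB.simp_le (h.simp y U hU) (fun g hg t ht _ r hr => by
    rw [mul_smul, mul_smul, ← mul_smul g⁻¹, ht _ (U.mul_mem (U.inv_mem hg) hr), mul_smul,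
      smul_inv_smul]) (r := s) fx sU s1
  obtain ⟨u, hu, ux⟩ := mU
  exact ux (by simpa using le hu 1 U.one_mem)

theorem one_mover [FaithfulSMul G Ω] (two : Two G Ω) (hC : CF C)
    (om : ∀ x y, x ≠ y → ∀ T ∈ C x, ∀ T1 ∈ C x, (∃ t ∈ T, t • y ≠ y) → (∃ t ∈ T1, t • y ≠ y) →
      T = T1) {x y : Ω} (xy : x ≠ y) {T U : Subgroup G} (hT : T ∈ C x) (hU : U ∈ C y) :
    T ⊓ U = ⊥ := one_mover' (CfsgOB.CF.of_OA two hC) om xy hT hU

end CfsgO3
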