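import Cfsg.Agent.FT.Base2

set_option autoImplicit false
set_option linter.unusedSectionVars false

/-! S3617, kernel prime `2`: there are no singular translations. -/

namespace CfsgQ3

open Subgroup CfsgH5 CfsgH6 CfsgFT
open scoped commutatorElement

universe u

variable {G : Type u} [Group G] [Finite G]

/-- the facts about the block system that are used for `p = 2`. -/
structure BS (K : G → Prop) (Blk : Subgroup G → Prop) : Prop where
  kconj : ∀ {x : G}, K x → ∀ g : G, K (g * x * g⁻¹)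
  bconj : ∀ {R : Subgroup G}, Blk R → ∀ g : G, Blk (cj g R)
  pg : ∀ {R : Subgroup G}, Blk R → IsPGroup 2 R
  pts : ∀ {R : Subgroup G} {x y : G}, Blk R → K x → K y → x ∈ N R → y ∈ N R → x⁻¹ * y ∈ R
  pts2 : ∀ {R : Subgroup G} {x y : G}, Blk R → K x → K y → x ∈ N R → y ∈ N R →
    ∃ a ∈ R, y = a * x * a⁻¹
  exb : ∀ {P : Subgroup G} {x : G}, K x → IsPGroup 2 P → x ∈ N P →
    ∃ R, Blk R ∧ x ∈ N R ∧ P ≤ N R
  pair : ∀ {x y : G}, K x → K y → ∃ R, Blk R ∧ x ∈ N R ∧ y ∈ N R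
  sq : ∀ {R : Subgroup G} {a : G}, Blk R → a ∈ R → a * a ∈ ⁅R, R⁆
  cen : ∀ {R : Subgroup G} {a u : G}, Blk R → a ∈ R → u ∈ ⁅R, R⁆ → u * a = a * u
  cenK : ∀ {R : Subgroup G} {x u : G}, Blk R → K x → x ∈ N R → u ∈ ⁅R, R⁆ → u * x = x * u
  ne : ∀ {R : Subgroup G}, Blk R → ⁅R, R⁆ ≠ ⊥
  ti : ∀ {R R1 : Subgroup G} {u : G}, Blk R → Blk R1 → u ∈ ⁅R, R⁆ → u ∈ ⁅R1, R1⁆ → u ≠ 1 → R = R1
  na : ∀ {R R1 : Subgroup G} {x u : G}, Blk R → Blk R1 → K x → x ∈ N R → x ∈ N R1 →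
    u ∈ ⁅R, R⁆ → u ∈ N R1 → u ≠ 1 → R = R1
  gen : ∀ H : Subgroup G, (∀ x, K x → x ∈ H) → H = ⊤
  op : ∀ H : Subgroup G, H.Normal → IsPGroup 2 H → H = ⊥

variable {K : G → Prop} {Blk : Subgroup G → Prop}

theorem closure_sq {T : Set G} (h1 : ∀ t ∈ T, t * t = 1) (h2 : ∀ t ∈ T, ∀ t' ∈ T, t * t' = t' * t)
    {g : G} (hg : g ∈ closure T) : g * g = 1 := by
  have hc : ∀ g ∈ closure T, ∀ h ∈ closure T, g * h = h * g := by
    have e1 : ∀ t ∈ T, ∀ h ∈ closure T, t * h = h * t := fun t ht h hh =>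
      (mem_C1.mp ((closure_le (C1 t)).mpr (fun t' ht' => mem_C1.mpr (h2 t' ht' t ht)) hh)).symm
    intro g hg h hh
    exact mem_C1.mp ((closure_le (C1 h)).mpr (fun t ht => mem_C1.mpr (e1 t ht h hh)) hg)
  induction hg using closure_induction with
  | mem t ht => exact h1 t ht
  | one => simp
  | mul a b ha hb iha ihb =>
    calc a * b * (a * b) = a * (b * a) * b := by group
      _ = a * (a * b) * b := by rw [hc a ha b hb]
      _ = (a * a) * (b * b) := by group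
      _ = 1 := by rw [iha, ihb, mul_one]
  | inv a _ iha => rw [← mul_inv_rev, iha, inv_one]

/-- non-commuting singular elements lie in a common block. -/
theorem BS.c1a (h : BS K Blk) {x s s1 : G} (hx : K x) (hs : K (x * s)) (hs1 : K (x * s1))
    (q : s * s = 1) (q1 : s1 * s1 = 1) (hn : s * s1 ≠ s1 * s) :
    ∃ R, Blk R ∧ x ∈ N R ∧ x * s ∈ N R ∧ x * s1 ∈ N R := by
  obtain ⟨R, hR, hy, hy1⟩ := h.pair hs hs1
  have si : s⁻¹ = s := inv_eq_of_mul_eq_one_right q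
  have si1 : s1⁻¹ = s1 := inv_eq_of_mul_eq_one_right q1
  have m : s * s1 ∈ R := by
    have := h.pts hR hs hs1 hy hy1
    rwa [mul_inv_rev, mul_assoc, inv_mul_cancel_left, si] at this
  have u2 := h.sq hR m
  have e : s * (s * s1 * (s * s1)) * s⁻¹ = (s * s1 * (s * s1))⁻¹ := by
    simp only [mul_inv_rev, si, si1]
    calc s * (s * s1 * (s * s1)) * s = (s * s) * (s1 * s * s1 * s) := by group
      _ = s1 * s * (s1 * s) := by rw [q]; group
  have une : (s * s1 * (s * s1))⁻¹ ≠ 1 := by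
    intro e1
    apply hn
    rw [inv_eq_one] at e1
    have := inv_eq_of_mul_eq_one_right e1
    rw [mul_inv_rev, si, si1] at this
    exact this.symm
  have hRR : R = cj s R := by
    refine h.ti hR (h.bconj hR s) (inv_mem u2) ?_ une
    rw [← cj_commutator, ← e]
    exact conj_mem_cj.mpr u2
  have sN : s ∈ N R := mem_N.mpr hRR.symm
  refine ⟨R, hR, ?_, hy, hy1⟩
  have := mul_mem hy (inv_mem sN)
  rwa [mul_inv_cancel_right] at this

theorem nrm_closure_conj (x s : G) :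
    x ∈ N (closure {t | ∃ g ∈ zpowers x, t = g * s * g⁻¹}) := by
  refine mem_N_of_conj fun t ht => ?_
  induction ht using closure_induction with
  | mem t ht =>
    obtain ⟨g, hg, rfl⟩ := ht
    exact subset_closure ⟨x * g, mul_mem (mem_zpowers x) hg, by group⟩
  | one => simpa using one_mem _
  | mul a b _ _ iha ihb =>
    have := mul_mem iha ihb
    rwa [show x * a * x⁻¹ * (x * b * x⁻¹) = x * (a * b) * x⁻¹ by group] at this
  | inv a _ iha =>
    have := inv_mem iha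
    rwa [show (x * a * x⁻¹)⁻¹ = x * a⁻¹ * x⁻¹ by group] at this

/-- two singular elements at a point lie in a common block. -/
theorem BS.c1 (h : BS K Blk) {x s s1 : G} (hx : K x) (hs : K (x * s)) (hs1 : K (x * s1))
    (q : s * s = 1) (q1 : s1 * s1 = 1) :
    ∃ R, Blk R ∧ x ∈ N R ∧ x * s ∈ N R ∧ x * s1 ∈ N R := by
  have cx : ∀ g ∈ zpowers x, ∀ t : G, x * (g * t * g⁻¹) = g * (x * t) * g⁻¹ := by
    intro g hg t
    have : x * g = g * x := by
      obtain ⟨n, rfl⟩ := hg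
      exact (Commute.zpow_right (Commute.refl x) n).eq
    calc x * (g * t * g⁻¹) = (x * g) * t * g⁻¹ := by group
      _ = g * (x * t) * g⁻¹ := by rw [this]; group
  have sqc : ∀ g t : G, t * t = 1 → g * t * g⁻¹ * (g * t * g⁻¹) = 1 := fun g t ht => by
    calc g * t * g⁻¹ * (g * t * g⁻¹) = g * (t * t) * g⁻¹ := by group
      _ = 1 := by rw [ht]; group
  by_cases hc : ∀ g ∈ zpowers x, ∀ g1 ∈ zpowers x,
      (g * s * g⁻¹) * (g1 * s1 * g1⁻¹) = (g1 * s1 * g1⁻¹) * (g * s * g⁻¹)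
  · have pA : ∀ t : G, K (x * t) → IsPGroup 2 (closure {w | ∃ g ∈ zpowers x, w = g * t * g⁻¹}) := by
      intro t ht
      obtain ⟨R, hR, h1, h2⟩ := h.pair hx ht
      have m : t ∈ R := by simpa using h.pts hR hx ht h1 h2
      refine (h.pg hR).to_le ((closure_le _).mpr ?_)
      rintro _ ⟨g, hg, rfl⟩
      exact conj_mem_of_mem_N ((zpowers_le.mpr h1) hg) m
    set A := closure {w | ∃ g ∈ zpowers x, w = g * s * g⁻¹} with hA
    set A1 := closure {w | ∃ g ∈ zpowers x, w = g * s1 * g⁻¹} with hA1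
    have hcc : A ≤ C A1 := by
      rw [hA, closure_le]
      rintro _ ⟨g, hg, rfl⟩
      have : A1 ≤ C1 (g * s * g⁻¹) := by
        rw [hA1, closure_le]
        rintro _ ⟨g1, hg1, rfl⟩
        exact mem_C1.mpr (hc g hg g1 hg1).symm
      exact fun w hw => mem_C1.mp (this hw)
    have hP : IsPGroup 2 ↥(A ⊔ A1) :=
      isPGroup_sup Nat.prime_two (pA s hs) (pA s1 hs1) (Or.inl (nrm_of_le_C hcc))
    have xN : x ∈ N (A ⊔ A1) := by
      rw [mem_N, cj_sup, mem_N.mp (nrm_closure_conj x s), mem_N.mp (nrm_closure_conj x s1)]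
    obtain ⟨R, hR, h1, h2⟩ := h.exb hx hP xN
    refine ⟨R, hR, h1, mul_mem h1 (h2 (mem_sup_left ?_)), mul_mem h1 (h2 (mem_sup_right ?_))⟩
    · exact subset_closure ⟨1, one_mem _, by group⟩
    · exact subset_closure ⟨1, one_mem _, by group⟩
  · push Not at hc
    obtain ⟨g, hg, g1, hg1, hn⟩ := hc
    obtain ⟨R, hR, h1, h2, h3⟩ := h.c1a hx (by rw [cx g hg]; exact h.kconj hs g)
      (by rw [cx g1 hg1]; exact h.kconj hs1 g1) (sqc g s q) (sqc g1 s1 q1) hn
    rw [cx g hg] at h2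
    rw [cx g1 hg1] at h3
    have a1 : g ∈ N R := (zpowers_le.mpr h1) hg
    have a2 : g1 ∈ N R := (zpowers_le.mpr h1) hg1
    refine ⟨R, hR, h1, ?_, ?_⟩
    · have := mul_mem (mul_mem (inv_mem a1) h2) a1
      rwa [show g⁻¹ * (g * (x * s) * g⁻¹) * g = x * s by group] at this
    · have := mul_mem (mul_mem (inv_mem a2) h3) a2
      rwa [show g1⁻¹ * (g1 * (x * s1) * g1⁻¹) * g1 = x * s1 by group] at this

theorem BS.inv_mem (h : BS K Blk) {R : Subgroup G} (hR : Blk R) :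
    ∃ u ∈ ⁅R, R⁆, u ≠ 1 ∧ u * u = 1 := by
  haveI : Fact (Nat.Prime 2) := ⟨Nat.prime_two⟩
  have hP : IsPGroup 2 ↥⁅R, R⁆ := (h.pg hR).to_le (D_le R)
  obtain ⟨n, hn⟩ := IsPGroup.iff_card.mp hP
  have hd : 2 ∣ Nat.card ↥⁅R, R⁆ := by
    rw [hn]
    refine dvd_pow_self 2 fun e => h.ne hR ?_
    rw [e, pow_zero] at hn
    exact card_eq_one.mp hn
  obtain ⟨u, hu⟩ := exists_prime_orderOf_dvd_card' 2 hd
  refine ⟨u, u.2, fun e => ?_, ?_⟩
  · have : u = 1 := Subtype.ext e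
    rw [this, orderOf_one] at hu
    norm_num at hu
  · have := pow_orderOf_eq_one u
    rw [hu, pow_two] at this
    exact congrArg Subtype.val this

/-- a singular element lies in every block on its point. -/
theorem BS.c2 (h : BS K Blk) {x s : G} (hx : K x) (hs : K (x * s)) (q : s * s = 1)
    {R : Subgroup G} (hR : Blk R) (xR : x ∈ N R) : s ∈ R := by
  obtain ⟨u, hu, u1, uu⟩ := h.inv_mem hR
  have ux := h.cenK hR hx xR hu
  have ui : u⁻¹ = u := inv_eq_of_mul_eq_one_right uu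
  have e1 : x * (u * s * u⁻¹) = u * (x * s) * u⁻¹ := by
    calc x * (u * s * u⁻¹) = (x * u) * s * u⁻¹ := by group
      _ = u * (x * s) * u⁻¹ := by rw [← ux]; group
  have hs1 : K (x * (u * s * u⁻¹)) := by rw [e1]; exact h.kconj hs u
  obtain ⟨R2, hR2, h1, h2, h3⟩ := h.c1 hx hs hs1 q (by
    calc u * s * u⁻¹ * (u * s * u⁻¹) = u * (s * s) * u⁻¹ := by group
      _ = 1 := by rw [q]; group)
  have m1 : s ∈ R2 := by simpa using h.pts hR2 hx hs h1 h2
  have m2 : u * s * u⁻¹ ∈ R2 := by simpa using h.pts hR2 hx hs1 h1 h3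
  have m3 : s ∈ cj u R2 := by
    rw [mem_cj, ui]
    rwa [ui] at m2
  have xN1 : x ∈ N (cj u R2) := by
    rw [← cj_N, mem_cj]
    rwa [show u⁻¹ * x * u = x by rw [mul_assoc, ← ux]; group]
  set D0 := R2 ⊓ cj u R2 with hD0
  have pD : IsPGroup 2 D0 := (h.pg hR2).to_le inf_le_left
  have uN : u ∈ N D0 := by
    refine mem_N_of_conj fun w hw => ⟨?_, conj_mem_cj.mpr hw.1⟩
    have := mem_cj.mp hw.2
    rwa [ui] at this ⊢
  have xN : x ∈ N D0 := mem_N_of_conj fun w hw =>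
    ⟨conj_mem_of_mem_N h1 hw.1, conj_mem_of_mem_N xN1 hw.2⟩
  have pU : IsPGroup 2 (zpowers u) :=
    (h.pg hR).to_le (zpowers_le.mpr (D_le R hu))
  have hP : IsPGroup 2 ↥(D0 ⊔ zpowers u) :=
    isPGroup_sup Nat.prime_two pD pU (Or.inr (nrm_of_le_N (zpowers_le.mpr uN)))
  have xP : x ∈ N (D0 ⊔ zpowers u) := by
    rw [mem_N, cj_sup, mem_N.mp xN, cj_zpowers, ← ux, mul_inv_cancel_right]
  obtain ⟨R3, hR3, k1, k2⟩ := h.exb hx hP xP
  have e := h.na hR hR3 hx xR k1 hu (k2 (mem_sup_right (mem_zpowers u))) u1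
  subst e
  simpa using h.pts hR hx hs xR (mul_mem xR (k2 (mem_sup_left ⟨m1, m3⟩)))

theorem BS.c3 (h : BS K Blk) {x s s1 : G} (hx : K x) (hs : K (x * s)) (hs1 : K (x * s1))
    (q : s * s = 1) (q1 : s1 * s1 = 1) : s * s1 = s1 * s := by
  obtain ⟨R, hR, xR, -⟩ := h.pair hx hx
  by_contra hn
  have all : ∀ y, K y → y ∈ N R := by
    intro y hy
    obtain ⟨R1, hR1, h1, h2⟩ := h.pair hx hy
    have : R = R1 := h.ti hR hR1
      (commutator_mem_commutator (h.c2 hx hs q hR xR) (h.c2 hx hs1 q1 hR xR))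
      (commutator_mem_commutator (h.c2 hx hs q hR1 h1) (h.c2 hx hs1 q1 hR1 h1))
      (fun e => hn (commutatorElement_eq_one_iff_mul_comm.mp e))
    rwa [this]
  have hb := h.op R (normalizer_eq_top_iff.mp (h.gen _ all)) (h.pg hR)
  exact h.ne hR (by rw [hb]; simp)

/-- no singular translations. -/
theorem BS.no_sing (h : BS K Blk) {x y : G} (hx : K x) (hy : K y)
    (q : x⁻¹ * y * (x⁻¹ * y) = 1) : x = y := by
  set s := x⁻¹ * y with hs0
  have hs : K (x * s) := by rw [hs0, mul_inv_cancel_left]; exact hy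
  have c4 : ∀ g : G, s * (g * s * g⁻¹) = (g * s * g⁻¹) * s := by
    intro g
    obtain ⟨R, hR, h1, h2⟩ := h.pair hx (h.kconj hx g)
    obtain ⟨a, ha, ea⟩ := h.pts2 hR hx (h.kconj hx g) h1 h2
    set s2 := a⁻¹ * (g * s * g⁻¹) * a with hs2
    have k2 : K (x * s2) := by
      have := h.kconj (h.kconj hs g) a⁻¹
      have e : x = a⁻¹ * (g * x * g⁻¹) * a := by rw [ea]; group
      rwa [show a⁻¹ * (g * (x * s) * g⁻¹) * a⁻¹⁻¹ = (a⁻¹ * (g * x * g⁻¹) * a) * s2 by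
        rw [hs2]; group, ← e] at this
    have q2 : s2 * s2 = 1 := by
      calc s2 * s2 = a⁻¹ * g * (s * s) * g⁻¹ * a := by rw [hs2]; group
        _ = 1 := by rw [q]; group
    have m := h.c2 hx hs q hR h1
    have m2 := h.c2 hx k2 q2 hR h1
    have c := h.c3 hx hs k2 q q2
    have cc := h.cen hR m (commutator_mem_commutator ha m2)
    have e : g * s * g⁻¹ = ⁅a, s2⁆ * s2 := by rw [commutatorElement_def, hs2]; group
    rw [e]
    calc s * (⁅a, s2⁆ * s2) = (s * ⁅a, s2⁆) * s2 := by group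
      _ = ⁅a, s2⁆ * (s * s2) := by rw [← cc, mul_assoc ⁅a, s2⁆ s s2]
      _ = ⁅a, s2⁆ * s2 * s := by rw [c, mul_assoc ⁅a, s2⁆ s2 s]
  have hP : IsPGroup 2 (normalClosure ({s} : Set G)) := by
    intro g
    refine ⟨1, Subtype.ext ?_⟩
    rw [pow_one, pow_two]
    refine closure_sq (T := Group.conjugatesOfSet {s}) ?_ ?_ g.2
    · intro t ht
      obtain ⟨_, rfl, hc⟩ := Group.mem_conjugatesOfSet_iff.mp ht
      obtain ⟨c, rfl⟩ := isConj_iff.mp hc
      calc c * s * c⁻¹ * (c * s * c⁻¹) = c * (s * s) * c⁻¹ := by group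
        _ = 1 := by rw [q]; group
    · intro t ht t' ht'
      obtain ⟨_, rfl, hc⟩ := Group.mem_conjugatesOfSet_iff.mp ht
      obtain ⟨c, rfl⟩ := isConj_iff.mp hc
      obtain ⟨_, rfl, hc'⟩ := Group.mem_conjugatesOfSet_iff.mp ht'
      obtain ⟨d, rfl⟩ := isConj_iff.mp hc'
      have := c4 (c⁻¹ * d)
      calc c * s * c⁻¹ * (d * s * d⁻¹) = c * (s * (c⁻¹ * d * s * (c⁻¹ * d)⁻¹)) * c⁻¹ := by group
        _ = c * ((c⁻¹ * d * s * (c⁻¹ * d)⁻¹) * s) * c⁻¹ := by rw [this]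
        _ = d * s * d⁻¹ * (c * s * c⁻¹) := by group
  have hb := h.op _ inferInstance hP
  have : s ∈ normalClosure ({s} : Set G) := subset_normalClosure rfl
  rw [hb, mem_bot, hs0] at this
  exact inv_mul_eq_one.mp this

end CfsgQ3
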