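import Cfsg.Agent.H3.QE
import Cfsg.Agent.H1.QD

set_option autoImplicit false
set_option linter.unusedSectionVars false

/-! S3617, kernel prime `2`: no singular translations, in the interface `CfsgQ.BK`. -/

namespace CfsgQ

open Subgroup CfsgH5 CfsgH6 CfsgFT
open scoped commutatorElement

universe u

variable {G : Type u} [Group G] [Finite G] {p r : ℕ} {K : Set G}

theorem BK.mem_N_Dl (h : BK p r K) {U : Set G} (hU : IsBlk r K U) {x : G} (hx : x ∈ U) :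
    x ∈ NS (Dl U : Set G) :=
  NS_le_NS_Dl U (h.cl_le U hU (subset_closure hx))

theorem BK.N_Dl_ne (h : BK p r K) {U : Set G} (hU : IsBlk r K U) : NS (Dl U : Set G) ≠ ⊤ := by
  intro e
  have hb := h.nor _ (normalizer_eq_top_iff.mp e) (h.pg U hU)
  obtain ⟨c, hc, c1⟩ := h.Z_ne U hU
  have := ZZ_le U hc
  rw [hb, mem_bot] at this
  exact c1 this

theorem BK.mem_of_N_Dl (h : BK p r K) {U : Set G} (hU : IsBlk r K U) {x : G} (hx : x ∈ K)
    (hn : x ∈ NS (Dl U : Set G)) : x ∈ U := by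
  obtain ⟨U', hU', -, hs⟩ := h.fl _ (h.N_Dl_ne hU) x hx hn ⊥ IsPGroup.of_bot bot_le
    (by
      have : NS ((⊥ : Subgroup G) : Set G) = ⊤ := normalizer_eq_top_iff.mpr inferInstance
      rw [this]; trivial)
  have e : U = U' := h.eq_of_sub U U' hU hU' fun y hy => hs ⟨h.sub U hU hy, h.mem_N_Dl hU hy⟩
  rw [e]
  exact hs ⟨hx, hn⟩

theorem BK.N_Dl_le (h : BK p r K) {U : Set G} (hU : IsBlk r K U) :
    NS (Dl U : Set G) ≤ NS U := by
  have key : ∀ g ∈ NS (Dl U : Set G), ∀ n ∈ U, g * n * g⁻¹ ∈ U := fun g hg n hn =>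
    h.mem_of_N_Dl hU (h.conj n (h.sub U hU hn) g)
      (mul_mem (mul_mem hg (h.mem_N_Dl hU hn)) (inv_mem hg))
  intro g hg
  rw [mem_NS]
  refine fun n => ⟨key g hg n, fun hn => ?_⟩
  have := key g⁻¹ (inv_mem hg) _ hn
  simpa [mul_assoc] using this

theorem Dl_conj (U : Set G) (g : G) : Dl ((fun x => g * x * g⁻¹) '' U) = cj g (Dl U) := by
  apply le_antisymm
  · refine Dl_le ?_
    rintro _ ⟨x, hx, rfl⟩ _ ⟨y, hy, rfl⟩
    have := conj_mem_cj (g := g).mpr (mem_Dl hx hy)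
    convert this using 1; group
  · rw [cj_le_iff]
    refine Dl_le fun x hx y hy => ?_
    rw [mem_cj]
    have : (g * x * g⁻¹)⁻¹ * (g * y * g⁻¹) ∈ Dl ((fun x => g * x * g⁻¹) '' U) :=
      mem_Dl ⟨x, hx, rfl⟩ ⟨y, hy, rfl⟩
    convert this using 1; group

theorem BK.bs (h : BK p 2 K) (na : NA 2 K) :
    CfsgQ3.BS (fun x => x ∈ K) (fun R => ∃ U, IsBlk 2 K U ∧ R = Dl U) where
  kconj := fun {x} hx g => h.conj x hx g
  bconj := by
    rintro _ ⟨U, hU, rfl⟩ g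
    exact ⟨_, h.blk_conj U hU g, (Dl_conj U g).symm⟩
  pg := by
    rintro _ ⟨U, hU, rfl⟩
    exact h.pg U hU
  pts := by
    rintro _ x y ⟨U, hU, rfl⟩ hx hy h1 h2
    exact mem_Dl (h.mem_of_N_Dl hU hx h1) (h.mem_of_N_Dl hU hy h2)
  pts2 := by
    rintro _ x y ⟨U, hU, rfl⟩ hx hy h1 h2
    exact h.ex_conj U hU x (h.mem_of_N_Dl hU hx h1) y (h.mem_of_N_Dl hU hy h2)
  exb := by
    intro P x hx hP hn
    obtain ⟨U, hU, h1, h2, -⟩ := h.ex_blk x hx P hP hn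
    exact ⟨_, ⟨U, hU, rfl⟩, h.mem_N_Dl hU h1, h2.trans (NS_le_NS_Dl U)⟩
  pair := by
    intro x y hx hy
    obtain ⟨U, hU, h1, h2⟩ := h.pair_blk x hx y hy
    exact ⟨_, ⟨U, hU, rfl⟩, h.mem_N_Dl hU h1, h.mem_N_Dl hU h2⟩
  sq := by
    rintro _ a ⟨U, hU, rfl⟩ ha
    have := h.pow_Z U hU a ha
    rwa [pow_two] at this
  cen := by
    rintro _ a u ⟨U, hU, rfl⟩ ha hu
    exact (h.Z_comm U hU u hu a (Dl_le_cl U ha)).eq
  cenK := by
    rintro _ x u ⟨U, hU, rfl⟩ hx h1 hu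
    exact (h.Z_comm U hU u hu x (subset_closure (h.mem_of_N_Dl hU hx h1))).eq
  ne := by
    rintro _ ⟨U, hU, rfl⟩ e
    obtain ⟨c, hc, c1⟩ := h.Z_ne U hU
    rw [ZZ, e, mem_bot] at hc
    exact c1 hc
  ti := by
    rintro _ _ u ⟨U, hU, rfl⟩ ⟨U1, hU1, rfl⟩ h1 h2 u1
    rw [h.Z_inf U U1 hU hU1 u h1 h2 u1]
  na := by
    rintro _ _ x u ⟨U, hU, rfl⟩ ⟨U1, hU1, rfl⟩ hx h1 h2 hu hn u1
    rw [na U U1 hU hU1 x (h.mem_of_N_Dl hU hx h1) (h.mem_of_N_Dl hU1 hx h2) u hu u1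
      (h.N_Dl_le hU1 hn)]
  gen := fun H hH => by
    rw [eq_top_iff, ← h.gen, closure_le]
    exact fun x hx => hH x hx
  op := fun H h1 h2 => h.nor H h1 h2

/-- kernel prime `2`: no singular translations. -/
theorem BK.sing (h : BK p 2 K) (hna : NA 2 K) :
    ∀ x ∈ K, ∀ y ∈ K, (x⁻¹ * y) ^ 2 = 1 → x = y := fun _ hx _ hy q =>
  (h.bs hna).no_sing hx hy (by rwa [pow_two] at q)

end CfsgQ
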