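import Cfsg.Agent.H1.QD
import Cfsg.Agent.H7.FB

set_option autoImplicit false
set_option linter.unusedSectionVars false

/-! S3617: second half of the block calculus. -/

namespace CfsgQ

open Subgroup CfsgH5 CfsgH6 CfsgFT
open scoped commutatorElement

universe u

variable {G : Type u} [Group G] [Finite G] {p r : ℕ} {K : Set G}

/-- first half of the block calculus -/
structure BK1 (p r : ℕ) (K : Set G) : Prop extends MC p r K where
  eq_of_comm : ∀ x ∈ K, ∀ y ∈ K, Commute x y → x = y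
  conj_of : ∀ x ∈ K, ∀ y ∈ K, ∀ B : Subgroup G, IsPGroup r B → x ∈ NS (B : Set G) → x⁻¹ * y ∈ B →
    ∃ f ∈ B, y = f * x * f⁻¹
  ex_blk : ∀ x ∈ K, ∀ B : Subgroup G, IsPGroup r B → x ∈ NS (B : Set G) →
    ∃ U, IsBlk r K U ∧ x ∈ U ∧ B ≤ NS U ∧ ∀ y ∈ K, x⁻¹ * y ∈ B → y ∈ U
  pair_blk : ∀ x ∈ K, ∀ y ∈ K, ∃ U, IsBlk r K U ∧ x ∈ U ∧ y ∈ U
  fl : ∀ H : Subgroup G, H ≠ ⊤ → ∀ x ∈ K, x ∈ H → ∀ B : Subgroup G, IsPGroup r B → B ≤ H →
    x ∈ NS (B : Set G) → ∃ U, IsBlk r K U ∧ B ≤ NS U ∧ K ∩ (H : Set G) ⊆ U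
  sub : ∀ U, IsBlk r K U → U ⊆ K
  ne : ∀ U, IsBlk r K U → ∃ x ∈ K, x ∉ U
  nonempty : ∀ U, IsBlk r K U → ∃ x, x ∈ U
  eq_of_sub : ∀ U U', IsBlk r K U → IsBlk r K U' → U ⊆ U' → U = U'
  blk_conj : ∀ U, IsBlk r K U → ∀ g : G, IsBlk r K ((fun x => g * x * g⁻¹) '' U)
  cl_ne : ∀ U, IsBlk r K U → Subgroup.closure U ≠ ⊤
  mem_of_cl : ∀ U, IsBlk r K U → ∀ y ∈ K, y ∈ Subgroup.closure U → y ∈ U
  pg : ∀ U, IsBlk r K U → IsPGroup r (Dl U)
  cl_le : ∀ U, IsBlk r K U → Subgroup.closure U ≤ NS U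
  ex_conj : ∀ U, IsBlk r K U → ∀ x ∈ U, ∀ y ∈ U, ∃ f ∈ Dl U, y = f * x * f⁻¹

theorem Dl_le_comm {U : Set G} {x : G} (hx : x ∈ U)
    (h : ∀ y ∈ U, ∃ f ∈ Dl U, y = f * x * f⁻¹) : Dl U ≤ ⁅Dl U, zpowers x⁆ := by
  have key : ∀ y ∈ U, x⁻¹ * y ∈ ⁅Dl U, zpowers x⁆ := fun y hy => by
    obtain ⟨f, hf, rfl⟩ := h y hy
    rw [commutator_comm]
    have := commutator_mem_commutator (inv_mem (mem_zpowers x)) hf
    convert this using 1
    rw [commutatorElement_def]; group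
  refine Dl_le fun y hy y' hy' => ?_
  have := mul_mem (inv_mem (key y hy)) (key y' hy')
  convert this using 1; group

theorem of_eq_one_iff {R : Subgroup G} {w : R} : Abelianization.of w = 1 ↔ (w : G) ∈ ⁅R, R⁆ := by
  rw [← MonoidHom.mem_ker, Abelianization.ker_of, ← map_subtype_commutator]
  constructor
  · exact fun h => ⟨w, h, rfl⟩
  · rintro ⟨v, hv, e⟩
    rwa [← Subtype.ext e]

theorem cent_ZZ {U : Set G} {x : G} (hx : x ∈ U) (hn : x ∈ NS (Dl U : Set G))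
    (h : ∀ y ∈ U, ∃ f ∈ Dl U, y = f * x * f⁻¹) {g : G} (hg : g ∈ Dl U) (hc : Commute g x) :
    g ∈ ZZ U := by
  have hα : ∀ w : Dl U, ((MulAut.conj x⁻¹).toMonoidHom.comp (Dl U).subtype) w ∈ Dl U := fun w =>
    (mem_NS.1 (inv_mem hn) w).1 w.2
  let α : Dl U →* Dl U := MonoidHom.codRestrict _ _ hα
  let θ : Dl U →* Abelianization (Dl U) := (Abelianization.of.comp α) * (Abelianization.of)⁻¹
  have hθ : ∀ w : Dl U, θ w = Abelianization.of (α w * w⁻¹) := fun w => by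
    simp [θ]
  have key : ∀ y (hy : y ∈ U), Abelianization.of (⟨x⁻¹ * y, mem_Dl hx hy⟩ : Dl U) ∈ θ.range := by
    intro y hy
    obtain ⟨f, hf, e⟩ := h y hy
    refine ⟨⟨f, hf⟩, ?_⟩
    rw [hθ]
    congr 1
    apply Subtype.ext
    simp [α, e, mul_assoc]
  have sur : ∀ w (hw : w ∈ Dl U), Abelianization.of (⟨w, hw⟩ : Dl U) ∈ θ.range := by
    intro w hw
    induction hw using closure_induction with
    | mem d hd =>
      obtain ⟨y, hy, y', hy', rfl⟩ := hd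
      have := mul_mem (inv_mem (key y hy)) (key y' hy')
      rw [← map_inv, ← map_mul] at this
      convert this using 2
      apply Subtype.ext
      simp [mul_assoc]
    | one => exact one_mem _
    | mul a b ha hb iha ihb =>
      have := mul_mem iha ihb
      rwa [← map_mul] at this
    | inv a ha iha =>
      have := inv_mem iha
      rwa [← map_inv] at this
  have s2 : Function.Surjective (Abelianization.lift θ) := by
    intro v
    obtain ⟨w, rfl⟩ : ∃ w, Abelianization.of w = v := QuotientGroup.mk_surjective v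
    obtain ⟨t, ht⟩ := sur w w.2
    exact ⟨Abelianization.of t, by rw [Abelianization.lift_apply_of, ht]⟩
  haveI : Finite (Abelianization (Dl U)) := inferInstanceAs (Finite (_ ⧸ _))
  have inj := Finite.injective_iff_surjective.mpr s2
  have : Abelianization.of (⟨g, hg⟩ : Dl U) = 1 := by
    apply inj
    rw [Abelianization.lift_apply_of, map_one, hθ]
    have : α ⟨g, hg⟩ * (⟨g, hg⟩ : Dl U)⁻¹ = 1 := by
      apply Subtype.ext
      have e : x⁻¹ * g * x⁻¹⁻¹ * g⁻¹ = 1 := by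
        rw [inv_inv, mul_assoc x⁻¹, hc.eq]; group
      exact e
    rw [this, map_one]
  exact of_eq_one_iff.mp this

namespace BK1

theorem nD (h : BK1 p r K) {U : Set G} (hU : IsBlk r K U) {x : G} (hx : x ∈ U) :
    x ∈ NS (Dl U : Set G) :=
  NS_le_NS_Dl U (h.cl_le U hU (subset_closure hx))

theorem Z_comm (h : BK1 p r K) : ∀ U, IsBlk r K U → ∀ e ∈ ZZ U, ∀ g ∈ Subgroup.closure U,
    Commute e g := by
  intro U hU e he g hg
  have key : ∀ x ∈ U, ZZ U ≤ C1 x := fun x hx => by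
    rw [ZZ, commutator_le]
    intro a ha b hb
    have le := Dl_le_comm hx (h.ex_conj U hU x hx)
    exact mem_C1.mpr (h.heis x (h.sub U hU hx) _ (h.pg U hU) (h.nD hU hx) a (le ha) b
      (le hb)).eq.symm
  have : closure U ≤ C1 e := (closure_le _).mpr fun x hx => mem_C1_comm.mp (key x hx he)
  exact (mem_C1.mp (this hg)).symm

theorem cent_Z (h : BK1 p r K) : ∀ U, IsBlk r K U → ∀ x ∈ U, ∀ g ∈ Dl U, Commute g x →
    g ∈ ZZ U := fun U hU x hx _ hg hc =>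
  cent_ZZ hx (h.nD hU hx) (h.ex_conj U hU x hx) hg hc

theorem pow_Z (h : BK1 p r K) : ∀ U, IsBlk r K U → ∀ g ∈ Dl U, g ^ r ∈ ZZ U := by
  intro U hU g hg
  have key : ∀ w (hw : w ∈ Dl U), Abelianization.of (⟨w, hw⟩ : Dl U) ^ r = 1 := by
    intro w hw
    induction hw using closure_induction with
    | mem d hd =>
      obtain ⟨y, hy, y', hy', rfl⟩ := hd
      rw [← map_pow, of_eq_one_iff]
      exact h.cent_Z U hU y hy _ (pow_mem (mem_Dl hy hy') r)
        (h.sq y (h.sub U hU hy) y' (h.sub U hU hy')).symm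
    | one => exact one_pow r
    | mul a b ha hb iha ihb =>
      have : Abelianization.of (⟨a, ha⟩ * ⟨b, hb⟩ : Dl U) ^ r = 1 := by
        rw [map_mul, mul_pow, iha, ihb, mul_one]
      exact this
    | inv a ha iha =>
      have : Abelianization.of (⟨a, ha⟩⁻¹ : Dl U) ^ r = 1 := by
        rw [map_inv, inv_pow, iha, inv_one]
      exact this
  have := key g hg
  rw [← map_pow, of_eq_one_iff] at this
  exact this

theorem ti (h : BK1 p r K) : ∀ U, IsBlk r K U → ∀ e ∈ ZZ U, e ≠ 1 → ∀ y ∈ K, Commute e y →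
    y ∈ U := by
  intro U hU e he e1 y hy hc
  have hne : C1 e ≠ ⊤ := fun ht => e1 (h.cen e fun x _ =>
    (mem_C1.mp (ht ▸ mem_top x : x ∈ C1 e)).symm)
  have hyC : y ∈ C1 e := mem_C1.mpr hc.eq.symm
  obtain ⟨U', hU', -, hs⟩ := h.fl _ hne y hy hyC ⊥ IsPGroup.of_bot bot_le
    (by
      have : NS ((⊥ : Subgroup G) : Set G) = ⊤ := normalizer_eq_top_iff.mpr inferInstance
      rw [this]; trivial)
  have e2 : U = U' := h.eq_of_sub U U' hU hU' fun w hw =>
    hs ⟨h.sub U hU hw, mem_C1.mpr (h.Z_comm U hU e he w (subset_closure hw)).eq.symm⟩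
  rw [e2]
  exact hs ⟨hy, hyC⟩

theorem mem_N (h : BK1 p r K) : ∀ U, IsBlk r K U → ∀ e ∈ ZZ U, e ≠ 1 → ∀ g : G,
    g * e * g⁻¹ ∈ ZZ U → g ∈ NS U := by
  intro U hU e he e1 g hg
  have e2 : g * e * g⁻¹ ≠ 1 := fun q => e1 (by simpa using q)
  rw [mem_NS]
  intro n
  constructor
  · intro hn
    refine h.ti U hU _ hg e2 _ (h.conj n (h.sub U hU hn) g) ?_
    have := (h.Z_comm U hU e he n (subset_closure hn)).eq
    show g * e * g⁻¹ * (g * n * g⁻¹) = g * n * g⁻¹ * (g * e * g⁻¹)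
    calc g * e * g⁻¹ * (g * n * g⁻¹) = g * (e * n) * g⁻¹ := by group
      _ = g * n * g⁻¹ * (g * e * g⁻¹) := by rw [this]; group
  · intro hn
    have hk : n ∈ K := by
      have := h.conj _ (h.sub U hU hn) g⁻¹
      simpa [mul_assoc] using this
    refine h.ti U hU e he e1 n hk ?_
    have := (h.Z_comm U hU _ hg _ (subset_closure hn)).eq
    show e * n = n * e
    calc e * n = g⁻¹ * (g * e * g⁻¹ * (g * n * g⁻¹)) * g := by group
      _ = n * e := by rw [this]; group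

theorem Z_inf (h : BK1 p r K) : ∀ U U', IsBlk r K U → IsBlk r K U' → ∀ e ∈ ZZ U, e ∈ ZZ U' →
    e ≠ 1 → U = U' := fun U U' hU hU' e he he' e1 =>
  h.eq_of_sub U U' hU hU' fun w hw =>
    h.ti U' hU' e he' e1 w (h.sub U hU hw) (h.Z_comm U hU e he w (subset_closure hw))

theorem no_sub (h : BK1 p r K) : ∀ N Q : Subgroup G, N.Normal → Q ≤ N → IsPGroup r Q →
    N ≤ NS (Q : Set G) → Q = ⊥ := by
  intro N Q hN h1 h2 h3
  have le : Q ≤ Op r N := le_Op h1 (nrm_of_le_N h3) h2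
  have hn : (Op r N).Normal := ((Nrm.of_normal ⊤ N).Op' h.hr).normal_of_top
  rw [h.nor _ hn (isPGroup_Op' h.hr N)] at le
  exact le_bot_iff.mp le

theorem blk_eq (h : BK1 p r K) {U U' : Set G} (hU : IsBlk r K U) (hU' : IsBlk r K U') :
    ∃ g : G, ∀ y ∈ U', g⁻¹ * y * g ∈ U := by
  haveI : Fact r.Prime := ⟨h.hr⟩
  obtain ⟨P, rfl⟩ := hU
  obtain ⟨P', rfl⟩ := hU'
  obtain ⟨g, rfl⟩ := MulAction.exists_smul_eq G P P'
  refine ⟨g, fun y hy => ⟨by simpa using h.conj y hy.1 g⁻¹, ?_⟩⟩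
  have e : ((g • P : Sylow r G) : Subgroup G) = cj g (P : Subgroup G) := rfl
  have := hy.2
  rw [e] at this
  have t2 : y ∈ N (cj g (P : Subgroup G)) := this
  rw [← cj_N, mem_cj] at t2
  exact t2

theorem Z_ne (h : BK1 p r K) : ∀ U, IsBlk r K U → ∃ e ∈ ZZ U, e ≠ 1 := by
  intro U hU
  by_contra hcon
  push Not at hcon
  have all : ∀ U', IsBlk r K U' → ∀ a ∈ Dl U', ∀ b ∈ Dl U', a * b = b * a := by
    intro U' hU' a ha b hb
    obtain ⟨g, hg⟩ := h.blk_eq hU hU'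
    have tr : ∀ w ∈ Dl U', g⁻¹ * w * g ∈ Dl U := by
      intro w hw
      have : Dl U' ≤ cj g (Dl U) := Dl_le fun x hx y hy => by
        rw [mem_cj]
        have := mem_Dl (hg x hx) (hg y hy)
        convert this using 1; group
      exact mem_cj.mp (this hw)
    have := commutatorElement_eq_one_iff_mul_comm.mp (hcon _ (comm_mem_ZZ (tr a ha) (tr b hb)))
    calc a * b = g * (g⁻¹ * a * g * (g⁻¹ * b * g)) * g⁻¹ := by group
      _ = b * a := by rw [this]; group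
  obtain ⟨z, hzU⟩ := h.nonempty U hU
  have hz := h.sub U hU hzU
  have hN : ∀ M : Subgroup G, M.Normal → z ∈ M → M = ⊤ := by
    intro M hM hzM
    rw [eq_top_iff, ← h.gen, closure_le]
    intro y hy
    obtain ⟨U', hU', h1, h2⟩ := h.pair_blk z hz y hy
    obtain ⟨f, -, rfl⟩ := h.ex_conj U' hU' z h1 y h2
    exact hM.conj_mem z hzM f
  have zz : z ∈ zpowers (z * z) := by
    obtain ⟨k, hk⟩ := h.hp.odd_of_ne_two h.hp2
    refine ⟨((k + 1 : ℕ) : ℤ), ?_⟩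
    show (z * z) ^ ((k + 1 : ℕ) : ℤ) = z
    rw [zpow_natCast, ← pow_two, ← pow_mul, show 2 * (k + 1) = p + 1 by omega, pow_succ,
      h.ord z hz, one_mul]
  have hck : ∀ g : G, ∃ c : G, z * (g * z * g⁻¹) = c * (z * z) * c⁻¹ := by
    intro g
    obtain ⟨U', hU', h1, h2⟩ := h.pair_blk z hz _ (h.conj z hz g)
    have hn := h.nD hU' h1
    have hn2 : (z * z)⁻¹ ∈ NS (Dl U' : Set G) := inv_mem (mul_mem hn hn)
    let φ : Dl U' → Dl U' := fun c => ⟨(z * z)⁻¹ * c * (z * z)⁻¹⁻¹ * c⁻¹,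
      mul_mem ((mem_NS.1 hn2 c).1 c.2) (inv_mem c.2)⟩
    have inj : Function.Injective φ := by
      intro c d e
      have e1 : (z * z)⁻¹ * c * (z * z)⁻¹⁻¹ * (c : G)⁻¹ = (z * z)⁻¹ * d * (z * z)⁻¹⁻¹ * (d : G)⁻¹ :=
        congrArg Subtype.val e
      have e2 : (d : G)⁻¹ * c ∈ C1 (z * z) := by
        rw [mem_C1]
        generalize z * z = w at e1 ⊢
        calc (d : G)⁻¹ * c * w
            = (d : G)⁻¹ * w * (w⁻¹ * c * w⁻¹⁻¹ * (c : G)⁻¹) * c := by group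
          _ = w * ((d : G)⁻¹ * c) := by rw [e1]; group
      have e3 : z ∈ C1 ((d : G)⁻¹ * c) := (zpowers_le.mpr (mem_C1_comm.mp e2)) zz
      have e4 := h.cent_Z U' hU' z h1 _ (mul_mem (inv_mem d.2) c.2) (mem_C1.mp e3).symm
      have e5 : ZZ U' ≤ ⊥ := by
        rw [ZZ, commutator_le]
        intro a ha b hb
        exact mem_bot.mpr (commutatorElement_eq_one_iff_mul_comm.mpr (all U' hU' a ha b hb))
      exact Subtype.ext (inv_mul_eq_one.mp (mem_bot.mp (e5 e4))).symm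
    obtain ⟨c, hc⟩ := Finite.injective_iff_surjective.mp inj ⟨_, mem_Dl h1 h2⟩
    have e1 : (z * z)⁻¹ * c * (z * z)⁻¹⁻¹ * (c : G)⁻¹ = z⁻¹ * (g * z * g⁻¹) :=
      congrArg Subtype.val hc
    refine ⟨c, ?_⟩
    calc z * (g * z * g⁻¹) = z * z * (z⁻¹ * (g * z * g⁻¹)) := by
          rw [mul_assoc z z, mul_inv_cancel_left]
      _ = c * (z * z) * (c : G)⁻¹ := by
          rw [← e1]
          generalize z * z = w
          group
  have hP : IsPGroup r ↥⁅(⊤ : Subgroup G), (⊤ : Subgroup G)⁆ := by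
    intro x
    obtain ⟨g, hg⟩ := CfsgFS.ck hN hck x.2
    obtain ⟨F, hF, -, hm⟩ := h.pair z hz _ (h.conj z hz g)
    rw [hg, inv_mul_cancel_left] at hm
    obtain ⟨k, hk⟩ := hF ⟨x, hm⟩
    have e : (x : G) ^ r ^ k = 1 := congrArg Subtype.val hk
    exact ⟨k, Subtype.ext e⟩
  have hb := h.nor _ inferInstance hP
  obtain ⟨x, hx, hxU⟩ := h.ne U hU
  apply hxU
  have : ⁅x, z⁆ ∈ ⁅(⊤ : Subgroup G), (⊤ : Subgroup G)⁆ :=
    commutator_mem_commutator (mem_top x) (mem_top z)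
  rw [hb, mem_bot] at this
  rw [h.eq_of_comm x hx z hz (commutatorElement_eq_one_iff_mul_comm.mp this)]
  exact hzU

theorem bk (h : BK1 p r K) : BK p r K :=
  { h with
    Z_comm := h.Z_comm
    cent_Z := h.cent_Z
    pow_Z := h.pow_Z
    ti := h.ti
    mem_N := h.mem_N
    Z_inf := h.Z_inf
    Z_ne := h.Z_ne
    no_sub := h.no_sub }

end BK1

end CfsgQ
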