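import Cfsg.Agent.FT.PF2
import Cfsg.Agent.H9.Row3Ker

set_option autoImplicit false
set_option linter.unusedSectionVars false

/-! A norm three virtual character from an `S₃` quotient of a Dade subgroup. -/

namespace CfsgH3.S3L

open Subgroup CfsgH5 CfsgH6 Cfsg CfsgL CfsgFT
open scoped ComplexConjugate

universe u

theorem norm3_ker0 {G : Type u} [Group G] [Finite G] {θ : G → ℂ} (hθ : IsGeneralizedCharacter G θ)
    [Fintype G] (h3 : classInner θ θ = 3) (h1 : classInner θ (fun _ => 1) = 1) (h0 : θ 1 = 0)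
    {t : G} (ht : θ t = 0) (h2 : ∀ a b, IsConj t a → IsConj t b → θ (a * b) = 0)
    (χ : IrrCharacter G) (hχ : classInner θ χ ≠ 0) : t ∈ charKer (χ : G → ℂ) := by
  classical
  have hP : ∀ g x : G, IsConj t g → IsConj t (x * g * x⁻¹) :=
    fun g x h => h.trans (isConj_iff.mpr ⟨x, rfl⟩)
  have hc := CfsgH8.ind_class hP
  have hz : ∀ f : G → ℂ, (∀ g, f g ≠ 0 → θ g = 0) →
      ∑ χ : IrrCharacter G, (coef θ χ : ℂ) * classInner f χ = 0 := by
    intro f hf
    rw [← inner_eq_sum_coef f hθ]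
    unfold classInner
    rw [Finset.sum_eq_zero, mul_zero]
    intro g _
    by_cases hg : f g = 0
    · simp [hg]
    · simp [hf g hg]
  have hs : (Real.sqrt (Nat.card G) : ℂ) * (Real.sqrt (Nat.card G) : ℂ) = Nat.card G := by
    rw [← Complex.ofReal_mul, Real.mul_self_sqrt (Nat.cast_nonneg _)]
    simp
  have hR : CfsgH8.R3 (fun χ : IrrCharacter G => (χ : G → ℂ) 1)
      (CfsgH8.cv (CfsgH8.ind (IsConj t))) (fun χ => coef θ χ) 0 := by
    refine ⟨?_, ?_, ?_, ?_⟩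
    · have := coef_self_eq_sum hθ
      rw [coef_eq (n := 3) (by rw [h3]; norm_num)] at this
      simpa [pow_two] using this.symm
    · rw [← h0, gen_apply_eq_sum_coef hθ 1]
    · have := hz (CfsgH8.ind (IsConj t)) fun g hg => by
        rw [← class_isConj (gen_class hθ) (CfsgH8.of_ind_ne_zero hg), ht]
      rw [← mul_zero (Real.sqrt (Nat.card G) : ℂ), ← this, Finset.mul_sum]
      refine Finset.sum_congr rfl fun χ _ => ?_
      have := irr_one_ne_zero χ.2
      unfold CfsgH8.cv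
      field_simp
    · have := hz (conv (CfsgH8.ind (IsConj t)) (CfsgH8.ind (IsConj t))) fun g hg => by
        obtain ⟨x, -, hx⟩ := Finset.exists_ne_zero_of_sum_ne_zero hg
        have := h2 x (x⁻¹ * g) (CfsgH8.of_ind_ne_zero (left_ne_zero_of_mul hx))
          (CfsgH8.of_ind_ne_zero (right_ne_zero_of_mul hx))
        rwa [mul_inv_cancel_left] at this
      rw [← this]
      refine Finset.sum_congr rfl fun χ _ => ?_
      have := irr_one_ne_zero χ.2
      rw [inner_conv _ hc χ.2, ← hs]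
      unfold CfsgH8.cv
      field_simp
  refine CfsgH9.mem_charKer_of_cv (hR.eq_of_zero (fun χ => irr_one_ne_zero χ.2) ?_ ?_)
  · intro e
    apply hχ
    rw [← coef_Irr hθ]
    exact_mod_cast e
  · rw [coef_eq (θ := θ) (χ := (CfsgH8.irrOne G : G → ℂ)) (n := 1) (by
      rw [Int.cast_one]; exact h1)]
    norm_num

variable {G : Type u} [Group G] [Finite G]

theorem norm3_ker {X : Subgroup G} {φ : G → ℂ} (hφ : φ ∈ VChar X) (h3 : ip X φ φ = 3)
    (h1 : ip X φ (one X) = 1) (h0 : φ 1 = 0) {t : G} (htX : t ∈ X) (ht : φ t = 0)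
    (h2 : ∀ g ∈ X, ∀ g' ∈ X, φ (g * t * g⁻¹ * (g' * t * g'⁻¹)) = 0) : t ∈ ker X φ := by
  let _ := Fintype.ofFinite X
  have hcf := vchar_CF hφ
  rw [← zpowers_le, le_ker_iff_constt hcf (zpowers_le.2 htX)]
  intro χ hχ hne
  rw [zpowers_le]
  refine (mem_ker_rs hχ.cf ⟨t, htX⟩).2 ?_
  refine norm3_ker0 (vchar_rs hφ) (by rw [← h3, ip_eq_classInner]) ?_ h0 (t := ⟨t, htX⟩) ht ?_
    ⟨rs X χ, hχ.rs⟩ (by rwa [ip_eq_classInner] at hne)
  · rw [ip_eq_classInner] at h1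
    rw [← rs_one X]; exact h1
  · intro a b ha hb
    obtain ⟨g, rfl⟩ := isConj_iff.1 ha
    obtain ⟨g', rfl⟩ := isConj_iff.1 hb
    exact h2 g g.2 g' g'.2

/-- `1 + ε - θ` on `S₃`. -/
def a0 (σ : Equiv.Perm (Fin 3)) : ℤ := if σ * σ = 1 then 0 else 3

theorem a0_gen : CfsgH8.IsGenInt a0 := by
  have h1 := CfsgH8.IsGenInt.of_action (M := Equiv.Perm (Fin 3)) (Ω := Fin 3) (fun g x => g x)
    (fun _ => rfl) (fun _ _ _ => rfl)
  have h2 := CfsgH8.IsGenInt.of_hom (M := Equiv.Perm (Fin 3)) (fun g => (Equiv.Perm.sign g : ℤ))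
    (by simp) (by simp)
  refine (((CfsgH8.IsGenInt.one.add CfsgH8.IsGenInt.one).add h2).sub h1).congr ?_
  decide

theorem s3_lemma {X L : Subgroup G} {A : Set G} {H : G → Subgroup G} (h : DadeHyp X L A H)
    (ρ : L →* Equiv.Perm (Fin 3)) (hρ : Function.Surjective ρ)
    (hA : ∀ a, a ∈ A ↔ ∃ ha : a ∈ L, ρ ⟨a, ha⟩ * ρ ⟨a, ha⟩ ≠ 1) {t : G} (htX : t ∈ X)
    (h1 : t ∉ DadeSupp X A H)
    (h2 : ∀ g ∈ X, ∀ g' ∈ X, g * t * g⁻¹ * (g' * t * g'⁻¹) ∉ DadeSupp X A H) :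
    ∃ K, NormalIn K X ∧ t ∈ K ∧ ∀ a ∈ A, a ∉ K := by
  classical
  have himg : img ρ L = ⊤ := by
    rw [eq_top_iff]
    intro y _
    obtain ⟨x, rfl⟩ := hρ y
    exact mem_img.2 ⟨x, x.2, rfl⟩
  have hv0 : (fun σ => (a0 σ : ℂ)) ∈ VChar (⊤ : Subgroup (Equiv.Perm (Fin 3))) := by
    rw [mem_VChar_iff]
    exact ⟨fun x hx => absurd (mem_top x) hx, gen_comp (Subgroup.subtype ⊤) a0_gen⟩
  set α := infl ρ L fun σ => (a0 σ : ℂ) with hα
  have hv : α ∈ VChar L := vchar_infl hv0 le_rfl le_top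
  have hval : ∀ a (ha : a ∈ L), α a = (a0 (ρ ⟨a, ha⟩) : ℂ) := fun a ha => infl_apply _ ha ha
  have hs : α ∈ SuppIn A := by
    intro x hx
    by_cases hL : x ∈ L
    · rw [hval x hL, a0, if_pos]
      · simp
      · by_contra e
        exact hx ((hA x).2 ⟨hL, e⟩)
    · exact infl_supp ρ L _ x hL
  have hcf : α ∈ CFon L A := ⟨vchar_CF hv, hs⟩
  have hcard : Nat.card (⊤ : Subgroup (Equiv.Perm (Fin 3))) = 6 := by
    rw [card_top, Nat.card_eq_fintype_card, Fintype.card_perm]; rfl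
  have hk := norm3_ker (h.dade_vchar hv hs) (by
      rw [h.ip_dade_dade hcf hcf.1, hα, ip_infl le_rfl, himg, ip_def, sum_fs_top, hcard]
      have : ∑ x : Equiv.Perm (Fin 3), a0 x * a0 x = 18 := by decide
      simp only [map_intCast, ← Int.cast_mul, ← Int.cast_sum, this]
      norm_num) (by
      rw [h.ip_dade_one hcf, hα, ← infl_one (f := ρ) (Y := ⊤) le_rfl le_top, ip_infl le_rfl, himg,
        ip_one_right, sum_fs_top, hcard]
      have : ∑ x : Equiv.Perm (Fin 3), a0 x = 6 := by decide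
      simp only [← Int.cast_sum, this]
      norm_num) (h.dade_one α) htX (dade_supp X A H α t h1)
    fun g hg g' hg' => dade_supp X A H α _ (h2 g hg g' hg')
  refine ⟨_, ker_normalIn (h.dade_CF α), hk, fun a ha hak => ?_⟩
  have e := ker_apply hak
  obtain ⟨haL, hne⟩ := (hA a).1 ha
  rw [h.dade_one, h.dade_id hcf.1 ha, hval a haL, a0, if_neg hne] at e
  norm_num at e

end CfsgH3.S3L
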