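import Cfsg.Agent.H3.U3Def

/-! S3645: there is no simple group of order `344736` (given the minimality property). -/

set_option autoImplicit false
set_option linter.unusedSectionVars false

namespace CfsgU3

open Finset Cfsg CfsgL CfsgH5 CfsgH6 CfsgFT CfsgSZ CfsgH8 CfsgB0 Subgroup Module
open scoped ComplexConjugate

universe u

set_option maxRecDepth 100000 in
theorem loc344a : ∀ z ∈ locB 344736 588 7, ∃ k ∈ z.2.2, k.2.2 = 18 ∨
    (5 ≤ k.2.2 % 19 ∧ k.2.2 % 19 ≤ 14) := by decide +kernel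

set_option synthInstance.maxSize 2000 in
theorem loc344b : ∀ e ∈ [2, 3, 6, 9, 18], ∀ k ∈ adv 344736 588, k ≠ 1 → 344736 % (19 * e * k) = 0 →
    344736 / (19 * e * k) % 19 = 1 → 344736 / (19 * e * k) ≠ 1 → ∀ ks ∈ blkD 344736 588 19 e k,
      e * k = 18 ∧ 3 ∣ k ∧ ks = [(1, 3, 108), (-1, 1, 56), (-1, 1, 56), (1, 1, 96), (1, 1, 96),
        (-1, 1, 189)] := by decide +kernel

theorem z3 : (1 : ZMod 3) ≠ 0 ∧ (2 : ZMod 3) ≠ 0 := by decide

variable {G : Type u} [Group G] [Finite G]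

theorem sum_coset_zero {M : Type} [Group M] [Fintype M] {χ : G → ℂ} (hχ : IsCharacter G χ)
    (f : M →* G) (h : ∑ m, χ (f m) = 0) (t : G) : ∑ m, χ (t * f m) = 0 := by
  obtain ⟨n, ρ, rfl⟩ := hχ
  letI : Invertible (Nat.card M : ℂ) := invertibleOfNonzero card_ne_zero'
  have e1 := Representation.card_inv_mul_sum_char_eq_finrank (ρ.comp f)
  rw [show ∑ m, Representation.character (ρ.comp f) m = 0 from h, mul_zero, eq_comm, Nat.cast_eq_zero,
    Submodule.finrank_eq_zero] at e1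
  have e2 : ∑ m, ρ (f m) = 0 := LinearMap.ext fun v => by
    have : (∑ m, ρ (f m)) v ∈ Representation.invariants (ρ.comp f) := fun g => by
      rw [LinearMap.sum_apply, map_sum]
      exact Fintype.sum_equiv (Equiv.mulLeft g) _ _ fun m => by simp
    rwa [e1] at this
  simp only [Representation.character, map_mul, ← map_sum, ← mul_sum, e2, mul_zero, map_zero]

theorem norm_three {χ : G → ℂ} {y : G} (hy : y ^ 3 = 1) {M : ZMod 3 → ℕ} (h : IsMu χ y M) :
    χ y * conj (χ y) = ((M 0 ^ 2 + M 1 ^ 2 + M 2 ^ 2 - M 0 * M 1 - M 0 * M 2 - M 1 * M 2 : ℤ) : ℂ) ∧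
      (M 1 = 0 → M 2 = 0 → χ y = (M 0 : ℤ)) := by
  have e1 := h.1 1
  have s : ∀ F : ZMod 3 → ℂ, ∑ j, F j = F 0 + F 1 + F 2 := fun F => Fin.sum_univ_three F
  have e2 := sum_ψ (1 : ZMod 3)
  have e3 : (ψ (1 : ZMod 3) : ℂ) * ψ (2 : ZMod 3) = 1 := by
    rw [← AddChar.map_add_eq_mul, show (1 + 2 : ZMod 3) = 0 from rfl, AddChar.map_zero_eq_one]
  have e4 : conj (ψ (1 : ZMod 3) : ℂ) = ψ (2 : ZMod 3) := conj_ψ _
  have e5 : conj (ψ (2 : ZMod 3) : ℂ) = ψ (1 : ZMod 3) := conj_ψ _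
  simp only [pw_one hy, s, one_mul, mul_one, AddChar.map_zero_eq_one, one_ne_zero, if_false] at e1 e2
  refine ⟨?_, fun a b => by simp [e1, a, b]⟩
  rw [e1]
  simp only [map_add, map_mul, map_natCast, e4, e5]
  push_cast
  linear_combination (M 0 * M 1 + M 0 * M 2 + M 1 * M 2 * (ψ (1 : ZMod 3) + ψ (2 : ZMod 3) - 1)) * e2 +
    (M 1 ^ 2 + M 2 ^ 2 - 2 * M 1 * M 2) * e3

variable [IsSimpleGroup G] (hc : commutator G = ⊤)
include hc

theorem not_344736 (e : Nat.card G = 344736)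
    (H : ∀ (x : G) (X : Subgroup G), orderOf x = 19 → x ∈ X → X ≠ ⊤ → X ≤ N (zpowers x)) : False := by
  classical
  haveI : Fact (Nat.Prime 19) := ⟨by norm_num⟩
  haveI : Fact (Nat.Prime 7) := ⟨by norm_num⟩
  haveI : Fact (Nat.Prime 3) := ⟨by norm_num⟩
  obtain ⟨x, h⟩ := exists_P1 (G := G) 19 (by omega) (by omega)
  obtain ⟨K, S, W, -, hK⟩ := h.exists_blkD hc (b := 588) (by omega) (by norm_num)
  obtain ⟨s1, s2, s3, s4⟩ := h.sylow hc
  have s5 := (N (zpowers x)).card_mul_index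
  have s6 := h.card_mul_index
  have s7 : Nat.card h.U ∈ [2, 3, 6, 9, 18] :=
    (by decide : ∀ e ∈ Nat.divisors 18, e ≠ 1 → e ∈ [2, 3, 6, 9, 18]) _
      (Nat.mem_divisors.mpr ⟨⟨h.U.index, by omega⟩, by norm_num⟩) s1
  rw [s4, e] at s5
  have s8 : 344736 / (19 * Nat.card h.U * Nat.card (Opc 19 (C1 x))) = (N (zpowers x)).index :=
    Nat.div_eq_of_eq_mul_right (s4 ▸ Nat.card_pos) s5.symm
  by_cases hk : Nat.card (Opc 19 (C1 x)) = 1
  · have s9 : h.U.index = 1 := by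
      rw [hk] at s8
      simp only [List.mem_cons, List.not_mem_nil, or_false] at s7
      rcases s7 with f | f | f | f | f <;> rw [f] at s8 s6 <;> omega
    haveI : Subsingleton ((ZMod 19)ˣ ⧸ h.U) := (Nat.card_eq_one_iff_unique.mp s9).1
    obtain ⟨y, hy, K', S', -, -, hK'⟩ := exists_locB hc 7 588 e (by norm_num)
    obtain ⟨k, k1, k2⟩ := loc344a _ hK'
    obtain ⟨z', -, rfl⟩ := List.mem_map.mp k1
    have k3 : z'.1 ∈ S := by_contra fun f => by have := h.dvd_dg hk W f; simp only at k2; omega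
    obtain ⟨k, k4, k5⟩ := (W.dg_cases k3).resolve_left fun f => by simp only at k2; omega
    obtain ⟨z, z1, rfl⟩ := List.mem_map.mp k4
    obtain ⟨v, a, a1, -⟩ := h.nonex (W.memB z z1) fun j =>
      congrFun (h.Dn_congr (j := 1) (l := j) (Subsingleton.elim _ _)) _
    have b1 := h.sum_Dn 1 1
    have b2 := sum_le_sum_of_subset_of_nonneg (subset_univ {z.1, triv G})
      fun χ _ _ => mul_self_nonneg (Dn 19 x (1 : (ZMod 19)ˣ) χ)
    rw [sum_pair (W.ne z z1), b1, if_pos rfl, h.Dn_triv (Units.ne_zero _), Units.val_one,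
      show Nat.card h.U = 18 by rw [s9] at s6; omega] at b2
    generalize Dn 19 x 1 z.1 = c at v a1 b2
    have b3 : -4 ≤ c ∧ c ≤ 4 := by constructor <;> push_cast at b2 <;> nlinarith
    simp only at k2 k5
    obtain ⟨b4, rfl⟩ : dg z.1 = 18 ∧ c = -1 := by omega
    obtain ⟨t, t1, t2⟩ := h.exists_inv hk (by norm_num) (by rw [s9] at s6; omega)
    obtain ⟨⟨u⟩, -⟩ := Nat.card_ne_zero.mp t2
    have u1 := inv_of_mul t1 u.2
    have u2 : orderOf u.1.1 = 2 := by
      obtain ⟨g, hg⟩ := isConj_iff.mp u.2.1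
      rw [← hg, ← t1]; exact (MulAut.conj g).orderOf_eq t
    generalize u.1.1 = w at u1 u2
    have c1 := sum_coset_zero (irr_isChar z.1.2) (pw h.pow_p) (by
      change ∑ i : ZMod 19, z.1.1 (x ^ i.val) = 0
      rw [sum_units, sum_congr rfl fun (j : (ZMod 19)ˣ) _ => v j j.ne_zero]
      simp [dg_cast, b4, show Nat.totient 19 = 18 by decide]) w
    rw [sum_congr rfl fun m _ => (by
      have m1 : (w * pw h.pow_p m) * x * (w * pw h.pow_p m)⁻¹ = x⁻¹ := by
        rw [← u1, mul_inv_rev, ← mul_assoc, mul_assoc w,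
          show pw h.pow_p m * x = x * pw h.pow_p m from ((Commute.refl x).pow_left _).eq,
          ← mul_assoc, mul_inv_cancel_right]
      obtain ⟨g, hg⟩ := isConj_iff.mp (h.isConj_of_inv hk (by norm_num) u1 m1)
      rw [← hg, char_isClass (irr_isChar z.1.2)] : z.1.1 (w * pw h.pow_p m) = z.1.1 w),
      sum_const, (iv_spec hc u2 z.1).1] at c1
    have c2 := (iv_spec hc u2 z.1).2.1
    simp at c1
    omega
  obtain ⟨a1, a2, a3⟩ := loc344b _ s7 _ (mem_adv (by norm_num) (by norm_num) (Dvd.intro_left _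
    ((mul_right_comm _ _ _).trans s5))) hk (Nat.mod_eq_zero_of_dvd (Dvd.intro _ s5)) (s8 ▸ s3) (s8 ▸ s2)
    _ (e ▸ hK)
  obtain ⟨⟨y, hy⟩, ho⟩ := exists_prime_orderOf_dvd_card' 3 a2
  replace ho : orderOf y = 3 := (Subgroup.orderOf_coe _).trans ho
  have y3 : y ^ 3 = 1 := ho ▸ pow_orderOf_eq_one _
  have y1 : y ≠ 1 := fun f => by simp [f] at ho
  obtain ⟨hxy, hr⟩ := (h.mem_O y).mp hy
  have b1 := card_le_of_le (H x (C1 y) h.ord (mem_C1.mpr hxy.eq) fun f => y1 (by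
    rw [← mem_bot, ← center_bot hc]
    exact mem_center_iff.mpr fun g => mem_C1.mp (f ▸ mem_top g)))
  let F : IrrCharacter G → ℤ := fun χ => ⌊(χ.1 y * conj (χ.1 y)).re⌋
  have b2 := W.le_sum (F := F) (fun χ φ f => by simp only [F, f y hr]) fun χ =>
    Int.floor_nonneg.mpr (by rw [Complex.mul_conj, Complex.ofReal_re]; exact Complex.normSq_nonneg _)
  have b3 : ((∑ χ, F χ : ℤ) : ℝ) ≤ Nat.card (C1 y) := by
    have := congrArg Complex.re (second_orth_self y)
    rw [Complex.re_sum, Complex.natCast_re] at this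
    rw [Int.cast_sum]
    exact (sum_le_sum fun χ _ => Int.floor_le _).trans this.le
  have b4 : ∀ z ∈ K, (if dg z.1 = 96 then 324 else 0) ≤ F z.1 := fun z hz => by
    have hC := irr_isChar z.1.2
    obtain ⟨c1, c2⟩ := norm_three y3 (isMu_Mu hC y3)
    obtain ⟨a, ha⟩ := h.dvd_Mu_B0 hy y3 (W.memB z hz) (b := 1) z3.1
    obtain ⟨b, hb⟩ := h.dvd_Mu_B0 hy y3 (W.memB z hz) (b := 2) z3.2
    have c3 := sum_mu hC y3
    rw [dg_cast, Nat.cast_inj, show ∑ j, Mu 3 z.1.1 y j = _ from Fin.sum_univ_three _] at c3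
    change _ = Mu 3 z.1.1 y 0 + Mu 3 z.1.1 y 1 + Mu 3 z.1.1 y 2 at c3
    simp only [F, c1, Complex.intCast_re, Int.floor_intCast]
    have c4 : a = 0 → b = 0 → False := fun f g => (abs_lt_dg hc (W.ne z hz) y1
      (c2 (by simp [ha, f]) (by simp [hb, g]))).1 (by simp [c3, ha, hb, f, g])
    rw [ha, hb] at c3 ⊢
    generalize Mu 3 z.1.1 y 0 = m at c3 ⊢
    split_ifs with f
    · have : a ≤ 5 ∧ b ≤ 5 ∧ (m : ℤ) = 96 - 19 * a - 19 * b ∧ a + b ≤ 5 := by omega
      obtain ⟨d1, d2, d3, d4⟩ := this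
      rw [d3]
      interval_cases a <;> interval_cases b <;> simp at c4 d4 ⊢
    · push_cast
      nlinarith [sq_nonneg ((m : ℤ) - 19 * a), sq_nonneg ((m : ℤ) - 19 * b), sq_nonneg ((a : ℤ) - b)]
  have b5 := List.sum_le_sum (l := K) (f := fun z => (z.2.2 : ℤ) * if dg z.1 = 96 then 324 else 0)
    fun z hz => mul_le_mul_of_nonneg_left (b4 z hz) (Int.natCast_nonneg _)
  rw [show (K.map fun z => (z.2.2 : ℤ) * if dg z.1 = 96 then 324 else 0) = (K.map key).map
    fun k => (k.2.1 : ℤ) * if k.2.2 = 96 then 324 else 0 by rw [List.map_map]; rfl, a3] at b5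
  have b6 : F (triv G) = 1 := by simp [F]
  have b7 : ∑ χ, F χ ≤ Nat.card (C1 y) := by exact_mod_cast b3
  rw [s4, mul_assoc, a1] at b1
  simp at b5
  omega

end CfsgU3
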