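import Cfsg.Agent.H4.C1

/-! Interfaces for the recognition of `PSU₃(q)`, `q = 7, 8, 9`, by its order (S3645). -/

set_option autoImplicit false

namespace CfsgU3

open Cfsg CfsgL CfsgH5 CfsgH6 CfsgFT CfsgH8 CfsgB0 Subgroup Matrix
open scoped MatrixGroups

universe u

/-- the parameters `(q, r, d, p)`: `r` the characteristic, `d = gcd(3, q + 1)`,
`p = (q² - q + 1) / d` -/
def Par (q r d p : ℕ) : Prop := (q, r, d, p) ∈ [(7, 7, 1, 43), (8, 2, 3, 19), (9, 3, 1, 73)]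

/-- the order of `PSU₃(q)` -/
abbrev ord (q p : ℕ) : ℕ := q ^ 3 * p * ((q - 1) * (q + 1) ^ 2)

/-- `n` times the class multiplication sum at an element of order `p` -/
noncomputable def sc {G : Type u} [Group G] (q p : ℕ) (a s h : IrrCharacter G) (g g' : G) : ℤ :=
  (ord q p : ℕ) - iv g a * iv g' a * (q ^ 2 * p * (q + 1) ^ 2 : ℕ) -
    iv g s * iv g' s * (p * ((q - 1) * (q + 1) ^ 2) : ℕ) + iv g h * iv g' h * (q ^ 3 * p : ℕ)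

/-- the principal `p`-block `1, a, s, h` (`h` one of the exceptional characters) -/
structure DU (G : Type u) [Group G] [Finite G] (q r d p : ℕ) (a s h : IrrCharacter G) : Prop where
  par : Par q r d p
  card : Nat.card G = ord q p
  perf : commutator G = ⊤
  deg : dg a = q * (q - 1) ∧ dg s = q ^ 3 ∧ dg h = (q - 1) * (q + 1) ^ 2
  int : ∀ χ ∈ [a, s, h], ∀ g, ¬ p ∣ orderOf g → χ.1 g = iv g χ
  rel : ∀ g, ¬ p ∣ orderOf g → 1 + iv g h = iv g a + iv g s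
  xp : ∀ g, p ∣ orderOf g → orderOf g = p ∧ a.1 g = -1 ∧ s.1 g = -1
  cp : ∀ g : G, g ≠ 1 → ¬ p ∣ orderOf g → ¬ p ∣ Nat.card (C1 g)
  np : 3 * p * nord G p = ord q p * (p - 1)
  str : ∀ g g' : G, ¬ p ∣ orderOf g → ¬ p ∣ orderOf g' →
    ∃ m : ℕ, ((m * (Nat.card (C1 g) * Nat.card (C1 g')) : ℕ) : ℤ) = sc q p a s h g g'
  inv : ∀ t : G, orderOf t = 2 → sc q p a s h t t = 0
  uniq : ∀ χ : IrrCharacter G, dg χ = q ^ 3 → ∀ g, ¬ p ∣ orderOf g → χ.1 g = s.1 g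
  rho : Rho G p

/-- the doubly transitive action on the Sylow `r`-subgroups `Q i`; `Zs` are the transvections -/
structure TI3 (G Ω : Type u) [Group G] [MulAction G Ω] (q r d p : ℕ) (Q : Ω → Subgroup G)
    (Zs : Set G) : Prop where
  par : Par q r d p
  card : Nat.card G = ord q p
  cardΩ : Nat.card Ω = q ^ 3 + 1
  cardQ : ∀ i, Nat.card (Q i) = q ^ 3
  conj : ∀ (g : G) i, ∀ x ∈ Q i, g * x * g⁻¹ ∈ Q (g • i)
  fix : ∀ i, ∀ x ∈ Q i, x • i = i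
  reg : ∀ i, ∀ x ∈ Q i, ∀ o, o ≠ i → x • o = o → x = 1
  trans : ∀ i o : Ω, ∃ g : G, g • i = o
  Z1 : 1 ∉ Zs
  Zcj : ∀ z ∈ Zs, ∀ z', z' ∈ Zs ↔ IsConj z z'
  Zc : ∀ z ∈ Zs, d * Nat.card (C1 z) = q ^ 3 * (q + 1)
  Zq : ∀ i, (Zs ∩ Q i).ncard = q - 1
  cen : ∀ i, ∀ x ∈ Q i, x ≠ 1 → x ∉ Zs → Nat.card (C1 x) ∣ q ^ 2
  big : ∀ i, ∀ R ≤ Q i, q * (q - 1) < Nat.card R → Zs ∩ Q i ⊆ R
  inv : r ≠ 2 → ∀ t : G, orderOf t = 2 → {i : Ω | t • i = i}.ncard = q + 1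

/-- the structure of the stabiliser `Q H` of `i` (odd `q`); `j` is the involution of `H` -/
structure U3B (G Ω : Type u) [Group G] [MulAction G Ω] (q r : ℕ) (i o : Ω) (Q Z H : Subgroup G)
    (j : G) : Prop where
  par : (q, r) ∈ [(7, 7), (9, 3)]
  ne : o ≠ i
  cardΩ : Nat.card Ω = q ^ 3 + 1
  cardQ : Nat.card Q = q ^ 3
  cardZ : Nat.card Z = q
  cardH : Nat.card H = q ^ 2 - 1
  fix : ∀ x ∈ Q, x • i = i
  reg : ∀ x ∈ Q, x • o = o → x = 1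
  tr : ∀ w : Ω, w ≠ i → ∃ x ∈ Q, x • o = w
  trans : ∃ g : G, g • i = o
  nrm : ∀ g : G, g • i = i → ∀ x ∈ Q, g * x * g⁻¹ ∈ Q
  memH : ∀ g : G, g ∈ H ↔ g • i = i ∧ g • o = o
  Z_le : Z ≤ Q
  Zn : ∀ g ∈ H, ∀ z ∈ Z, g * z * g⁻¹ ∈ Z
  Zc : ∀ z ∈ Z, ∀ x ∈ Q, x * z = z * x
  comm : ∀ x ∈ Q, ∀ y ∈ Q, x * y * x⁻¹ * y⁻¹ ∈ Z
  pw : ∀ x ∈ Q, x ^ r ∈ Z
  nab : ∃ x ∈ Q, ∃ y ∈ Q, x * y ≠ y * x
  free : ∀ g ∈ H, ∀ x ∈ Q, x ∉ Z → g * x * g⁻¹ * x⁻¹ ∈ Z → g = 1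
  H0 : ∀ z ∈ Z, z ≠ 1 → Nat.card ↥(H ⊓ C1 z) = q + 1
  jH : j ∈ H
  j2 : orderOf j = 2
  juniq : ∀ t ∈ H, t * t = 1 → t = 1 ∨ t = j
  jZ : ∀ x ∈ Q, j * x = x * j ↔ x ∈ Z
  jinv : ∀ x ∈ Q, x * (j * x * j⁻¹) ∈ Z
  fixn : ∀ t : G, orderOf t = 2 → {w : Ω | t • w = w}.ncard = q + 1
  inv : ∀ s t : G, orderOf s = 2 → orderOf t = 2 → IsConj s t

/-- coordinates on `Q` and `H` -/
structure U3D (G Ω : Type u) [Group G] [MulAction G Ω] {E : Type} [Field E] (σ : E →+* E)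
    (i o : Ω) (Q : Subgroup G) (x y : G → E) (η : Eˣ →* G) : Prop where
  ne : o ≠ i
  fix : ∀ a ∈ Q, a • i = i
  tr : ∀ w : Ω, w ≠ i → ∃ a ∈ Q, a • o = w
  reg : ∀ a ∈ Q, a • o = o → a = 1
  trans : ∃ g : G, g • i = o
  nrm : ∀ g : G, g • i = i → ∀ a ∈ Q, g * a * g⁻¹ ∈ Q
  memH : ∀ g : G, g ∈ η.range ↔ g • i = i ∧ g • o = o
  inv : ∀ s t : G, orderOf s = 2 → orderOf t = 2 → IsConj s t
  x_mul : ∀ a ∈ Q, ∀ b ∈ Q, x (a * b) = x a + x b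
  y_mul : ∀ a ∈ Q, ∀ b ∈ Q, y (a * b) = y a + y b + σ (x a) * x b
  her : ∀ a ∈ Q, y a + σ (y a) = x a * σ (x a)
  ext : ∀ a ∈ Q, ∀ b ∈ Q, x a = x b → y a = y b → a = b
  sur : ∀ u v : E, v + σ v = u * σ u → ∃ a ∈ Q, x a = u ∧ y a = v
  x_η : ∀ μ : Eˣ, ∀ a ∈ Q, x (η μ * a * (η μ)⁻¹) = μ * x a
  y_η : ∀ μ : Eˣ, ∀ a ∈ Q, y (η μ * a * (η μ)⁻¹) = μ * σ μ * y a

/-- the element acting like the Weyl element of the model -/
def Wey (G Ω : Type u) [Group G] [MulAction G Ω] {E : Type} [Field E] (i o : Ω) (Q : Subgroup G)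
    (x y : G → E) (w : G) : Prop :=
  w • i = o ∧ w • o = i ∧ ∀ a ∈ Q, a ≠ 1 → ∃ b ∈ Q, w • a • o = b • o ∧ x b = -x a / y a ∧
    y b = (y a)⁻¹

section model

variable {E : Type} [Field E] (σ : E →+* E)

/-- the hermitian form with antidiagonal Gram matrix -/
def formK (u v : Fin 3 → E) : E := u 0 * σ (v 2) - u 1 * σ (v 1) + u 2 * σ (v 0)

/-- its special unitary group -/
def UK : Subgroup SL(3, E) := Cfsg.preserving (Cfsg.slToMat 3 E) (formK σ)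

variable {σ}

theorem mem_UK {A : SL(3, E)} :
    A ∈ UK σ ↔ ∀ u v, formK σ (A.1 *ᵥ u) (A.1 *ᵥ v) = formK σ u v := Iff.rfl

/-- the unipotent elements -/
def kU (hσ : ∀ x, σ (σ x) = x) {x y : E} (h : y + σ y = x * σ x) : UK σ :=
  ⟨⟨!![1, σ x, y; 0, 1, x; 0, 0, 1], by simp [det_fin_three]⟩, mem_UK.mpr fun u v => by
    simp [formK, Fin.sum_univ_three, mulVec, dotProduct, hσ]
    linear_combination (u 2 * σ (v 2)) * h⟩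

/-- the Weyl element -/
def kT (σ : E →+* E) : UK σ :=
  ⟨⟨!![0, 0, 1; 0, -1, 0; 1, 0, 0], by simp [det_fin_three]⟩, mem_UK.mpr fun u v => by
    simp [formK, Fin.sum_univ_three, mulVec, dotProduct]
    ring⟩

theorem kU_vec (hσ : ∀ x, σ (σ x) = x) {x y : E} (h : y + σ y = x * σ x) (v : Fin 3 → E) :
    (kU hσ h).1.1 *ᵥ v = ![v 0 + σ x * v 1 + y * v 2, v 1 + x * v 2, v 2] := by
  ext i; fin_cases i <;> simp [kU, mulVec, dotProduct, Fin.sum_univ_three]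

theorem kT_vec (v : Fin 3 → E) : (kT σ).1.1 *ᵥ v = ![v 2, -v 1, v 0] := by
  ext i; fin_cases i <;> simp [kT, mulVec, dotProduct, Fin.sum_univ_three]

theorem UK_mul_vec (A B : UK σ) (v : Fin 3 → E) : (A * B).1.1 *ᵥ v = A.1.1 *ᵥ B.1.1 *ᵥ v := by
  rw [mulVec_mulVec]; rfl

/-- `UK` is generated by the unipotent elements and the Weyl element -/
def KGen (σ : E →+* E) (hσ : ∀ x, σ (σ x) = x) : Prop :=
  ∀ B : Subgroup (UK σ), kT σ ∈ B → (∀ x y (h : y + σ y = x * σ x), kU hσ h ∈ B) → B = ⊤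

end model

end CfsgU3
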