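import Cfsg.Agent.H3.U3Def

/-! S3645: the centraliser of an element of order `19` has odd order. -/

set_option autoImplicit false
set_option linter.unusedSectionVars false

namespace CfsgU3

open Cfsg CfsgL CfsgH5 CfsgH6 CfsgFT CfsgH8 CfsgB0 Subgroup

universe u

variable {G : Type u} [Group G] [Finite G]

theorem dk_idx {K T : Subgroup G} (h : K.relIndex T ∣ 2) {a : G} (ha : a ∈ T) : a * a ∈ K := by
  rcases (Nat.dvd_prime Nat.prime_two).mp h with e | e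
  · exact relIndex_eq_one.mp e (mul_mem ha ha)
  · exact (mul_mem_iff_of_index_two e (a := ⟨a, ha⟩) (b := ⟨a, ha⟩)).mpr Iff.rfl

variable [IsSimpleGroup G] (hc : commutator G = ⊤)
include hc

/-- normalisers of nontrivial subgroups of `C(x)` -/
theorem N_le_of_min {p : ℕ} {x : G} (x1 : orderOf x = p) (hp : p ≠ 1)
    (H : ∀ (x : G) (X : Subgroup G), orderOf x = p → x ∈ X → X ≠ ⊤ → X ≤ N (zpowers x))
    {D : Subgroup G} (d1 : D ≠ ⊥) (d2 : D ≤ C1 x) : N D ≤ N (zpowers x) := by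
  refine H x _ x1 (C_le_N _ (le_C1_iff.mp d2)) fun f => hp ?_
  obtain rfl := (nrm_top_iff.mp (f ▸ nrm_N D)).eq_bot_or_eq_top.resolve_left d1
  rw [← x1, orderOf_eq_one_iff, ← mem_bot, ← center_bot hc]
  exact mem_center_iff.mpr fun g => mem_C1.mp (d2 (mem_top g))

theorem not_even_k (h1 : Nat.card G ∣ 5515776) {x : G} (h : @P1 G _ 19 x)
    (H : ∀ (x : G) (X : Subgroup G), orderOf x = 19 → x ∈ X → X ≠ ⊤ → X ≤ N (zpowers x)) :
    ¬ 2 ∣ Nat.card (Opc 19 (C1 x)) := fun h2 => by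
  haveI : Fact (Nat.Prime 2) := ⟨Nat.prime_two⟩
  haveI : Fact (Nat.Prime 19) := ⟨by norm_num⟩
  obtain ⟨⟨z, hz⟩, ho⟩ := exists_prime_orderOf_dvd_card' 2 h2
  replace ho : orderOf z = 2 := (Subgroup.orderOf_coe _).trans ho
  have hxz : z ∈ C1 x := mem_C1.mpr ((h.mem_O z).mp hz).1.eq.symm
  have z1 : z ≠ 1 := fun f => by simp [f] at ho
  have z2 : z * z = 1 := by rw [← pow_two, ← ho, pow_orderOf_eq_one]
  obtain ⟨-, s2, s3, -⟩ := h.sylow hc
  have s4 := h.card_U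
  have s5 := h.card_mul_index
  have hCN : C1 x ≤ N (zpowers x) := C_zpowers x ▸ C_le_N _
  have hn : Nrm (N (zpowers x)) (C1 x) := C_zpowers x ▸ nrm_N_C _
  have K := @N_le_of_min G _ _ _ hc 19 x h.ord (by norm_num) H
  generalize N (zpowers x) = M at s2 s3 s4 hCN hn K
  have Kz : C1 z ≤ M := C_zpowers z ▸ (C_le_N _).trans
    (K (zpowers_ne_bot.mpr z1) (zpowers_le.mpr hxz))
  obtain ⟨W, zW, hW⟩ := exists_sylIn_ge (p := 2) (zpowers_le.mpr (hCN hxz))
    (IsPGroup.of_card (n := 1) (by rw [Nat.card_zpowers, ho, pow_one]))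
  obtain ⟨U, WU, hU⟩ := exists_sylIn_ge (le_top : W ≤ ⊤) hW.isPGroup
  rw [zpowers_le] at zW
  have UM : U ⊓ M = W := hW.eq_of_le inf_le_right hU.isPGroup.to_inf_left (le_inf WU hW.le)
  have lt : W < U := lt_of_le_of_ne WU fun f => by
    have a := hU.not_dvd_relIndex
    rw [relIndex_top_right] at a
    have b : ¬ 2 ∣ M.index := fun e => a (e.trans (index_dvd_of_le (f ▸ hW.le)))
    have c : M.index ∣ 10773 := Nat.Coprime.dvd_of_dvd_mul_left (k := M.index) (m := 2 ^ 9)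
      (Nat.Coprime.pow_right _ ((Nat.Prime.coprime_iff_not_dvd Nat.prime_two).mpr b).symm)
      (M.index_dvd_card.trans h1)
    exact s2 ((by decide +kernel : ∀ n ∈ Nat.divisors 10773, n % 19 = 1 → n = 1) _
      (Nat.mem_divisors.mpr ⟨c, by norm_num⟩) s3)
  obtain ⟨g, gU, gW, gN, g2⟩ : ∃ g ∈ U, g ∉ W ∧ g ∈ N W ∧ g * g ∈ W := by
    obtain ⟨g, a1, a2, a3⟩ := exists_nrm_of_lt hU.isPGroup lt
    obtain ⟨k, k1, k2⟩ := exists_pow_not_mem_pow_mem hU.isPGroup (W.subgroupOf U) (a := ⟨g, a1⟩) a2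
    exact ⟨g ^ 2 ^ k, pow_mem a1 _, k1, pow_mem a3 _, pow_two (g ^ 2 ^ k) ▸ k2⟩
  have i2 : (C1 x).relIndex W ∣ 2 := by
    obtain ⟨a, ha⟩ := IsPGroup.iff_card.mp hW.isPGroup
    have b1 : (C1 x).relIndex W ∣ 9 * 2 := (relIndex_dvd_of_nrm' hW.le hn).trans
      ⟨h.U.index, by rw [s4]; omega⟩
    exact Nat.Coprime.dvd_of_dvd_mul_left (Nat.Coprime.coprime_dvd_left (ha ▸ relIndex_dvd_card' _ W)
      (Nat.Coprime.pow_left _ (by norm_num))) b1
  have D : (W ⊓ C1 x) ⊓ cj g (W ⊓ C1 x) = ⊥ := by_contra fun f => gW (UM ▸ ⟨gU, K f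
    (inf_le_left.trans inf_le_right) (mem_N.mpr (by
      rw [cj_inf, cj_cj, inf_comm, cj_inf (g * g), cj_self g2, mem_N.mp (hn.le_N (hW.le g2))]))⟩)
  have c4 : Nat.card W ≤ 4 := by
    have b1 := relIndex_inf_le (H := W ⊓ C1 x) (K := cj g (W ⊓ C1 x)) (L := W)
    have b2 : (cj g (W ⊓ C1 x)).relIndex (cj g W) = (W ⊓ C1 x).relIndex W :=
      relIndex_map_map_of_injective _ _ (MulAut.conj g).injective
    rw [mem_N.mp gN] at b2
    rw [D, relIndex_bot_left, b2, inf_relIndex_left] at b1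
    have b3 := Nat.le_of_dvd two_pos i2
    nlinarith
  have cU : ∀ s ∈ U, s * z = z * s → s ∈ W := fun s a b => UM ▸ ⟨a, Kz (mem_C1.mpr b)⟩
  obtain ⟨r, hr⟩ := CfsgH5.exists_index_two (dihedral_or_quasiDihedral hU.isPGroup ⟨z, WU zW⟩
    (Subtype.ext z2) (fun a => z1 (congrArg Subtype.val a)) (fun s a => z1 (by
      have a : (s : G) * s = z := congrArg Subtype.val a
      have b : g⁻¹ * s * g ∈ W := mem_cj.mp ((mem_N.mp gN).ge (cU s s.2 (by rw [← a, mul_assoc])))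
      have c : g⁻¹ * s * g * (g⁻¹ * s * g) = g⁻¹ * z * g := by rw [← a]; group
      exact mem_bot.mp (D ▸ ⟨⟨zW, hxz⟩, mem_cj.mpr (c ▸ ⟨mul_mem b b, dk_idx i2 b⟩)⟩))) (by
      refine le_trans ?_ c4
      rw [← card_map_of_injective U.subtype_injective]
      refine card_le_of_le ?_
      rintro _ ⟨s, hs, rfl⟩
      exact cU s s.2 (congrArg Subtype.val (mem_centralizer_singleton_iff.mp hs))))
  have e : (zpowers (r : G)).subgroupOf U = zpowers r := by
    ext y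
    rw [mem_subgroupOf]
    exact ⟨fun ⟨k, hk⟩ => ⟨k, Subtype.ext (by simpa using hk)⟩, fun ⟨k, hk⟩ =>
      ⟨k, by simpa using congrArg Subtype.val hk⟩⟩
  obtain ⟨a, ha⟩ := thompson_transfer' hU (zpowers_le.mpr r.2) (by rw [relIndex, e, hr])
    (fun X f => by
      obtain rfl | rfl := (normal_of_index_eq_two f).eq_bot_or_eq_top
      · rw [index_bot] at f
        have := (orderOf_dvd_natCard x)
        rw [h.ord, f] at this
        omega
      · simp at f) z2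
  have b : cj a⁻¹ U ≤ M := (cj_le_iff.mpr fun u hu => by
    rw [inv_inv, cj_C1, mem_C1_iff_conj]
    have k := (normal_of_index_eq_two hr).conj_mem ⟨_, zpowers_le.mpr r.2 ha⟩
      (e ▸ mem_subgroupOf.mpr ha) ⟨u, hu⟩
    rw [← e, mem_subgroupOf] at k
    have z3 : a * z * a⁻¹ * (a * z * a⁻¹) = 1 := by
      rw [show a * z * a⁻¹ * (a * z * a⁻¹) = a * (z * z) * a⁻¹ by group, z2]; group
    have z4 : a * z * a⁻¹ ≠ 1 := by simpa using z1
    exact invol_unique k (by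
      change u * (a * z * a⁻¹) * u⁻¹ * (u * (a * z * a⁻¹) * u⁻¹) = 1
      rw [show u * (a * z * a⁻¹) * u⁻¹ * (u * (a * z * a⁻¹) * u⁻¹) =
        u * (a * z * a⁻¹ * (a * z * a⁻¹)) * u⁻¹ by group, z3]; group)
      (by change u * (a * z * a⁻¹) * u⁻¹ ≠ 1; simpa using z1) ha z3 z4).trans Kz
  have c := hW.card_le b (hU.cjj a⁻¹).isPGroup
  rw [card_cj] at c
  exact lt.ne (eq_of_le_of_card_ge WU c)

end CfsgU3
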