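import Cfsg.Agent.H3.U3Wb

/-! S3645: the Weyl element. -/

set_option autoImplicit false

namespace CfsgU3

open Subgroup

universe u

variable {E : Type} [Field E] [Fintype E] {σ : E →+* E} {q : ℕ}

theorem ff_of (hq : Fintype.card E = q ^ 2) (hσ : ∀ u, σ u = u ^ q) (ho : Odd q) (h3 : 3 ≤ q) :
    FF σ q := by
  classical
  have ss : ∀ u, σ (σ u) = u := fun u => by
    rw [hσ, hσ, ← pow_mul, ← sq, ← hq, FiniteField.pow_card]
  obtain ⟨q, rfl⟩ : ∃ k, q = k + 1 := ⟨q - 1, by omega⟩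
  have c : Nat.card Eˣ = q * (q + 1 + 1) := by
    rw [Nat.card_units, Nat.card_eq_fintype_card, hq]
    exact Nat.sub_eq_of_eq_add (by ring)
  have k1 := IsCyclic.card_powMonoidHom_ker Eˣ q
  have k2 := IsCyclic.card_powMonoidHom_ker Eˣ (q + 1 + 1)
  have k3 := IsCyclic.card_powMonoidHom_range Eˣ (q + 1 + 1)
  rw [c, Nat.gcd_mul_right_left] at k1
  rw [c, Nat.gcd_mul_left_left] at k2 k3
  rw [Nat.mul_div_cancel _ (by omega)] at k3
  have m1 : ∀ μ : Eˣ, μ ∈ (powMonoidHom q : Eˣ →* Eˣ).ker ↔ σ μ = μ := fun μ => by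
    rw [MonoidHom.mem_ker, powMonoidHom_apply, hσ, pow_succ, mul_eq_right₀ μ.ne_zero,
      ← Units.val_pow_eq_pow_val, Units.val_eq_one]
  have cf : Nat.card {u : E // σ u = u} = q + 1 := by
    rw [← k1, ← Finite.card_option]
    refine (Nat.card_congr (Equiv.ofBijective (fun z : Option (powMonoidHom q : Eˣ →* Eˣ).ker =>
      z.elim ⟨0, map_zero σ⟩ fun μ => ⟨μ.1, (m1 _).mp μ.2⟩) ⟨?_, fun u => ?_⟩)).symm
    · rintro (_ | a) (_ | b) e <;> simp only [Option.elim, Subtype.mk.injEq] at e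
      exacts [rfl, absurd e.symm b.1.ne_zero, absurd e a.1.ne_zero,
        congrArg _ (Subtype.ext (Units.ext e))]
    · by_cases e : u.1 = 0
      exacts [⟨none, Subtype.ext e.symm⟩, ⟨some ⟨Units.mk0 _ e, (m1 _).mpr u.2⟩, rfl⟩]
  obtain ⟨δ, d0, d1⟩ : ∃ u : E, u ≠ 0 ∧ u + σ u = 0 := by
    by_contra! H
    rw [Nat.card_congr (Equiv.subtypeUnivEquiv fun u => by_contra fun e => H (σ u - u)
      (sub_ne_zero.mpr e) (by rw [map_sub, ss]; ring)), Nat.card_eq_fintype_card, hq] at cf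
    nlinarith
  have d2 : σ δ = -δ := by linear_combination d1
  refine ⟨ss, fun b hb => ?_, by rw [cf, ← Nat.odd_iff]; exact ho, ?_, ?_, ?_, δ, d0, d1⟩
  · by_cases b0 : b = 0
    · exact ⟨0, by simp [b0]⟩
    have : (powMonoidHom (q + 1 + 1) : Eˣ →* Eˣ).range = (powMonoidHom q : Eˣ →* Eˣ).ker :=
      eq_of_le_of_card_ge (by
        rintro _ ⟨μ, rfl⟩
        rw [MonoidHom.mem_ker, powMonoidHom_apply, powMonoidHom_apply, ← pow_mul, mul_comm, ← c,
          pow_card_eq_one']) (k1.trans k3.symm).le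
    obtain ⟨μ, e⟩ := this.ge ((m1 (Units.mk0 b b0)).mpr hb)
    exact ⟨μ, by rw [hσ, ← pow_succ', ← Units.val_pow_eq_pow_val]; exact congrArg Units.val e⟩
  · rw [← cf]
    exact Nat.card_congr ⟨fun u => ⟨u.1 / δ, by
      rw [map_div₀, d2, eq_neg_of_add_eq_zero_right u.2, neg_div_neg_eq]⟩,
      fun u => ⟨u.1 * δ, by rw [map_mul, u.2, d2]; ring⟩, fun u => by simp [d0], fun u => by simp [d0]⟩
  · rw [← k2]
    exact Nat.card_congr ⟨fun u => ⟨Units.mk0 u.1 (left_ne_zero_of_mul_eq_one u.2), Units.ext (by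
      simpa [hσ, ← pow_succ'] using u.2)⟩, fun μ => ⟨μ.1, by
      simpa [hσ, ← pow_succ'] using congrArg Units.val (MonoidHom.mem_ker.mp μ.2)⟩,
      fun u => rfl, fun u => by simp⟩
  · refine Ring.two_ne_zero fun e => ?_
    have := FiniteField.even_card_of_char_two e
    rw [hq, ← Nat.even_iff, Nat.even_pow] at this
    exact Nat.not_even_iff_odd.mpr ho this.1

theorem U3D.wey {G Ω : Type u} [Group G] [MulAction G Ω] {i o : Ω} {Q : Subgroup G} {x y : G → E}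
    {η : Eˣ →* G} (h : U3D G Ω σ i o Q x y η) (hq : Fintype.card E = q ^ 2) (hσ : ∀ u, σ u = u ^ q)
    (ho : Odd q) (h3 : 3 ≤ q) : ∃ w, Wey G Ω i o Q x y w := h.wey' (ff_of hq hσ ho h3)

end CfsgU3
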