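import Cfsg.Agent.H3.U3TI
import Cfsg.Agent.H3.U3W
import Cfsg.Agent.H4.U3D
import Cfsg.Agent.H6.U3M1
import Cfsg.Agent.H6.U3M2
import Cfsg.Agent.L.U3E8
import Cfsg.Agent.H7.U3B
import Cfsg.Agent.H9.U3CO
import Cfsg.Agent.H2.U3ID
import Cfsg.Agent.H1.U3C

/-! S3645: recognition of `PSU₃(q)`, `q = 7, 8, 9`, by order and degree primes. -/

set_option autoImplicit false

namespace CfsgU3

open Cfsg CfsgL CfsgH5 CfsgH6 CfsgFT CfsgH8 CfsgB0 Subgroup

universe u v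



theorem u3_sec {q r d p : ℕ} (hP : Par q r d p) {F : Type} [Field F] [Fintype F]
    (hF : Fintype.card F = q ^ 2) (T : Type u) [Group T] [Finite T] [IsSimpleGroup T]
    (hc : commutator T = ⊤) (h1 : Nat.card T ∣ ord q p) (h2 : p ∣ Nat.card T) :
    Nonempty (T ≃* PSU 3 F q) := by
  obtain ⟨a, s, h, D⟩ := exists_DU hP hc h1 h2
  obtain ⟨Ω, _, Q, Zs, h⟩ := D.ti
  by_cases hr : r = 2
  · obtain ⟨rfl, rfl, rfl⟩ : q = 8 ∧ d = 3 ∧ p = 19 := by have := hP.cases; omega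
    subst hr
    exact h.e8 hF
  obtain ⟨i, o, Z, H, j, B⟩ := h.base hr
  obtain ⟨E, _, _, σ, x, y, η, e1, e2, U⟩ := B.coord B.cyc
  obtain ⟨w, hw⟩ := U.wey e1 e2 (by rw [Nat.odd_iff]; have := hP.cases; omega)
    (by have := hP.cases; omega)
  obtain ⟨f⟩ := U.iso _ (kgen e1 e2) hw
  exact ⟨f.trans ((psu_of_uk e1 e2).some.trans (psu_congr (e1.trans hF.symm) q).some)⟩

theorem rec_u3 {q r d p : ℕ} (hP : Par q r d p) {F : Type} [Field F] [Fintype F]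
    (hF : Fintype.card F = q ^ 2) {S : Type v} [Group S] [Finite S] (f : S ≃* PSU 3 F q)
    {G : Type u} [Group G] [Finite G] (e : Nat.card G = Nat.card S)
    (h : degreePrimes G = degreePrimes S) : Nonempty (G ≃* S) := by
  have := Fact.mk hP.basic.2.1
  have e1 : Nat.card (PSU 3 F q) = ord q p := by
    have k := card_psu hF
    generalize Nat.card (PSU 3 F q) = n at k ⊢
    rcases hP.cases with ⟨rfl, -, -, rfl⟩ | ⟨rfl, -, -, rfl⟩ | ⟨rfl, -, -, rfl⟩ <;>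
      norm_num [ord] at k ⊢ <;> omega
  obtain ⟨e2, e3⟩ := psu_simple hF (by have := hP.cases; omega)
  obtain ⟨a, s, k, D⟩ := exists_DU hP e3 e1.dvd (e1 ▸ (dvd_mul_left p _).mul_right _)
  refine rec_gen p 6525 e1 ?_ D.rho (u3_sec hP hF) f e h
  rcases hP.cases with ⟨rfl, -, -, rfl⟩ | ⟨rfl, -, -, rfl⟩ | ⟨rfl, -, -, rfl⟩ <;> decide +kernel

end CfsgU3

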