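import Cfsg.Agent.H3.U3TIc
import Cfsg.Agent.H6.Derang

/-! S3645: the doubly transitive action on the Sylow `r`-subgroups. -/

set_option autoImplicit false
set_option linter.unusedSectionVars false

namespace CfsgU3

open Finset Cfsg CfsgL CfsgH5 CfsgH6 CfsgFT CfsgSZ CfsgH8 CfsgB0 Subgroup MulAction

universe u

variable {G : Type u} [Group G] [Finite G] {q r d p : ℕ} {a s h : IrrCharacter G}

theorem ti_irr {Ω : Type*} [Finite Ω] [MulAction G Ω] {a b : Ω} (hab : a ≠ b)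
    (h1 : ∀ c, ∃ g : G, g • a = c) (h2 : ∀ c d, c ≠ d → ∃ g : G, g • a = c ∧ g • b = d) :
    IsIrrCharacter G (fun g => (Nat.card (fixedBy Ω g) : ℂ) - 1) := by
  classical
  letI := Fintype.ofFinite G
  haveI : Nonempty Ω := ⟨a⟩
  have htr : IsPretransitive G Ω := ⟨fun x y => by
    obtain ⟨g, rfl⟩ := h1 x
    obtain ⟨k, rfl⟩ := h1 y
    exact ⟨k * g⁻¹, by simp [mul_smul]⟩⟩
  have e1 : ∑ g : G, Nat.card (fixedBy Ω g) = Nat.card G := by
    rw [burnside_nat, card_orbit_quotient_eq_one htr, one_mul]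
  have e2 : ∑ g : G, Nat.card (fixedBy Ω g) * Nat.card (fixedBy Ω g) = 2 * Nat.card G := by
    simp_rw [← card_fixedBy_prod]
    rw [burnside_nat]
    congr 1
    rw [Nat.card_eq_two_iff]
    refine ⟨Quotient.mk _ (a, a), Quotient.mk _ (a, b), fun h => ?_, ?_⟩
    · obtain ⟨g, hg⟩ := Quotient.exact h
      simp only [Prod.smul_mk, Prod.mk.injEq] at hg
      exact hab ((smul_left_cancel_iff g).1 (hg.1.trans hg.2.symm))
    · rw [Set.eq_univ_iff_forall]
      intro x
      obtain ⟨⟨c, d⟩, rfl⟩ := Quotient.exists_rep x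
      by_cases h : c = d
      · obtain ⟨g, hg⟩ := h1 c
        exact .inl (Quotient.sound ⟨g, by simp [hg, h]⟩)
      · obtain ⟨g, hg, hg'⟩ := h2 c d h
        exact .inr (Quotient.sound ⟨g, by simp [hg, hg']⟩)
  apply irr_of_norm_one (gen_sub (gen_of_char (char_perm Ω)) gen_one)
  · have h1' : ∑ g : G, (Nat.card (fixedBy Ω g) : ℂ) = Nat.card G := by exact_mod_cast e1
    have h2' : ∑ g : G, (Nat.card (fixedBy Ω g) : ℂ) * Nat.card (fixedBy Ω g) = 2 * Nat.card G := by
      exact_mod_cast e2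
    apply mul_left_cancel₀ (card_ne_zero' : (Nat.card G : ℂ) ≠ 0)
    rw [← sum_mul_conj_eq]
    simp only [Pi.sub_apply, map_sub, map_natCast, map_one]
    have : ∀ g : G, ((Nat.card (fixedBy Ω g) : ℂ) - 1) * (Nat.card (fixedBy Ω g) - 1) =
        (Nat.card (fixedBy Ω g) : ℂ) * Nat.card (fixedBy Ω g) - 2 * Nat.card (fixedBy Ω g) + 1 :=
      fun g => by ring
    simp_rw [this]
    rw [sum_add_distrib, sum_sub_distrib, ← mul_sum, h1', h2']
    simp
  · simp only [Pi.sub_apply, fixedBy_one_eq_univ, Nat.card_univ, Complex.sub_re,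
      Complex.natCast_re, Complex.one_re, sub_nonneg, Nat.one_le_cast]
    exact Nat.card_pos

theorem ti_tr {Ω : Type*} [Finite Ω] [MulAction G Ω] {Q : Subgroup G} {i o : Ω} (ne : o ≠ i)
    (e : Nat.card Ω = Nat.card Q + 1) (fix : ∀ x ∈ Q, x • i = i) (reg : ∀ x ∈ Q, x • o = o → x = 1)
    {w : Ω} (hw : w ≠ i) : ∃ x ∈ Q, x • o = w := by
  classical
  have inj : Function.Injective fun x : Option Q => x.elim i (·.1 • o) := by
    rintro (_ | x) (_ | y) f
    · rfl
    · exact absurd ((smul_left_cancel_iff y.1).1 (f.symm.trans (fix y y.2).symm)) ne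
    · exact absurd ((smul_left_cancel_iff x.1).1 (f.trans (fix x x.2).symm)) ne
    · exact congrArg _ (Subtype.ext (inv_mul_eq_one.mp (reg _ (mul_mem (inv_mem x.2) y.2) (by
        rw [mul_smul, inv_smul_eq_iff]; exact f.symm))))
  obtain ⟨_ | x, hx⟩ := (inj.bijective_of_nat_card_le (by rw [e, Finite.card_option])).2 w
  · exact absurd hx.symm hw
  · exact ⟨x, x.2, hx⟩

namespace DU

variable (D : DU G q r d p a s h)
include D

theorem inv_s (hr : r ≠ 2) {t : G} (ht : orderOf t = 2) : ¬ p ∣ orderOf t ∧ iv t s = q := by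
  obtain ⟨b1, b2, -⟩ := D.par.basic
  have e1 : ¬ p ∣ orderOf t := fun f => by
    have := Nat.le_of_dvd two_pos (ht ▸ f)
    have := D.par.cases
    omega
  have e2 := D.nre_val (fun f => by simp [f] at ht) e1 fun f =>
    hr ((Nat.prime_dvd_prime_iff_eq b1 Nat.prime_two).mp (ht ▸ (D.re_dvd f).1))
  have e3 := D.rel t e1
  have e4 := D.inv t ht
  rw [sc, show iv t h = 0 by omega, show iv t a = 1 - iv t s by omega] at e4
  refine ⟨e1, ?_⟩
  generalize iv t s = x at e4
  rcases D.par.cases with ⟨rfl, -, -, rfl⟩ | ⟨-, rfl, -⟩ | ⟨rfl, -, -, rfl⟩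
  · have : (x - 7) * (55 * x + 287) = 0 := by norm_num [ord] at e4; linarith
    rcases mul_eq_zero.mp this with f | f <;> omega
  · exact absurd rfl hr
  · have : (x - 9) * (89 * x + 639) = 0 := by norm_num [ord] at e4; linarith
    rcases mul_eq_zero.mp this with f | f <;> omega

theorem ti [IsSimpleGroup G] : ∃ (Ω : Type u) (_ : MulAction G Ω) (Q : Ω → Subgroup G)
    (Zs : Set G), TI3 G Ω q r d p Q Zs := by
  obtain ⟨b1, -, -, -, -, -, b7, -⟩ := D.par.basic
  haveI := Fact.mk b1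
  have cQ : ∀ P : Sylow r G, Nat.card P = q ^ 3 := fun P => by
    obtain ⟨T, t1, t2⟩ := D.exP' P.isPGroup'
    rw [← t2, P.is_maximal' (D.pg t2) t1]
  have fix : ∀ P : Sylow r G, ∀ x ∈ (P : Subgroup G), x • P = P := fun P x hx =>
    Sylow.smul_eq_iff_mem_normalizer.mpr (le_normalizer hx)
  have reg : ∀ P : Sylow r G, ∀ x ∈ (P : Subgroup G), ∀ o, o ≠ P → x • o = o → x = 1 :=
    fun P x hx o ne e => by
      by_contra f
      refine ne (Sylow.ext (D.tiP f (cQ o) (cQ P) ?_ hx))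
      have := (RE.of_mem P.isPGroup' hx f).isPGroup.inf_normalizer_sylow o
      exact (this.le ⟨mem_zpowers x, Sylow.smul_eq_iff_mem_normalizer.mp e⟩).2
  have cΩ : Nat.card (Sylow r G) = q ^ 3 + 1 := by
    have e1 := ti_dc (ZZ q r a) (Set.univ : Set (Sylow r G)) fun z P => z ∈ (P : Subgroup G)
    rw [ti_eq (m := 1) fun z hz => by
      obtain ⟨P, hP⟩ := hz.1.isPGroup.exists_le_sylow
      exact Set.ncard_eq_one.mpr ⟨P, Set.eq_singleton_iff_unique_mem.mpr ⟨⟨trivial, hP (mem_zpowers z)⟩,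
        fun P' f => Sylow.ext (D.tiP hz.1.1 (cQ _) (cQ _) f.2 (hP (mem_zpowers z)))⟩⟩,
      ti_eq (m := q - 1) (f := fun P : Sylow r G => {x ∈ ZZ q r a | x ∈ (P : Subgroup G)}.ncard)
        fun P _ => D.kP (cQ P), D.cardZ.1, mul_one, Set.ncard_univ] at e1
    exact (Nat.eq_of_mul_eq_mul_right (by omega) e1).symm
  refine ⟨Sylow r G, inferInstance, fun P => P, ZZ q r a, D.par, D.card, cΩ, cQ,
    fun g P x hx => ?_, fix, reg, fun i o => exists_smul_eq G i o, fun f => f.1.1 rfl,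
    fun z hz => (D.oneZ hz).1, fun z hz => (D.oneZ hz).2, fun P => D.kP (cQ P),
    fun P x hx h1 f => (D.val0 (RE.of_mem P.isPGroup' hx h1) f).2,
    fun P R l e => (D.eqZ P.isPGroup' l e).ge.trans Set.inter_subset_right, fun hr t ht => ?_⟩
  · exact smul_mem_pointwise_smul x (MulAut.conj g) _ hx
  haveI : Nontrivial (Sylow r G) := Finite.one_lt_card_iff_nontrivial.mp (by
    rw [cΩ]; exact Nat.lt_add_of_pos_left (by positivity))
  obtain ⟨i, o, ne⟩ := exists_pair_ne (Sylow r G)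
  have e1 := ti_irr ne (exists_smul_eq G i) fun c d f => by
    obtain ⟨g, rfl⟩ := exists_smul_eq G i c
    obtain ⟨x, x1, x2⟩ := ti_tr ne.symm (cΩ.trans (by rw [cQ i])) (fix i)
      (fun x hx => reg i x hx o ne.symm) (w := g⁻¹ • d) fun e => f (by rw [← e, smul_inv_smul])
    exact ⟨g * x, by rw [mul_smul, fix i x x1], by rw [mul_smul, x2, smul_inv_smul]⟩
  have e2 := D.uniq ⟨_, e1⟩ (dg_eq (by simp [cΩ])) t (D.inv_s hr ht).1
  rw [D.val_s, (D.inv_s hr ht).2, sub_eq_iff_eq_add] at e2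
  exact_mod_cast e2

end DU

end CfsgU3
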