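import Cfsg.Agent.H3.U3Def
import Cfsg.Agent.H8.M12OrdB

/-! S3645: values of the block characters at `r`-elements. -/

set_option autoImplicit false
set_option linter.unusedSectionVars false

namespace CfsgU3

open Finset Cfsg CfsgL CfsgH5 CfsgH6 CfsgFT CfsgSZ CfsgH8 CfsgB0 Subgroup

universe u

theorem Par.cases {q r d p : ℕ} (h : Par q r d p) : (q = 7 ∧ r = 7 ∧ d = 1 ∧ p = 43) ∨
    (q = 8 ∧ r = 2 ∧ d = 3 ∧ p = 19) ∨ (q = 9 ∧ r = 3 ∧ d = 1 ∧ p = 73) := by
  simpa [Par] using h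

theorem Par.basic {q r d p : ℕ} (h : Par q r d p) : r.Prime ∧ p.Prime ∧ r ≠ p ∧ (∃ k, q = r ^ k) ∧
    ¬ r ∣ p * ((q - 1) * (q + 1) ^ 2) ∧ r ∣ q ∧ 7 ≤ q ∧ d * p + q = q ^ 2 + 1 ∧ 0 < d := by
  rcases h.cases with ⟨rfl, rfl, rfl, rfl⟩ | ⟨rfl, rfl, rfl, rfl⟩ | ⟨rfl, rfl, rfl, rfl⟩
  · exact ⟨by norm_num, by norm_num, by norm_num, ⟨1, rfl⟩, by norm_num, by norm_num, by norm_num⟩
  · exact ⟨by norm_num, by norm_num, by norm_num, ⟨3, rfl⟩, by norm_num, by norm_num, by norm_num⟩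
  · exact ⟨by norm_num, by norm_num, by norm_num, ⟨2, rfl⟩, by norm_num, by norm_num, by norm_num⟩

theorem sq_dvd_gcd {c n p K W : ℕ} (hp : p.Prime) (h1 : c ∣ n * p) (h2 : ¬ p ∣ c) (h3 : c * c ∣ K)
    (e : Nat.gcd (n * n) K = W) : c * c ∣ W :=
  have := ((Nat.coprime_comm.mp ((Nat.Prime.coprime_iff_not_dvd hp).mpr h2)).dvd_of_dvd_mul_right h1)
  e ▸ Nat.dvd_gcd (mul_dvd_mul this this) h3

theorem arith_val {q r d p c m : ℕ} (h : Par q r d p) {A : ℤ} (h0 : (r : ℤ) ∣ A) (h1 : c ∣ ord q p)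
    (h2 : ¬ p ∣ c) (h3 : ((m * (c * c) : ℕ) : ℤ) = (ord q p : ℕ) - A * A * (q ^ 2 * p * (q + 1) ^ 2 : ℕ)
      + (A - 1) * (A - 1) * (q ^ 3 * p : ℕ))
    (h4 : (q ^ 2 : ℕ) * (A * (A - 1)) ≤ (d * c : ℕ)) : A = -q ∨ A = 0 ∧ c ∣ q ^ 2 := by
  have h5 : (0 : ℤ) ≤ ((m * (c * c) : ℕ) : ℤ) := Int.natCast_nonneg _
  have h6 : ∀ K : ℕ, ((m * (c * c) : ℕ) : ℤ) = K → c * c ∣ K := fun K e =>
    ⟨m, by rw [← Int.natCast_inj.mp e, mul_comm]⟩
  have hp := h.basic.2.1
  have key : ∀ {n K W : ℕ}, ord q p = n * p → ((m * (c * c) : ℕ) : ℤ) = K →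
      Nat.gcd (n * n) K = W → c * c ∣ W := fun e1 e2 e3 => sq_dvd_gcd hp (e1 ▸ h1) h2 (h6 _ e2) e3
  have fin : ∀ {W b : ℕ}, c * c ∣ W → 0 < W → W < b * b → c < b := fun e1 e2 e3 => by
    have := Nat.le_of_dvd e2 e1
    nlinarith
  obtain ⟨B, rfl⟩ := h0
  rw [h3] at h5
  rcases h.cases with ⟨rfl, rfl, rfl, rfl⟩ | ⟨rfl, rfl, rfl, rfl⟩ | ⟨rfl, rfl, rfl, rfl⟩
  · norm_num [ord] at h3 h5 h4 ⊢
    have b1 : -1 ≤ B := by nlinarith
    have b2 : B ≤ 0 := by nlinarith
    interval_cases B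
    · simp
    · refine .inr ⟨rfl, (Nat.pow_dvd_pow_iff two_ne_zero).mp ?_⟩
      rw [sq]
      exact key (n := 131712) (K := 5678365) (by norm_num [ord]) (by push_cast; linarith) (by norm_num)
  · norm_num [ord] at h3 h5 h4 ⊢
    have b1 : -4 ≤ B := by nlinarith
    have b2 : B ≤ 3 := by nlinarith
    have k := fun K W e1 e2 => key (n := 290304) (K := K) (W := W) (by norm_num [ord]) e1 e2
    interval_cases B
    · simp
    · have := fin (b := 17) (k 2446592 256 (by push_cast; linarith) (by norm_num)) (by norm_num)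
        (by norm_num)
      omega
    · have := fin (b := 85) (k 4183040 1024 (by push_cast; linarith) (by norm_num)) (by norm_num)
        (by norm_num)
      omega
    · have := fin (b := 127) (k 5209344 16128 (by push_cast; linarith) (by norm_num)) (by norm_num)
        (by norm_num)
      omega
    · refine .inr ⟨rfl, (Nat.pow_dvd_pow_iff two_ne_zero).mp ?_⟩
      rw [sq]
      exact k 5525504 _ (by push_cast; linarith) (by norm_num)
    · have := fin (b := 17) (k 5131520 256 (by push_cast; linarith) (by norm_num)) (by norm_num)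
        (by norm_num)
      omega
    · have := fin (b := 97) (k 4027392 9216 (by push_cast; linarith) (by norm_num)) (by norm_num)
        (by norm_num)
      omega
    · have := fin (b := 85) (k 2213120 1792 (by push_cast; linarith) (by norm_num)) (by norm_num)
        (by norm_num)
      omega
  · norm_num [ord] at h3 h5 h4 ⊢
    have b1 : -3 ≤ B := by nlinarith
    have b2 : B ≤ 2 := by nlinarith
    have k := fun K W e1 e2 => key (n := 583200) (K := K) (W := W) (by norm_num [ord]) e1 e2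
    interval_cases B
    · simp
    · have := fin (b := 28) (k 23894433 729 (by push_cast; linarith) (by norm_num)) (by norm_num)
        (by norm_num)
      omega
    · have := fin (b := 55) (k 38103372 2916 (by push_cast; linarith) (by norm_num)) (by norm_num)
        (by norm_num)
      omega
    · refine .inr ⟨rfl, (Nat.pow_dvd_pow_iff two_ne_zero).mp ?_⟩
      rw [sq]
      exact k 42626817 _ (by push_cast; linarith) (by norm_num)
    · have := fin (b := 217) (k 37464768 46656 (by push_cast; linarith) (by norm_num)) (by norm_num)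
        (by norm_num)
      omega
    · have := fin (b := 136) (k 22617225 18225 (by push_cast; linarith) (by norm_num)) (by norm_num)
        (by norm_num)
      omega

variable {G : Type u} [Group G] [Finite G] {q r d p : ℕ} {a s h : IrrCharacter G}

/-- non-trivial `r`-elements -/
def RE (r : ℕ) (g : G) : Prop := g ≠ 1 ∧ ∃ k, g ^ r ^ k = 1

theorem RE.conj {g g' : G} (e : RE r g) (c : IsConj g g') : RE r g' := by
  obtain ⟨x, rfl⟩ := isConj_iff.mp c
  obtain ⟨k, hk⟩ := e.2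
  exact ⟨by simpa using e.1, k, by rw [conj_pow, hk]; simp⟩

theorem RE.of_mem {R : Subgroup G} (hR : IsPGroup r R) {g : G} (hg : g ∈ R) (h1 : g ≠ 1) : RE r g := by
  obtain ⟨k, hk⟩ := hR ⟨g, hg⟩
  exact ⟨h1, k, congrArg Subtype.val hk⟩

theorem RE.isPGroup {g : G} (e : RE r g) : IsPGroup r (zpowers g) := by
  obtain ⟨k, hk⟩ := e.2
  rintro ⟨_, i, rfl⟩
  exact ⟨k, Subtype.ext (show (g ^ i) ^ r ^ k = 1 by
    rw [← zpow_natCast, ← zpow_mul, mul_comm i, zpow_mul, zpow_natCast, hk, one_zpow])⟩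

namespace DU

variable (D : DU G q r d p a s h)
include D

theorem re_dvd {g : G} (e : RE r g) : r ∣ orderOf g ∧ ¬ p ∣ orderOf g := by
  obtain ⟨b1, b2, b3, -⟩ := D.par.basic
  obtain ⟨k, hk⟩ := e.2
  have := orderOf_dvd_of_pow_eq_one hk
  obtain ⟨j, -, hj⟩ := (Nat.dvd_prime_pow b1).mp this
  refine ⟨hj ▸ dvd_pow_self r fun f => e.1 (orderOf_eq_one_iff.mp (by rw [hj, f, pow_zero])),
    fun f => b3 ((Nat.prime_dvd_prime_iff_eq b2 b1).mp (b2.dvd_of_dvd_pow (f.trans this))).symm⟩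

theorem val_a (g : G) : a.1 g = iv g a := by
  by_cases e : p ∣ orderOf g
  · rw [iv_eq (a := -1) (by simp [(D.xp g e).2.1]), (D.xp g e).2.1]; simp
  · exact D.int a (by simp) g e

theorem val_s (g : G) : s.1 g = iv g s := by
  by_cases e : p ∣ orderOf g
  · rw [iv_eq (a := -1) (by simp [(D.xp g e).2.2]), (D.xp g e).2.2]; simp
  · exact D.int s (by simp) g e

theorem re_val {g : G} (e : RE r g) : iv g s = 0 ∧ iv g h = iv g a - 1 ∧ (r : ℤ) ∣ iv g a := by
  obtain ⟨b1, -, -, -, b5, b6, -⟩ := D.par.basic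
  haveI := Fact.mk b1
  have e1 : iv g s = 0 := iv_vanish b1 (by rw [D.card, D.deg.2.1, ord, mul_assoc]) b5 (D.re_dvd e).1
  have e2 := D.rel g (D.re_dvd e).2
  obtain ⟨k, hk⟩ := e.2
  have e3 := int_congr (p := r) (χ := a) hk (Commute.one_right g) (by rw [mul_one, D.val_a])
    (b := dg a) (by rw [dg_cast]; simp)
  refine ⟨e1, by omega, (dvd_sub_left ?_).mp e3⟩
  rw [D.deg.1]
  exact Int.natCast_dvd_natCast.mpr (b6.mul_right _)

theorem nre_val {g : G} (h1 : g ≠ 1) (h2 : ¬ p ∣ orderOf g) (h3 : ¬ RE r g) :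
    iv g a + iv g s - 1 = 0 := by
  obtain ⟨b1, b2, -, ⟨k, hk⟩, -⟩ := D.par.basic
  have : iv g h = 0 := by
    by_contra e
    refine h3 ⟨h1, _, orderOf_dvd_iff_pow_eq_one.mp (Nat.eq_prime_pow_of_unique_prime_dvd
      (orderOf_pos g).ne' fun {t} ht f => ?_).dvd⟩
    by_contra f'
    refine e (iv_vanish ht (m := q ^ 3 * p) (by rw [D.card, D.deg.2.2, ord, mul_comm]) (fun f2 => ?_) f)
    rcases (Nat.Prime.dvd_mul ht).mp f2 with f2 | f2
    · exact f' ((Nat.prime_dvd_prime_iff_eq ht b1).mp (ht.dvd_of_dvd_pow (hk ▸ ht.dvd_of_dvd_pow f2)))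
    · exact h2 ((Nat.prime_dvd_prime_iff_eq ht b2).mp f2 ▸ f)
  have := D.rel g h2
  omega

open Classical in
theorem split [Fintype G] (F : ℤ → ℤ) (h0 : F 0 = 0) : ∑ g, F (iv g a + iv g s - 1) =
    F (dg h) + nord G p * F (-3) + ∑ g with RE r g, F (iv g a - 1) := by
  have hp := D.par.basic.2.1
  rw [← sum_ind (fun g : G => orderOf g = p) (F (-3)) (n := nord G p) rfl, sum_filter,
    show F (dg h) = ∑ g : G, if g = 1 then F (dg h) else 0 by simp, ← sum_add_distrib,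
    ← sum_add_distrib]
  refine sum_congr rfl fun g _ => ?_
  by_cases e1 : g = 1
  · have := D.rel 1 (by simp [hp.ne_one])
    simp only [iv_one] at this
    simp [e1, hp.ne_one.symm, RE, iv_one, ← this]
  by_cases e2 : p ∣ orderOf g
  · have := D.xp g e2
    rw [if_neg e1, if_pos this.1, if_neg fun f => (D.re_dvd f).2 e2,
      iv_eq (a := -1) (by simp [this.2.1]), iv_eq (a := -1) (by simp [this.2.2])]
    simp
  rw [if_neg e1, if_neg fun f => e2 f.symm.dvd]
  by_cases e3 : RE r g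
  · simp [e3, (D.re_val e3).1]
  · simp [e3, D.nre_val e1 e2 e3, h0]

open Classical in
theorem mom [Fintype G] : ∑ g with RE r g, (iv g a - 1) = -((q ^ 3 + 1) * ((q - 1) * (q + 1) ^ 2) : ℕ) ∧
    ∑ g with RE r g, iv g a * (iv g a - 1) = (q * (q + 1) * ((q ^ 3 + 1) * (q - 1)) : ℕ) := by
  have t : ∀ g, (triv G).1 g = iv g (triv G) := fun g => by simp [iv_triv]
  obtain ⟨d1, d2, d3⟩ := D.deg
  have n1 : a ≠ triv G ∧ s ≠ triv G ∧ a ≠ s := by
    refine ⟨fun e => ?_, fun e => ?_, fun e => ?_⟩ <;> have := congrArg dg e <;>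
    rcases D.par.cases with ⟨rfl, -⟩ | ⟨rfl, -⟩ | ⟨rfl, -⟩ <;> simp [dg_triv, d1, d2] at this
  have e1 := (sum_iv_mul D.val_a t).2 n1.1
  have e2 := (sum_iv_mul D.val_s t).2 n1.2.1
  have e3 := (sum_iv_mul D.val_a D.val_s).2 n1.2.2
  have e4 := (sum_iv_mul D.val_a D.val_a).1 rfl
  have e5 := (sum_iv_mul D.val_s D.val_s).1 rfl
  simp only [iv_triv, mul_one] at e1 e2
  have e6 := D.split id rfl
  have e7 := D.split (fun z => z * z) rfl
  have e8 : ∑ g, (iv g a + iv g s - 1) * (iv g a + iv g s - 1) = ∑ g, (iv g a * iv g a +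
      iv g s * iv g s + 2 * (iv g a * iv g s) - 2 * iv g a - 2 * iv g s + 1) :=
    sum_congr rfl fun _ _ => by ring
  have e9 : ∑ g with RE r g, iv g a * (iv g a - 1) = ∑ g with RE r g, (iv g a - 1) * (iv g a - 1) +
      ∑ g with RE r g, (iv g a - 1) := by
    rw [← sum_add_distrib]; exact sum_congr rfl fun _ _ => by ring
  simp only [id, sum_sub_distrib, sum_add_distrib, ← mul_sum, e1, e2, e3, e4, e5, sum_const,
    card_univ, ← Nat.card_eq_fintype_card, e8, D.card, d3] at e6 e7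
  have e10 := D.np
  rw [e9]
  simp only [sum_sub_distrib, sum_const]
  rcases D.par.cases with ⟨rfl, -, -, rfl⟩ | ⟨rfl, -, -, rfl⟩ | ⟨rfl, -, -, rfl⟩ <;>
    norm_num [ord] at e6 e7 e10 ⊢ <;> omega

theorem cls_le [Fintype G] {g : G} {T : Finset G} (F : G → ℤ) (h0 : ∀ x ∈ T, 0 ≤ F x)
    (h1 : ∀ x, IsConj g x → x ∈ T ∧ F x = F g) : (C1 g).index * F g ≤ ∑ x ∈ T, F x := by
  classical
  rw [← sum_ind (IsConj g) (F g) (card_isConj_eq g), ← sum_filter, ← sum_congr rfl fun x hx =>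
    (h1 x (mem_filter.mp hx).2).2]
  exact sum_le_sum_of_subset_of_nonneg (fun x hx => (h1 x (mem_filter.mp hx).2).1)
    fun x hx _ => h0 x hx

theorem dich {g : G} (e : RE r g) : iv g a = -q ∨ iv g a = 0 ∧ Nat.card (C1 g) ∣ q ^ 2 := by
  classical
  letI := Fintype.ofFinite G
  obtain ⟨e1, e2, e3⟩ := D.re_val e
  obtain ⟨m, hm⟩ := D.str g g (D.re_dvd e).2 (D.re_dvd e).2
  have e4 := D.cls_le (g := g) (T := univ.filter (RE r)) (fun x => iv x a * (iv x a - 1))
    (fun x _ => by rcases le_or_gt (iv x a) 0 with f | f <;> nlinarith) fun x hx =>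
      ⟨by simp [e.conj hx], by rw [iv_isConj a hx]⟩
  rw [D.mom.2] at e4
  have e5 := (C1 g).card_mul_index
  refine arith_val D.par e3 (D.card ▸ card_subgroup_dvd_card _) (D.cp g e.1 (D.re_dvd e).2)
    (m := m) (by rw [hm, sc, e1, e2]; ring) ?_
  have e6 : 0 < (C1 g).index := Nat.pos_of_ne_zero (C1 g).index_ne_zero_of_finite
  rw [D.card] at e5
  refine le_of_mul_le_mul_left ?_ (Int.natCast_pos.mpr e6)
  rw [show ((C1 g).index : ℤ) * (d * Nat.card (C1 g) : ℕ) = d * (ord q p : ℕ) by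
    rw [← e5]; push_cast; ring]
  rcases D.par.cases with ⟨rfl, -, rfl, rfl⟩ | ⟨rfl, -, rfl, rfl⟩ | ⟨rfl, -, rfl, rfl⟩ <;>
    norm_num [ord] at e4 ⊢ <;> linarith

end DU

end CfsgU3
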