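import Cfsg.Agent.H3.U3TIa
import Cfsg.Agent.SZ.ZS_fin

/-! S3645: the transvections and the Sylow `r`-subgroups. -/

set_option autoImplicit false
set_option linter.unusedSectionVars false

namespace CfsgU3

open Finset Cfsg CfsgL CfsgH5 CfsgH6 CfsgFT CfsgSZ CfsgH8 CfsgB0 Subgroup

universe u

variable {G : Type u} [Group G] [Finite G] {q r d p : ℕ} {a s h : IrrCharacter G}

theorem ti_cls (J : Subgroup G) (x : G) :
    Nat.card (C1 x ⊓ J : Subgroup G) * {y | ∃ g ∈ J, g * x * g⁻¹ = y}.ncard = Nat.card J := by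
  let act : MulAction G G :=
    { smul := fun g y => g * y * g⁻¹
      one_smul := fun y => by change 1 * y * 1⁻¹ = y; simp
      mul_smul := fun a b y => by change a * b * y * (a * b)⁻¹ = a * (b * y * b⁻¹) * a⁻¹; group }
  have h1 : C1 x = MulAction.stabilizer G x := by
    ext g
    exact mem_C1_iff_conj
  rw [h1, ← card_inf_mul_relIndex (MulAction.stabilizer G x) J]
  congr 1
  refine Eq.trans ?_ (MulAction.index_stabilizer J x).symm
  congr 1
  ext y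
  exact ⟨fun ⟨g, hg, e⟩ => ⟨⟨g, hg⟩, e⟩, fun ⟨g, e⟩ => ⟨g, g.2, e⟩⟩

/-- double counting -/
theorem ti_dc {α β : Type*} [Finite α] [Finite β] (A : Set α) (B : Set β) (R : α → β → Prop) :
    ∑ᶠ x ∈ A, {y ∈ B | R x y}.ncard = ∑ᶠ y ∈ B, {x ∈ A | R x y}.ncard := by
  classical
  obtain ⟨A, rfl⟩ := (Set.toFinite A).exists_finset_coe
  obtain ⟨B, rfl⟩ := (Set.toFinite B).exists_finset_coe
  rw [finsum_mem_coe_finset, finsum_mem_coe_finset]
  have := sum_card_bipartiteAbove_eq_sum_card_bipartiteBelow (s := A) (t := B) R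
  convert this using 2 with x _ y _
  · rw [← Set.ncard_coe_finset]; congr 1; ext; simp
  · rw [← Set.ncard_coe_finset]; congr 1; ext; simp

theorem ti_le {α : Type*} [Finite α] {A : Set α} {f : α → ℕ} {m : ℕ} (e : ∀ x ∈ A, m ≤ f x) :
    A.ncard * m ≤ ∑ᶠ x ∈ A, f x ∧ (∑ᶠ x ∈ A, f x = A.ncard * m → ∀ x ∈ A, f x = m) := by
  obtain ⟨A, rfl⟩ := (Set.toFinite A).exists_finset_coe
  rw [finsum_mem_coe_finset, Set.ncard_coe_finset, ← smul_eq_mul, ← sum_const]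
  exact ⟨sum_le_sum e, fun f x hx => ((sum_eq_sum_iff_of_le e).mp f.symm x hx).symm⟩

theorem ti_eq {α : Type*} [Finite α] {A : Set α} {f : α → ℕ} {m : ℕ} (e : ∀ x ∈ A, f x = m) :
    ∑ᶠ x ∈ A, f x = A.ncard * m := by
  obtain ⟨A, rfl⟩ := (Set.toFinite A).exists_finset_coe
  rw [finsum_mem_coe_finset, Set.ncard_coe_finset, sum_congr rfl e, sum_const, smul_eq_mul]

/-- the transvections -/
def ZZ (q r : ℕ) (a : IrrCharacter G) : Set G := {g | RE r g ∧ iv g a = -q}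

theorem ZZ_conj {g g' : G} (e : g ∈ ZZ q r a) (c : IsConj g g') : g' ∈ ZZ q r a :=
  ⟨e.1.conj c, (iv_isConj a c).trans e.2⟩

namespace DU

variable (D : DU G q r d p a s h)
include D

theorem val0 {g : G} (e : RE r g) (f : g ∉ ZZ q r a) : iv g a = 0 ∧ Nat.card (C1 g) ∣ q ^ 2 :=
  (D.dich e).resolve_left fun f' => f ⟨e, f'⟩

theorem cardZ : (ZZ q r a).ncard = (q ^ 3 + 1) * (q - 1) ∧
    {g : G | RE r g}.ncard = (q ^ 3 + 1) * (q ^ 3 - 1) := by
  classical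
  letI := Fintype.ofFinite G
  obtain ⟨e1, e2⟩ := D.mom
  have e3 : ∀ F : ℤ → ℤ, F 0 = 0 → ∑ g with RE r g, F (iv g a) = (ZZ q r a).ncard * F (-q) := by
    intro F h0
    rw [← sum_ind (· ∈ ZZ q r a) _ (Nat.card_coe_set_eq _), sum_filter]
    refine sum_congr rfl fun g _ => ?_
    by_cases f : g ∈ ZZ q r a
    · rw [if_pos f.1, if_pos f, f.2]
    · rw [if_neg f]
      split_ifs with f'
      · rw [(D.val0 f' f).1, h0]
      · rfl
  rw [e3 (fun z => z * (z - 1)) (by simp)] at e2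
  rw [sum_sub_distrib, e3 (fun z => z) rfl, sum_const, ← Set.ncard_coe_finset, coe_filter] at e1
  simp only [mem_univ, true_and] at e1
  rcases D.par.cases with ⟨rfl, -⟩ | ⟨rfl, -⟩ | ⟨rfl, -⟩ <;> norm_num at e1 e2 ⊢ <;> omega

theorem cZ {z : G} (e : z ∈ ZZ q r a) : Nat.card (C1 z) ∣ q ^ 3 * (q + 1) ∧
    (C1 z).index ≤ (q ^ 3 + 1) * (q - 1) := by
  obtain ⟨-, b2, -⟩ := D.par.basic
  constructor
  · have e1 := dvd_class h (D.int h (by simp) z (D.re_dvd e.1).2)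
    rw [(D.re_val e.1).2.1, e.2, D.deg.2.2, ← (C1 z).card_mul_index, Nat.mul_div_cancel_left _
      Nat.card_pos, show (-q - 1 : ℤ) = -(q + 1 : ℕ) by push_cast; ring, mul_neg, dvd_neg,
      ← Nat.cast_mul, Int.natCast_dvd_natCast] at e1
    have e2 := Nat.mul_dvd_mul_left (Nat.card (C1 z)) e1
    rw [← mul_assoc _ (C1 z).index, (C1 z).card_mul_index, D.card, ord, mul_right_comm _ _ (q + 1)] at e2
    refine ((Nat.Prime.coprime_iff_not_dvd b2).mpr
      (D.cp z e.1.1 (D.re_dvd e.1).2)).symm.dvd_of_dvd_mul_right ?_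
    rw [mul_right_comm]
    exact Nat.dvd_of_mul_dvd_mul_right (D.deg.2.2 ▸ dg_pos h) e2
  · rw [← D.cardZ.1, ← card_isConj_eq]
    exact Set.ncard_le_ncard (s := {g | IsConj z g}) fun g hg => ZZ_conj e hg

theorem res {R : Subgroup G} (hR : IsPGroup r R) :
    ∃ m : ℕ, q * (q - 1) = Nat.card R * m + q * (ZZ q r a ∩ R).ncard := by
  classical
  letI := Fintype.ofFinite R
  obtain ⟨m, hm⟩ := sum_sub_nat (irr_isChar a.2) R
  refine ⟨m, ?_⟩
  have e1 : ∑ x : R, iv x.1 a = (q * (q - 1) : ℕ) + (ZZ q r a ∩ R).ncard * (-q : ℤ) := by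
    rw [← sum_ind (fun x : R => x.1 ∈ ZZ q r a) (n := (ZZ q r a ∩ R).ncard) _ (by
      rw [← Nat.card_coe_set_eq]
      exact Nat.card_congr ⟨fun x => ⟨x.1.1, x.2, x.1.2⟩, fun x => ⟨⟨x.1, x.2.2⟩, x.2.1⟩,
        fun _ => rfl, fun _ => rfl⟩), show ((q * (q - 1) : ℕ) : ℤ) = ∑ x : R, if x = 1 then
        ((q * (q - 1) : ℕ) : ℤ) else 0 by simp, ← sum_add_distrib]
    refine sum_congr rfl fun x _ => ?_
    by_cases e : x = 1
    · simp [e, iv_one, D.deg.1, ZZ, RE]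
    by_cases f : x.1 ∈ ZZ q r a
    · simp [e, f, f.2]
    · simp [e, f, (D.val0 (RE.of_mem hR x.2 (by simpa using e)) f).1]
  simp only [D.val_a, ← Int.cast_sum, e1] at hm
  have : ((q * (q - 1) : ℕ) : ℤ) + (ZZ q r a ∩ R).ncard * (-q : ℤ) = Nat.card R * m := by
    exact_mod_cast hm
  zify at this ⊢
  linarith

theorem kle {R : Subgroup G} (hR : IsPGroup r R) : (ZZ q r a ∩ R).ncard ≤ q - 1 := by
  obtain ⟨m, hm⟩ := D.res hR
  have := D.par.basic.2.2.2.2.2.2.1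
  exact Nat.le_of_mul_le_mul_left (hm ▸ Nat.le_add_left _ _ : q * _ ≤ q * (q - 1)) (by omega)

theorem keq {R : Subgroup G} (hR : IsPGroup r R) (e : q * (q - 1) < Nat.card R) :
    (ZZ q r a ∩ R).ncard = q - 1 := by
  obtain ⟨m, hm⟩ := D.res hR
  have := D.par.basic.2.2.2.2.2.2.1
  obtain rfl : m = 0 := by
    by_contra f
    have := Nat.le_mul_of_pos_right (Nat.card R) (Nat.pos_of_ne_zero f)
    omega
  exact Nat.eq_of_mul_eq_mul_left (show 0 < q by omega) (by simpa using hm.symm)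

theorem eqZ {R P : Subgroup G} (hP : IsPGroup r P) (l : R ≤ P) (e : q * (q - 1) < Nat.card R) :
    ZZ q r a ∩ R = ZZ q r a ∩ P :=
  Set.eq_of_subset_of_ncard_le (Set.inter_subset_inter_right _ l) (by
    rw [D.keq (hP.to_le l) e]; exact D.kle hP)

theorem pg {P : Subgroup G} (e : Nat.card P = q ^ 3) : IsPGroup r P := by
  obtain ⟨-, -, -, ⟨k, rfl⟩, -⟩ := D.par.basic
  exact IsPGroup.of_card (e.trans (pow_mul r k 3).symm)

theorem exP {R C : Subgroup G} (l : R ≤ C) (hR : IsPGroup r R) (e : q ^ 3 ∣ Nat.card C) :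
    ∃ T, R ≤ T ∧ T ≤ C ∧ Nat.card T = q ^ 3 := by
  obtain ⟨b1, -, -, ⟨k, hk⟩, b5, -⟩ := D.par.basic
  haveI := Fact.mk b1
  obtain ⟨T, h1, h2⟩ := exists_sylIn_ge l hR
  refine ⟨T, h1, h2.le, Nat.dvd_antisymm ?_ ?_⟩
  · obtain ⟨j, hj⟩ := h2.isPGroup.exists_card_eq
    have := card_subgroup_dvd_card T
    rw [D.card, ord, mul_assoc, hj] at this
    exact hj ▸ (((Nat.Prime.coprime_iff_not_dvd b1).mpr b5).pow_left j).dvd_of_dvd_mul_right this
  · rw [← card_mul_relIndex h2.le] at e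
    rw [hk, ← pow_mul] at e ⊢
    exact (((Nat.Prime.coprime_iff_not_dvd b1).mpr h2.not_dvd_relIndex).pow_left _).dvd_of_dvd_mul_right e

theorem exP' {R : Subgroup G} (hR : IsPGroup r R) : ∃ T, R ≤ T ∧ Nat.card T = q ^ 3 := by
  obtain ⟨T, h1, -, h2⟩ := D.exP le_top hR (by
    rw [card_top, D.card, ord, mul_assoc]; exact dvd_mul_right _ _)
  exact ⟨T, h1, h2⟩

theorem kP {P : Subgroup G} (e : Nat.card P = q ^ 3) : (ZZ q r a ∩ P).ncard = q - 1 :=
  D.keq (D.pg e) (by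
    rw [e]
    rcases D.par.cases with ⟨rfl, -⟩ | ⟨rfl, -⟩ | ⟨rfl, -⟩ <;> norm_num)

/-- a transvection centralising a Sylow subgroup determines the transvections of its Sylow groups -/
theorem phi {z : G} (hz : z ∈ ZZ q r a) (hc : q ^ 3 ∣ Nat.card (C1 z)) {P P' : Subgroup G}
    (e : Nat.card P = q ^ 3) (e' : Nat.card P' = q ^ 3) (m : z ∈ P) (m' : z ∈ P') :
    ZZ q r a ∩ P = ZZ q r a ∩ P' := by
  have k : ∀ P : Subgroup G, Nat.card P = q ^ 3 → z ∈ P → ∃ T ≤ C1 z, Nat.card T = q ^ 3 ∧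
      ZZ q r a ∩ P = ZZ q r a ∩ T := fun P e m => by
    obtain ⟨T, h1, h2, h3⟩ := D.exP (inf_le_left (a := C1 z) (b := P))
      ((D.pg e).to_le inf_le_right) hc
    have h4 := ti_cls P z
    have h5 : {y | ∃ g ∈ P, g * z * g⁻¹ = y}.ncard ≤ q - 1 := by
      rw [← D.kP e]
      refine Set.ncard_le_ncard ?_
      rintro _ ⟨g, hg, rfl⟩
      exact ⟨ZZ_conj hz (isConj_iff.mpr ⟨g, rfl⟩), mul_mem (mul_mem hg m) (inv_mem hg)⟩
    have h6 : q * (q - 1) < Nat.card (C1 z ⊓ P : Subgroup G) := by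
      have := Nat.mul_le_mul_left (Nat.card (C1 z ⊓ P : Subgroup G)) h5
      rw [h4, e] at this
      rcases D.par.cases with ⟨rfl, -⟩ | ⟨rfl, -⟩ | ⟨rfl, -⟩ <;> omega
    exact ⟨T, h2, h3, (D.eqZ (D.pg e) inf_le_right h6).symm.trans (D.eqZ (D.pg h3) h1 h6)⟩
  obtain ⟨T, a1, a2, a3⟩ := k P e m
  obtain ⟨T', b1, b2, b3⟩ := k P' e' m'
  have c1 := card_inf_mul_relIndex T T'
  have c2 := relIndex_le_of_le_right b1 (relIndex_ne_zero' T (C1 z))
  have c3 := card_mul_relIndex a1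
  have c4 := Nat.le_of_dvd (by have := D.par.basic.2.2.2.2.2.2.1; positivity) (D.cZ hz).1
  have c5 : q * (q - 1) < Nat.card (T ⊓ T' : Subgroup G) := by
    rw [← c3, a2] at c4
    have := Nat.mul_le_mul_left (Nat.card (T ⊓ T' : Subgroup G))
      (c2.trans (Nat.le_of_mul_le_mul_left c4 (a2 ▸ Nat.card_pos)))
    rw [c1, b2] at this
    rcases D.par.cases with ⟨rfl, -⟩ | ⟨rfl, -⟩ | ⟨rfl, -⟩ <;> omega
  rw [a3, b3, ← D.eqZ (D.pg a2) inf_le_left c5, D.eqZ (D.pg b2) inf_le_right c5]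

theorem exZ {P : Subgroup G} (e : Nat.card P = q ^ 3) :
    ∃ z ∈ ZZ q r a, z ∈ P ∧ P ≤ C1 z ∧ z ^ r = 1 := by
  obtain ⟨b1, -, -, -, -, -, b7, -⟩ := D.par.basic
  haveI := Fact.mk b1
  haveI : Nontrivial P := Finite.one_lt_card_iff_nontrivial.mp (e ▸ Nat.one_lt_pow (by omega) (by omega))
  haveI := (D.pg e).center_nontrivial
  obtain ⟨k, h1, h2⟩ := ((D.pg e).to_subgroup (center P)).nontrivial_iff_card.mp inferInstance
  obtain ⟨z, hz⟩ := exists_prime_orderOf_dvd_card' (G := center P) r (h2 ▸ dvd_pow_self r h1.ne')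
  have z1 : z.1.1 ≠ 1 := fun f => by
    rw [show z = 1 from Subtype.ext (Subtype.ext f), orderOf_one] at hz
    exact b1.ne_one hz.symm
  have l : P ≤ C1 z.1.1 := fun g hg => mem_C1.mpr
    (congrArg Subtype.val (mem_center_iff.mp z.2 ⟨g, hg⟩))
  refine ⟨z.1.1, ?_, z.1.2, l, congrArg (·.1.1) (hz ▸ pow_orderOf_eq_one z : z ^ r = 1)⟩
  by_contra f
  have := Nat.le_of_dvd (by positivity) ((e ▸ card_dvd_of_le l).trans
    (D.val0 (RE.of_mem (D.pg e) z.1.2 z1) f).2)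
  exact absurd this (not_le.mpr (Nat.pow_lt_pow_right (by omega) (by omega)))

end DU

end CfsgU3
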