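import Cfsg.Agent.H3.U3TIb

/-! S3645: the Sylow `r`-subgroups are TI sets. -/

set_option autoImplicit false
set_option linter.unusedSectionVars false

namespace CfsgU3

open Finset Cfsg CfsgL CfsgH5 CfsgH6 CfsgFT CfsgSZ CfsgH8 CfsgB0 Subgroup

universe u

variable {G : Type u} [Group G] [Finite G] {q r d p : ℕ} {a s h : IrrCharacter G}

/-- lying in a common Sylow subgroup -/
def Cm (q : ℕ) (x y : G) : Prop := ∃ T : Subgroup G, Nat.card T = q ^ 3 ∧ x ∈ T ∧ y ∈ T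

namespace DU

variable (D : DU G q r d p a s h)
include D

theorem syl {P : Subgroup G} (e : Nat.card P = q ^ 3) : SylIn r P ⊤ :=
  ⟨le_top, D.pg e, fun T _ hT l => by
    obtain ⟨T', l', e'⟩ := D.exP' hT
    exact le_antisymm (l'.trans (eq_of_le_of_card_ge (l.trans l') (e'.trans e.symm).le).ge) l⟩

theorem exP1 {g : G} (e : RE r g) : ∃ T : Subgroup G, Nat.card T = q ^ 3 ∧ g ∈ T := by
  obtain ⟨T, h1, h2⟩ := D.exP' e.isPGroup
  exact ⟨T, h2, h1 (mem_zpowers g)⟩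

theorem zst [IsSimpleGroup G] (h8 : q = 8) {z : G} (hz : z ∈ ZZ q r a) (h2 : z ^ r = 1) :
    Nat.card (C1 z) ≠ 4608 := fun e => by
  obtain ⟨rfl, rfl, rfl⟩ : r = 2 ∧ d = 3 ∧ p = 19 := by have := D.par.cases; omega
  subst h8
  haveI : Fact (Nat.Prime 2) := ⟨Nat.prime_two⟩
  have n := D.card
  have key := zstar (H := ⊤) (mem_top z) hz.1.1 (by rwa [← sq]) fun g _ c => by
    by_contra ne
    have hz2 := ZZ_conj hz (isConj_iff.mpr ⟨g, rfl⟩)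
    obtain ⟨P, p1, p2, p3⟩ := D.exP (zpowers_le.mpr (mem_C1.mpr c.symm.eq)) hz2.1.isPGroup
      (by rw [e]; norm_num)
    have zP : z ∈ P := (D.syl p3).le_of_nrm' Nat.prime_two le_top hz.1.isPGroup
      (nrm_of_le_C (le_C_comm.mp (C_zpowers z ▸ p2))) (mem_zpowers z)
    have e1 := ti_dc {y | IsConj z y} (ZZ 8 2 a) (Cm 8)
    have e2 : ∑ᶠ x ∈ {y | IsConj z y}, {y ∈ ZZ 8 2 a | Cm 8 x y}.ncard = _ :=
      ti_eq (m := 8 - 1) fun x hx => by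
      obtain ⟨T, t1, t2⟩ := D.exP1 (hz.1.conj hx)
      rw [← D.kP t1]
      congr 1
      ext y
      refine ⟨fun ⟨y1, T', t3, t4, t5⟩ => ?_, fun f => ⟨f.1, T, t1, t2, f.2⟩⟩
      rw [D.phi (ZZ_conj hz hx) (by rw [card_C1_isConj hx, e]; norm_num) t1 t3 t2 t4]
      exact ⟨y1, t5⟩
    have e3 := (ti_le (A := ZZ 8 2 a) (f := fun y => {x ∈ {y | IsConj z y} | Cm 8 x y}.ncard)
      (m := ({y | IsConj z y} ∩ P).ncard) fun y hy => by
        obtain ⟨T, t1, t2⟩ := D.exP1 hy.1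
        obtain ⟨k, -, hk⟩ := (D.syl p3).conj (D.syl t1)
        refine Set.ncard_le_ncard_of_injOn (fun x => k * x * k⁻¹) (fun x hx =>
          ⟨hx.1.trans (isConj_iff.mpr ⟨k, rfl⟩), T, t1, hk ▸ conj_mem_cj.mpr hx.2, t2⟩)
          fun x _ y _ f => by simpa using f).1
    have e4 : {y | IsConj z y}.ncard = 1197 := card_class (p := IsConj z) (fun _ => Iff.rfl) e n
    rw [← e1, e2, D.cardZ.1, e4] at e3
    have e5 : ({z, g * z * g⁻¹} : Set G) = {y | IsConj z y} ∩ P := Set.eq_of_subset_of_ncard_le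
      (by
        rintro _ (rfl | rfl)
        exacts [⟨.refl _, zP⟩, ⟨isConj_iff.mpr ⟨g, rfl⟩, p1 (mem_zpowers _)⟩])
      (by rw [Set.ncard_pair (Ne.symm ne)]; omega)
    have e6 : ∀ k ∈ N P, ∀ y ∈ ({z, g * z * g⁻¹} : Set G), k * y * k⁻¹ ∈ ({z, g * z * g⁻¹} : Set G) :=
      fun k hk y hy => by
        rw [e5] at hy ⊢
        exact ⟨hy.1.trans (isConj_iff.mpr ⟨k, rfl⟩), (mem_normalizer_iff.mp hk y).mp hy.2⟩
    obtain ⟨k, k1, k2⟩ := (D.syl p3).fusion_C Nat.prime_two (x := z) (g := g)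
      (le_C_comm.mp (C_zpowers z ▸ p2) (mem_zpowers z)) (mem_top g) (mem_C.mpr fun y hy => by
        rcases e6 y (le_normalizer hy) _ (.inr rfl) with f | f
        · refine absurd ?_ ne
          have := mem_C1_iff_conj.mp (p2 hy)
          exact (MulAut.conj y).injective (f.trans this.symm)
        · exact mul_inv_eq_iff_eq_mul.mp f)
    have e7 := ti_cls (N P) z
    rw [show {y | ∃ g ∈ N P, g * z * g⁻¹ = y} = {z, g * z * g⁻¹} from Set.Subset.antisymm (by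
      rintro _ ⟨k, hk, rfl⟩; exact e6 k hk z (.inl rfl)) (by
      rintro _ (rfl | rfl)
      exacts [⟨1, one_mem _, by simp⟩, ⟨k, k1.2, k2.symm⟩]), Set.ncard_pair (Ne.symm ne)] at e7
    have e8 := (Nat.mul_dvd_mul_right (card_dvd_of_le (le_inf p2 le_normalizer : P ≤ C1 z ⊓ N P))
      2).trans (e7 ▸ card_subgroup_dvd_card (N P))
    rw [p3, n] at e8
    norm_num [ord] at e8
  rcases (normalIn_top.mp (normalIn_Opc 2 (⊤ : Subgroup G))).eq_bot_or_eq_top with f | f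
  · rw [f, bot_sup_eq, top_inf_eq] at key
    rw [key, card_top, n] at e
    norm_num [ord] at e
  · exact not_dvd_card_Opc Nat.prime_two (⊤ : Subgroup G) (by rw [f, card_top, n]; norm_num [ord])

variable [IsSimpleGroup G]

theorem oneZ {z : G} (hz : z ∈ ZZ q r a) : (∀ z', z' ∈ ZZ q r a ↔ IsConj z z') ∧
    d * Nat.card (C1 z) = q ^ 3 * (q + 1) := by
  obtain ⟨P, -, e⟩ := D.exP' IsPGroup.of_bot
  obtain ⟨y, y1, -, y3, y4⟩ := D.exZ e
  obtain ⟨m, hm⟩ := e ▸ card_dvd_of_le y3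
  obtain ⟨c1, c2⟩ := D.cZ y1
  have c3 := (C1 y).card_mul_index
  have c4 := fun f => D.zst f y1 y4
  rw [hm] at c1 c3 c4
  have c5 := Nat.dvd_of_mul_dvd_mul_left (e ▸ Nat.card_pos) c1
  have c6 := Nat.le_of_dvd (Nat.succ_pos _) c5
  rw [D.card] at c3
  have c7 : d * m = q + 1 ∧ (C1 y).index = (q ^ 3 + 1) * (q - 1) := by
    rcases D.par.cases with ⟨rfl, -, rfl, rfl⟩ | ⟨rfl, -, rfl, rfl⟩ | ⟨rfl, -, rfl, rfl⟩ <;>
      norm_num [ord] at c2 c3 c4 c5 c6 ⊢ <;> interval_cases m <;> omega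
  have c8 : {g | IsConj y g} = ZZ q r a := Set.eq_of_subset_of_ncard_le
    (fun g hg => ZZ_conj y1 hg) (by
      rw [D.cardZ.1, ← c7.2, ← card_isConj_eq]; rfl)
  have c9 : IsConj y z := c8.ge hz
  exact ⟨fun z' => ⟨fun f => c9.symm.trans (c8.ge f), ZZ_conj hz⟩, by
    rw [card_C1_isConj c9, hm, mul_left_comm, c7.1]⟩

theorem phi' {g : G} (h1 : g ≠ 1) {P P' : Subgroup G} (e : Nat.card P = q ^ 3)
    (e' : Nat.card P' = q ^ 3) (m : g ∈ P) (m' : g ∈ P') : ZZ q r a ∩ P = ZZ q r a ∩ P' := by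
  have k : ∀ z ∈ ZZ q r a, q ^ 3 ∣ Nat.card (C1 z) := fun z hz => by
    obtain ⟨y, y1, -, y3, -⟩ := D.exZ e
    rw [card_C1_isConj (((D.oneZ y1).1 z).mp hz)]
    exact e ▸ card_dvd_of_le y3
  by_cases f : g ∈ ZZ q r a
  · exact D.phi f (k g f) e e' m m'
  obtain ⟨b1, -, -, ⟨j, hj⟩, -⟩ := D.par.basic
  obtain ⟨i, -, hi⟩ := (Nat.dvd_prime_pow b1).mp
    ((D.val0 (RE.of_mem (D.pg e) m h1) f).2.trans (by rw [hj, ← pow_mul]))
  obtain ⟨T, t1, t2⟩ := D.exP' (IsPGroup.of_card hi)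
  obtain ⟨y, y1, y2, y3, -⟩ := D.exZ e
  obtain ⟨z, z1, z2, z3, -⟩ := D.exZ e'
  rw [D.phi y1 (k y y1) e t2 y2 (t1 (mem_C1.mpr (mem_C1.mp (y3 m)).symm)),
    D.phi z1 (k z z1) e' t2 z2 (t1 (mem_C1.mpr (mem_C1.mp (z3 m')).symm))]

theorem tiP {g : G} (h1 : g ≠ 1) {P P' : Subgroup G} (e : Nat.card P = q ^ 3)
    (e' : Nat.card P' = q ^ 3) (m : g ∈ P) (m' : g ∈ P') : P = P' := by
  have e1 := ti_dc {y | RE r y} (ZZ q r a) (Cm q)
  have e2 : ∑ᶠ x ∈ {y | RE r y}, {y ∈ ZZ q r a | Cm q x y}.ncard = _ :=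
    ti_eq (m := q - 1) fun x hx => by
    obtain ⟨T, t1, t2⟩ := D.exP1 hx
    rw [← D.kP t1]
    congr 1
    ext y
    refine ⟨fun ⟨y1, T', t3, t4, t5⟩ => ?_, fun f => ⟨f.1, T, t1, t2, f.2⟩⟩
    rw [D.phi' hx.1 t1 t3 t2 t4]
    exact ⟨y1, t5⟩
  have k : ∀ (y : G) (T : Subgroup G), Nat.card T = q ^ 3 → y ∈ T → (T \ {1} : Set G).ncard = q ^ 3 - 1 ∧
      (T \ {1} : Set G) ⊆ {x ∈ {y | RE r y} | Cm q x y} := fun y T t1 t2 =>
    ⟨by rw [Set.ncard_diff_singleton_of_mem T.one_mem, ← t1]; rfl,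
      fun x hx => ⟨RE.of_mem (D.pg t1) hx.1 hx.2, T, t1, hx.1, t2⟩⟩
  have e3 := (ti_le (A := ZZ q r a) (f := fun y => {x ∈ {y | RE r y} | Cm q x y}.ncard)
    (m := q ^ 3 - 1) fun y hy => by
      obtain ⟨T, t1, t2⟩ := D.exP1 hy.1
      rw [← (k y T t1 t2).1]
      exact Set.ncard_le_ncard (k y T t1 t2).2).2 (by rw [← e1, e2, D.cardZ.1, D.cardZ.2]; ring)
  obtain ⟨z, z1, z2, -⟩ := D.exZ e
  have z3 : z ∈ P' := ((D.phi' h1 e e' m m').le ⟨z1, z2⟩).2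
  have k2 : ∀ T : Subgroup G, Nat.card T = q ^ 3 → z ∈ T → (T \ {1} : Set G) = _ := fun T t1 t2 =>
    Set.eq_of_subset_of_ncard_le (k z T t1 t2).2 ((e3 z z1).trans (k z T t1 t2).1.symm).le
  ext x
  by_cases f : x = 1
  · simp [f]
  · simpa [f] using Set.ext_iff.mp ((k2 P e z2).trans (k2 P' e' z3).symm) x

end DU

end CfsgU3
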