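import Cfsg.Agent.H3.U3Def

/-! S3645: the unital of a group with unitary coordinates. -/

set_option autoImplicit false
set_option linter.unusedSectionVars false

namespace CfsgU3

open Subgroup

universe u

/-- field facts -/
structure FF {E : Type} [Field E] (σ : E →+* E) (q : ℕ) : Prop where
  ss : ∀ u, σ (σ u) = u
  nrm : ∀ b, σ b = b → ∃ u, u * σ u = b
  cf : Nat.card {u : E // σ u = u} % 2 = 1
  c0 : Nat.card {u : E // u + σ u = 0} = q
  cU : Nat.card {u : E // u * σ u = 1} = q + 1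
  two : (2 : E) ≠ 0
  ex : ∃ u : E, u ≠ 0 ∧ u + σ u = 0

section field

variable {E : Type} [Field E] [Fintype E] {σ : E →+* E} {q : ℕ}

theorem FF.tau (F : FF σ q) {τ : E → E} (hm : ∀ u v, τ (u * v) = τ u * τ v)
    (h1 : ∀ u, u * σ u = 1 → τ u = 1) (h2 : ∀ z, z + σ z = 0 → τ (1 + z) = 1) {u : E} (hu : u ≠ 0) :
    τ u = 1 := by
  classical
  obtain ⟨δ, d0, hδ⟩ := F.ex
  have d1 : σ δ = -δ := by linear_combination hδ
  let R := σ.eqLocusField (RingHom.id E)
  letI : Fintype R := Fintype.ofFinite R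
  let D : R := ⟨δ * δ, by change σ _ = δ * δ; rw [map_mul, d1]; ring⟩
  let c : R := ⟨u * σ u, by change σ _ = u * σ u; rw [map_mul, F.ss, mul_comm]⟩
  have D0 : D ≠ 0 := fun e => mul_ne_zero d0 d0 (congrArg Subtype.val e)
  have c0 : c ≠ 0 := fun e => mul_ne_zero hu ((map_ne_zero σ).mpr hu) (congrArg Subtype.val e)
  obtain ⟨a, b, e⟩ := FiniteField.exists_root_sum_quadratic
    (Polynomial.degree_quadratic (b := 0) (c := -1) D0)
    (Polynomial.degree_quadratic (b := 0) (c := c) (neg_ne_zero.mpr (mul_ne_zero c0 D0)))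
    (by rw [← Nat.card_eq_fintype_card]; exact F.cf)
  have e' : δ * δ * a.1 ^ 2 - 1 - u * σ u * (δ * δ) * b.1 ^ 2 + u * σ u = 0 := by
    have := congrArg Subtype.val e
    simp [D, c] at this
    linear_combination this
  have ha : σ a.1 = a.1 := a.2
  have hb : σ b.1 = b.1 := b.2
  have t : ∀ s : E, σ s = s → s * δ + σ (s * δ) = 0 := fun s hs => by rw [map_mul, hs, d1]; ring
  have n : 1 + a.1 * δ ≠ 0 := fun f => F.two (by
    have := congrArg σ f
    rw [map_add, map_one, map_mul, ha, d1, map_zero] at this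
    linear_combination f + this)
  have n' : 1 - a.1 * δ ≠ 0 := fun f => n (by
    have := congrArg σ f
    rw [map_sub, map_one, map_mul, ha, d1, map_zero] at this
    linear_combination this)
  have e1 := h1 (u * (1 + b.1 * δ) / (1 + a.1 * δ)) (by
    simp only [map_div₀, map_mul, map_add, map_one, ha, hb, d1, mul_neg, ← sub_eq_add_neg]
    rw [div_mul_div_comm, div_eq_one_iff_eq (mul_ne_zero n n')]
    linear_combination e')
  have e2 := hm (u * (1 + b.1 * δ) / (1 + a.1 * δ)) (1 + a.1 * δ)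
  rwa [div_mul_cancel₀ _ n, hm, e1, h2 _ (t _ ha), h2 _ (t _ hb), mul_one, mul_one] at e2

/-- the algebra behind the Weyl element -/
theorem FF.alg (F : FF σ q) {m : ℤ} {κ : E} (k0 : κ ≠ 0) (h1 : ∀ u, u * σ u = 1 → u ^ m = u)
    (h2 : ∀ x y : E, x ≠ 0 → y + σ y = x * σ x → κ * σ x ^ m * σ (y / (κ * x)) ^ m +
      σ (κ * σ x ^ m * σ (y / (κ * x)) ^ m) = σ (y / (κ * x)) ^ m * σ (σ (y / (κ * x)) ^ m)) :
    σ κ = κ ∧ ∀ u, u ≠ 0 → σ u ^ m = u⁻¹ := by
  let τ : E → E := fun u => σ u ^ m * u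
  have s0 : ∀ u : E, u ≠ 0 → σ u ≠ 0 := fun u => (map_ne_zero σ).mpr
  have t0 : ∀ u : E, u ≠ 0 → τ u ≠ 0 := fun u hu => mul_ne_zero (zpow_ne_zero _ (s0 u hu)) hu
  have t1 : ∀ u : E, u ≠ 0 → σ (τ u) = τ u := fun u hu => by
    have := h1 (σ u / u) (by rw [map_div₀, F.ss]; field_simp [s0 u hu])
    rw [div_zpow, div_eq_div_iff (zpow_ne_zero _ hu) hu] at this
    simp only [τ, this, map_mul, map_zpow₀, F.ss]
    exact mul_comm _ _ |>.trans (by rw [← this, mul_comm])
  have t2 : ∀ u : E, u ≠ 0 → σ u ^ m = τ u / u := fun u hu => by simp [τ, hu]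
  have tm : ∀ u v, τ (u * v) = τ u * τ v := fun u v => by simp only [τ, map_mul, mul_zpow]; ring
  have key : ∀ y : E, y + σ y = 1 → κ ^ 2 * σ y + σ κ ^ 2 * y = τ (y / κ) * (κ * σ κ) := by
    intro y hy
    have y0 : y ≠ 0 := fun e => by simp [e] at hy
    have u0 := div_ne_zero y0 k0
    have := h2 1 y one_ne_zero (by simpa using hy)
    rw [map_one, one_zpow, mul_one, t2 _ u0] at this
    simp only [map_mul, map_div₀, t1 _ u0] at this
    have a1 := t0 _ u0
    have a2 := s0 _ y0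
    have a3 := s0 _ k0
    generalize τ (y / κ) = t at this a1
    field_simp at this
    linear_combination this
  have k2 : σ κ ^ 2 = κ ^ 2 := by
    by_contra e
    have d0 : κ ^ 2 - σ κ ^ 2 ≠ 0 := fun f => e (by linear_combination -f)
    have d1 : σ κ ^ 2 - κ ^ 2 ≠ 0 := fun f => e (by linear_combination f)
    have := key (κ ^ 2 / (κ ^ 2 - σ κ ^ 2)) (by
      simp only [map_div₀, map_sub, map_pow, F.ss]; field_simp; ring)
    refine mul_ne_zero (t0 _ (div_ne_zero (div_ne_zero (pow_ne_zero 2 k0) d0) k0))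
      (mul_ne_zero k0 (s0 _ k0)) (this.symm.trans ?_)
    simp only [map_div₀, map_sub, map_pow, F.ss]; field_simp; ring
  have k3 : ∀ y : E, y + σ y = 1 → τ (y / κ) * σ κ = κ := fun y hy => by
    have := key y hy
    rw [k2, ← mul_add, add_comm, hy] at this
    exact mul_left_cancel₀ k0 (by linear_combination -this)
  have s2 : σ 2 = 2 := map_ofNat σ 2
  have two := F.two
  have h0 : (1 / 2 : E) + σ (1 / 2) = 1 := by rw [map_div₀, s2, map_one]; field_simp; norm_num
  have all : ∀ u, u ≠ 0 → τ u = 1 := fun u => F.tau tm (fun u hu => by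
      have : σ u * σ (σ u) = 1 := by rw [F.ss, mul_comm, hu]
      simp only [τ, h1 _ this]; rw [mul_comm, hu]) fun z hz => by
    have a1 := k3 ((1 + z) * (1 / 2)) (by
      rw [map_mul, map_add, map_one, map_div₀, s2, map_one]; field_simp; linear_combination hz)
    rw [mul_div_assoc, tm, mul_assoc, k3 _ h0] at a1
    exact mul_right_cancel₀ k0 (a1.trans (one_mul κ).symm)
  have := k3 _ h0
  rw [all _ (div_ne_zero (one_div_ne_zero two) k0), one_mul] at this
  exact ⟨this, fun u hu => by rw [t2 u hu, all u hu, one_div]⟩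

end field

variable {G Ω : Type u} [Group G] [MulAction G Ω] {E : Type} [Field E] {σ : E →+* E} {i o : Ω}
  {Q : Subgroup G} {x y : G → E} {η : Eˣ →* G}

namespace U3D

variable (h : U3D G Ω σ i o Q x y η)

open Classical in
/-- the element of `Q` mapping `o` to `w` -/
noncomputable def el (w : Ω) : G := if e : w = i then 1 else (h.tr w e).choose

/-- first coordinate -/
noncomputable def X (w : Ω) : E := x (h.el w)

/-- second coordinate -/
noncomputable def Y (w : Ω) : E := y (h.el w)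

theorem el_spec {w : Ω} (e : w ≠ i) : h.el w ∈ Q ∧ h.el w • o = w := by
  rw [el, dif_neg e]; exact (h.tr w e).choose_spec

include h in
theorem Q_ne {a : G} (ha : a ∈ Q) {w : Ω} (e : w ≠ i) : a • w ≠ i := fun f =>
  e ((smul_left_cancel_iff a).mp (f.trans (h.fix a ha).symm))

theorem el_smul {a : G} (ha : a ∈ Q) : h.el (a • o) = a := by
  obtain ⟨h1, h2⟩ := h.el_spec (h.Q_ne ha h.ne)
  exact (inv_mul_eq_one.mp (h.reg _ (mul_mem (inv_mem ha) h1) (by
    rw [mul_smul, h2, inv_smul_smul]))).symm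

theorem XY_Q {a : G} (ha : a ∈ Q) {w : Ω} (e : w ≠ i) : h.X (a • w) = x a + h.X w ∧
    h.Y (a • w) = y a + h.Y w + σ (x a) * h.X w := by
  obtain ⟨h1, h2⟩ := h.el_spec e
  have : h.el (a • w) = a * h.el w := by rw [← h.el_smul (mul_mem ha h1), mul_smul, h2]
  simp only [X, Y, this, h.x_mul a ha _ h1, h.y_mul a ha _ h1, and_self]

include h in
theorem η_fix (μ : Eˣ) : η μ • i = i ∧ η μ • o = o := (h.memH _).mp ⟨μ, rfl⟩

include h in
theorem η_ne (μ : Eˣ) {w : Ω} (e : w ≠ i) : η μ • w ≠ i := fun f =>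
  e ((smul_left_cancel_iff (η μ)).mp (f.trans (h.η_fix μ).1.symm))

theorem XY_η (μ : Eˣ) {w : Ω} (e : w ≠ i) : h.X (η μ • w) = μ * h.X w ∧
    h.Y (η μ • w) = μ * σ μ * h.Y w := by
  obtain ⟨h1, h2⟩ := h.el_spec e
  have : h.el (η μ • w) = η μ * h.el w * (η μ)⁻¹ := by
    rw [← h.el_smul (h.nrm _ (h.η_fix μ).1 _ h1), mul_smul, mul_smul, inv_smul_eq_iff.mpr
      (h.η_fix μ).2.symm, h2]
  simp only [X, Y, this, h.x_η μ _ h1, h.y_η μ _ h1, and_self]

theorem pext {v w : Ω} (e : v ≠ i) (e' : w ≠ i) (h1 : h.X v = h.X w) (h2 : h.Y v = h.Y w) : v = w := by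
  rw [← (h.el_spec e).2, ← (h.el_spec e').2, h.ext _ (h.el_spec e).1 _ (h.el_spec e').1 h1 h2]

theorem pher {w : Ω} (e : w ≠ i) : h.Y w + σ (h.Y w) = h.X w * σ (h.X w) := h.her _ (h.el_spec e).1

theorem psur {u v : E} (e : v + σ v = u * σ u) : ∃ w, w ≠ i ∧ h.X w = u ∧ h.Y w = v := by
  obtain ⟨a, h1, h2, h3⟩ := h.sur u v e
  exact ⟨a • o, h.Q_ne h1 h.ne, by rw [X, h.el_smul h1, h2], by rw [Y, h.el_smul h1, h3]⟩

theorem XY_o : h.X o = 0 ∧ h.Y o = 0 := by
  have e : h.el o = 1 := by simpa using h.el_smul Q.one_mem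
  have a : x 1 = 0 := by simpa using h.x_mul 1 Q.one_mem 1 Q.one_mem
  exact ⟨by rw [X, e, a], by simpa [Y, e, a] using h.y_mul 1 Q.one_mem 1 Q.one_mem⟩

theorem Y_ne {w : Ω} (e : w ≠ i) (e' : w ≠ o) : h.Y w ≠ 0 := fun f => by
  have := h.pher e
  rw [f, map_zero, add_zero, eq_comm, mul_eq_zero, map_eq_zero, or_self] at this
  exact e' (h.pext e h.ne (this.trans h.XY_o.1.symm) (f.trans h.XY_o.2.symm))

include h in
theorem two {v w : Ω} (e : v ≠ w) : ∃ g : G, g • i = v ∧ g • o = w := by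
  obtain ⟨g, hg⟩ : ∃ g : G, g • i = v := by
    by_cases f : v = i
    · exact ⟨1, by rw [f, one_smul]⟩
    obtain ⟨g, hg⟩ := h.trans
    obtain ⟨a, -, ha⟩ := h.tr v f
    exact ⟨a * g, by rw [mul_smul, hg, ha]⟩
  obtain ⟨a, h1, h2⟩ := h.tr (g⁻¹ • w) fun f => e (by rw [← hg, ← f, smul_inv_smul])
  exact ⟨g * a, by rw [mul_smul, h.fix a h1, hg], by rw [mul_smul, h2, smul_inv_smul]⟩

variable {q : ℕ} (F : FF σ q)
include F

theorem ex1 : ∃ w, w ≠ i ∧ h.X w = 1 := by
  obtain ⟨w, h1, h2, -⟩ := h.psur (u := 1) (v := 1 / 2) (by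
    have := F.two
    rw [map_div₀, map_ofNat, map_one]; field_simp; norm_num)
  exact ⟨w, h1, h2⟩

include h in
theorem η_inj : Function.Injective η := (injective_iff_map_eq_one η).mpr fun μ e => by
  obtain ⟨w, h1, h2⟩ := h.ex1 F
  have := (h.XY_η μ h1).1
  rw [e, one_smul, h2, mul_one] at this
  exact Units.ext this.symm

theorem j_fix {w : Ω} (e : w ≠ i) : η (-1) • w = w ↔ h.X w = 0 := by
  obtain ⟨h1, h2⟩ := h.XY_η (-1) e
  refine ⟨fun f => ?_, fun f => h.pext (h.η_ne _ e) e (by simp [h1, f]) (by simp [h2])⟩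
  rw [f] at h1
  exact (mul_eq_zero.mp (show 2 * h.X w = 0 by simp at h1; linear_combination h1)).resolve_left F.two

include h in
theorem j_ord : orderOf (η (-1)) = 2 := by
  haveI : Fact (Nat.Prime 2) := ⟨Nat.prime_two⟩
  refine orderOf_eq_prime (by rw [← map_pow]; simp) fun e => F.two ?_
  have := congrArg Units.val (h.η_inj F (e.trans (map_one η).symm))
  simp only [Units.val_neg, Units.val_one] at this
  linear_combination -this

include h in
theorem inv_eq {s t : G} (hs : orderOf s = 2) (ht : orderOf t = 2) {v w : Ω} (e : v ≠ w)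
    (s1 : s • v = v) (s2 : s • w = w) (t1 : t • v = v) (t2 : t • w = w) : s = t := by
  obtain ⟨g, rfl, rfl⟩ := h.two e
  have k : ∀ s : G, orderOf s = 2 → s • g • i = g • i → s • g • o = g • o →
      g⁻¹ * s * g = η (-1) := fun s hs s1 s2 => by
    obtain ⟨μ, hμ⟩ := (h.memH (g⁻¹ * s * g)).mpr ⟨by simp [mul_smul, s1], by simp [mul_smul, s2]⟩
    have o2 : orderOf (η μ) = 2 := by
      rw [hμ, ← hs]; simpa using (MulAut.conj g⁻¹).orderOf_eq s
    have m2 : μ ^ 2 = 1 := h.η_inj F (by rw [map_pow, ← o2, pow_orderOf_eq_one, map_one])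
    rcases (sq_eq_one_iff (a := (μ : E))).mp (congrArg Units.val m2 : (μ : E) ^ 2 = 1) with f | f
    · rw [Units.ext (v := 1) f] at o2; simp at o2
    · rw [← hμ, Units.ext (v := -1) f]
  simpa using (k s hs s1 s2).trans (k t ht t1 t2).symm

end U3D

end CfsgU3
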