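import Cfsg.Agent.H3.U3Wa

/-! S3645: the Weyl element of a group with unitary coordinates. -/

set_option autoImplicit false
set_option linter.unusedSectionVars false

namespace CfsgU3

open Subgroup

universe u

variable {G Ω : Type u} [Group G] [MulAction G Ω] {E : Type} [Field E] [Fintype E] {σ : E →+* E}
  {i o : Ω} {Q : Subgroup G} {x y : G → E} {η : Eˣ →* G} {q : ℕ}

theorem ord_cj (g t : G) : orderOf (g * t * g⁻¹) = orderOf t := (MulAut.conj g).orderOf_eq t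

namespace U3D

variable (h : U3D G Ω σ i o Q x y η) (F : FF σ q)
include h F

theorem ex_w : ∃ (w : G) (m : ℤ), orderOf w = 2 ∧ w • i = o ∧ w • o = i ∧
    ∀ μ, w * η μ * w⁻¹ = η (μ ^ m) := by
  obtain ⟨v, h1, h2⟩ := h.ex1 F
  obtain ⟨g, g1, g2⟩ := h.two (v := v) (w := η (-1) • v) fun e =>
    one_ne_zero (h2.symm.trans ((h.j_fix F h1).mp e.symm))
  have jj : η (-1) * η (-1) = 1 := by rw [← map_mul]; simp
  have a1 : (g⁻¹ * η (-1) * g) • i = o := by rw [mul_smul, mul_smul, g1, ← g2, inv_smul_smul]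
  have a2 : (g⁻¹ * η (-1) * g) • o = i := by
    rw [mul_smul, mul_smul, g2, smul_smul (η (-1)), jj, one_smul, ← g1, inv_smul_smul]
  have a0 : orderOf (g⁻¹ * η (-1) * g) = 2 := by simpa [h.j_ord F] using ord_cj g⁻¹ (η (-1))
  generalize g⁻¹ * η (-1) * g = w at a0 a1 a2
  have : ∀ μ, ∃ ν, η ν = w * η μ * w⁻¹ := fun μ => (h.memH _).mpr ⟨by
    rw [mul_smul, mul_smul, inv_smul_eq_iff.mpr a2.symm, (h.η_fix μ).2, a2], by
    rw [mul_smul, mul_smul, inv_smul_eq_iff.mpr a1.symm, (h.η_fix μ).1, a1]⟩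
  choose θ hθ using this
  obtain ⟨m, hm⟩ := (MonoidHom.mk' θ fun μ ν => h.η_inj F (by simp [hθ])).map_cyclic
  exact ⟨w, m, a0, a1, a2, fun μ => by rw [← hθ, ← hm]; rfl⟩

variable {w : G} {m : ℤ} (w2 : orderOf w = 2) (wi : w • i = o) (wo : w • o = i)
  (wη : ∀ μ, w * η μ * w⁻¹ = η (μ ^ m))
include w2 wi wo wη

omit h F wi wo wη in
theorem ww (v : Ω) : w • w • v = v := by
  rw [smul_smul, ← sq, ← w2, pow_orderOf_eq_one, one_smul]

omit wi wo in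
theorem mm (μ : Eˣ) : (μ ^ m) ^ m = μ := h.η_inj F (by
  have : w * w = 1 := by rw [← sq, ← w2, pow_orderOf_eq_one]
  rw [← wη, ← wη, show w * (w * η μ * w⁻¹) * w⁻¹ = (w * w) * η μ * (w * w)⁻¹ by group, this]
  simp)

omit h F w2 wi wo in
theorem w_η (μ : Eˣ) (v : Ω) : w • η μ • v = η (μ ^ m) • w • v := by
  rw [← wη, mul_smul, mul_smul, inv_smul_smul]

omit wη in
theorem wj : w * η (-1) * w⁻¹ = η (-1) :=
  h.inv_eq F ((ord_cj _ _).trans (h.j_ord F)) (h.j_ord F) h.ne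
    (by rw [mul_smul, mul_smul, inv_smul_eq_iff.mpr wi.symm, (h.η_fix _).1, wi])
    (by rw [mul_smul, mul_smul, inv_smul_eq_iff.mpr wo.symm, (h.η_fix _).2, wo])
    (h.η_fix _).2 (h.η_fix _).1

omit F wη wo in
theorem w_ne {v : Ω} (e : v ≠ o) : w • v ≠ i := fun f => e (by rw [← ww w2 v, f, wi])

omit wη in
theorem w_X {v : Ω} (e : v ≠ i) (e' : v ≠ o) : h.X (w • v) = 0 ↔ h.X v = 0 := by
  rw [← h.j_fix F e, ← h.j_fix F (h.w_ne w2 wi e')]
  nth_rewrite 1 [← h.wj F w2 wi wo]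
  rw [mul_smul, mul_smul, inv_smul_smul, smul_left_cancel_iff]

omit F w2 wi wo wη in
theorem Z_comm {a : G} (ha : a ∈ Q) (e : x a = 0) {μ : Eˣ} (hμ : μ * σ μ = 1) :
    Commute a (η μ) :=
  (mul_inv_eq_iff_eq_mul.mp (h.ext _ (h.nrm _ (h.η_fix μ).1 a ha) _ ha (by rw [h.x_η μ a ha, e, mul_zero])
    (by rw [h.y_η μ a ha, hμ, one_mul]))).symm

theorem cent {μ : Eˣ} (hμ : μ * σ μ = 1) : μ ^ m = μ := by
  obtain ⟨ζ, z0, hζ⟩ := F.ex
  obtain ⟨z, z1, z2, z3⟩ := h.sur 0 ζ (by simpa using hζ)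
  have n1 : ∀ ν : Eˣ, ν * σ ν = 1 → Commute (w * z * w⁻¹) (η ν) := fun ν hν => by
    rw [← h.mm F w2 wη ν, ← wη]
    exact (h.Z_comm z1 z2 (μ := ν ^ m) (by
      rw [Units.val_zpow_eq_zpow_val, map_zpow₀, ← mul_zpow, hν, one_zpow])).map (MulAut.conj w)
  have j1 : ((-1 : Eˣ) : E) * σ (-1 : Eˣ) = 1 := by simp
  have d1 : (w * z * w⁻¹) • i ≠ i := by
    rw [mul_smul, mul_smul, inv_smul_eq_iff.mpr wo.symm]
    refine h.w_ne w2 wi fun e => z0 ?_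
    have := (h.XY_Q z1 h.ne).2
    rw [e, h.XY_o.1, h.XY_o.2, z3] at this
    simpa using this.symm
  have fx : ∀ g : G, Commute g (η (-1)) → ∀ v, η (-1) • v = v → g • v ≠ i → x (h.el (g • v)) = 0 :=
    fun g c v e f => (h.j_fix F f).mp (by rw [smul_smul, ← c.eq, mul_smul, e])
  obtain ⟨a1, a2⟩ := h.el_spec d1
  have a3 := fx _ (n1 _ j1) i (h.η_fix _).1 d1
  generalize h.el ((w * z * w⁻¹) • i) = z' at a1 a2 a3
  have n2 : ∀ ν : Eˣ, ν * σ ν = 1 → Commute (z'⁻¹ * (w * z * w⁻¹)) (η ν) := fun ν hν =>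
    (h.Z_comm a1 a3 hν).inv_left.mul_left (n1 ν hν)
  have n3 : (z'⁻¹ * (w * z * w⁻¹)) • i = o := by rw [mul_smul, ← a2, inv_smul_smul]
  generalize z'⁻¹ * (w * z * w⁻¹) = n at n2 n3
  have b1 : (w * n) • i = i := by rw [mul_smul, n3, wo]
  have b2 : (w * n) • o ≠ i := fun e => h.ne ((smul_left_cancel_iff _).mp (e.trans b1.symm))
  obtain ⟨c1, c2⟩ := h.el_spec b2
  have c3 := fx _ (Commute.mul_left (mul_inv_eq_iff_eq_mul.mp (h.wj F w2 wi wo)) (n2 _ j1)) o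
    (h.η_fix _).2 b2
  generalize h.el ((w * n) • o) = a at c1 c2 c3
  obtain ⟨ν, hν⟩ := (h.memH (a⁻¹ * (w * n))).mpr ⟨by
    rw [mul_smul, b1, h.fix _ (inv_mem c1)], by rw [mul_smul, ← c2, inv_smul_smul]⟩
  have : Commute (a * η ν * n⁻¹) (η μ) := ((h.Z_comm c1 c3 hμ).mul_left
    ((Commute.all ν μ).map η)).mul_left (n2 μ hμ).inv_left
  rw [hν, mul_inv_cancel_left, mul_inv_cancel_right] at this
  exact h.η_inj F (by rw [← wη, this.eq, mul_inv_cancel_right])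

theorem fixw : ∃ c : E, c + σ c ≠ 0 ∧ ∀ v, w • v = v ↔ v ≠ i ∧ h.Y v = c := by
  classical
  obtain ⟨g, hg⟩ := isConj_iff.mp (h.inv _ _ (h.j_ord F) w2)
  choose P P1 P2 P3 using fun u : {u : E // u + σ u = 0} => h.psur (u := 0) (v := u.1) (by simpa using u.2)
  let f : Option {u : E // u + σ u = 0} → Ω := fun u => g • u.elim i P
  have f1 : ∀ u, w • f u = f u := fun u => by
    rw [← hg, mul_smul, mul_smul, inv_smul_smul]
    rcases u with _ | u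
    exacts [congrArg _ (h.η_fix _).1, congrArg _ ((h.j_fix F (P1 u)).mpr (P2 u))]
  have f2 : ∀ v, w • v = v → ∃ u, f u = v := fun v e => by
    by_cases e1 : g⁻¹ • v = i
    · exact ⟨none, by simp [f, ← e1]⟩
    have e2 := (h.j_fix F e1).mp (by
      rw [← hg, mul_smul, mul_smul, smul_eq_iff_eq_inv_smul] at e; exact e)
    refine ⟨some ⟨h.Y (g⁻¹ • v), by simpa [e2] using h.pher e1⟩, smul_eq_iff_eq_inv_smul _ |>.mpr ?_⟩
    exact h.pext (P1 _) e1 ((P2 _).trans e2.symm) (P3 _)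
  have fi : ∀ v, w • v = v → v ≠ i := fun v e e' => h.ne (by rw [← wi, ← e', e])
  obtain ⟨v, v1, v2⟩ : ∃ v, w • v = v ∧ h.X v ≠ 0 := by
    by_contra! H
    have := h.inv_eq F w2 (h.j_ord F) (v := f none) (w := f (some ⟨0, by simp⟩))
      (fun e => P1 _ ((smul_left_cancel_iff g).mp e).symm) (f1 _) (f1 _)
      ((h.j_fix F (fi _ (f1 _))).mpr (H _ (f1 _))) ((h.j_fix F (fi _ (f1 _))).mpr (H _ (f1 _)))
    exact h.ne (by rw [← wi, this, (h.η_fix _).1])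
  have v3 := fi v v1
  have u0 : ∀ u : {u : E // u * σ u = 1}, u.1 ≠ 0 := fun u => left_ne_zero_of_mul_eq_one u.2
  have k1 : ∀ u : {u : E // u * σ u = 1}, w • η (Units.mk0 _ (u0 u)) • v = η (Units.mk0 _ (u0 u)) • v :=
    fun u => by rw [w_η wη, h.cent F w2 wi wo wη u.2, v1]
  choose k hk using fun u => f2 _ (k1 u)
  have k2 : Function.Injective k := fun u u' e => by
    have := congrArg h.X ((hk u).symm.trans (e ▸ hk u'))
    rw [(h.XY_η _ v3).1, (h.XY_η _ v3).1] at this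
    exact Subtype.ext (mul_right_cancel₀ v2 this)
  have k3 := (k2.bijective_of_nat_card_le (by rw [Finite.card_option, F.c0, F.cU])).2
  refine ⟨h.Y v, by rw [h.pher v3]; exact mul_ne_zero v2 ((map_ne_zero σ).mpr v2), fun v' =>
    ⟨fun e => ⟨fi _ e, ?_⟩, fun ⟨e1, e2⟩ => ?_⟩⟩
  · obtain ⟨u, rfl⟩ := f2 _ e
    obtain ⟨u, rfl⟩ := k3 u
    rw [hk, (h.XY_η _ v3).2, Units.val_mk0, u.2, one_mul]
  · have e3 : h.X v' / h.X v * σ (h.X v' / h.X v) = 1 := by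
      rw [map_div₀, div_mul_div_comm, ← h.pher e1, e2, h.pher v3]
      exact div_self (mul_ne_zero v2 ((map_ne_zero σ).mpr v2))
    have := k1 ⟨_, e3⟩
    rwa [h.pext (h.η_ne _ v3) e1 (by rw [(h.XY_η _ v3).1, Units.val_mk0, div_mul_cancel₀ _ v2])
      (by rw [(h.XY_η _ v3).2, Units.val_mk0, e3, one_mul, e2])] at this

theorem line {k c : E} (e : c + σ c + k * σ k ≠ 0) :
    ∃ t : G, orderOf t = 2 ∧ ∀ v, t • v = v ↔ v ≠ i ∧ h.Y v = k * h.X v + c := by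
  obtain ⟨c0, c1, hc⟩ := h.fixw F w2 wi wo wη
  obtain ⟨ν, hν⟩ := F.nrm ((c + σ c + k * σ k) / (c0 + σ c0)) (by
    simp only [map_div₀, map_add, map_mul, F.ss]; ring)
  have n0 : ν * σ ν ≠ 0 := hν ▸ div_ne_zero e c1
  rw [eq_div_iff c1] at hν
  obtain ⟨b, b1, b2, b3⟩ := h.sur (σ k) (c + k * σ k - ν * σ ν * c0) (by
    simp only [map_sub, map_add, map_mul, F.ss]; linear_combination -hν)
  let μ := Units.mk0 ν (left_ne_zero_of_mul n0)
  refine ⟨b * η μ * w * (b * η μ)⁻¹, (ord_cj _ _).trans w2, fun v => ?_⟩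
  obtain ⟨v, rfl⟩ : ∃ v', v = (b * η μ) • v' := ⟨_, (smul_inv_smul _ v).symm⟩
  rw [mul_smul _ (b * η μ)⁻¹, inv_smul_smul, mul_smul _ w, smul_left_cancel_iff, hc, mul_smul]
  by_cases f : v = i
  · simp [f, (h.η_fix μ).1, h.fix b b1]
  obtain ⟨a1, a2⟩ := h.XY_η μ f
  obtain ⟨a3, a4⟩ := h.XY_Q b1 (h.η_ne μ f)
  rw [a3, a4, a1, a2, b2, b3, F.ss, and_iff_right f, and_iff_right (h.Q_ne b1 (h.η_ne μ f))]
  refine ⟨fun e => by rw [e]; simp only [μ, Units.val_mk0]; ring, fun e => mul_left_cancel₀ n0 ?_⟩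
  simp only [μ, Units.val_mk0] at e
  linear_combination e

theorem ratio : ∃ κ : E, κ ≠ 0 ∧ ∀ v, v ≠ i → h.X v ≠ 0 →
    h.Y (w • v) = κ * σ (h.X v) ^ m * h.X (w • v) := by
  have no : ∀ v, h.X v ≠ 0 → v ≠ o := fun v e f => e (f ▸ h.XY_o.1)
  have y0 : ∀ v, v ≠ i → v ≠ o → h.Y (w • v) ≠ 0 := fun v e e' => h.Y_ne (h.w_ne w2 wi e') fun f =>
    e ((smul_left_cancel_iff w).mp (f.trans wi.symm))
  have key : ∀ v v', v ≠ i → v' ≠ i → h.X v ≠ 0 → h.X v' = h.X v →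
      h.Y (w • v') = h.Y (w • v) / h.X (w • v) * h.X (w • v') := fun v v' e e' f f' => by
    have x0 := (h.w_X F w2 wi wo e (no v f)).not.mpr f
    have k0 := div_ne_zero (y0 v e (no v f)) x0
    obtain ⟨t, t1, t2⟩ := h.line F w2 wi wo wη (k := h.Y (w • v) / h.X (w • v)) (c := 0) (by
      simpa using k0)
    obtain ⟨a1, a2⟩ := h.el_spec e
    have s : ∀ u : Ω, η (-1) • (h.el v)⁻¹ • u = (h.el v)⁻¹ • u →
        (w * h.el v * η (-1) * (w * h.el v)⁻¹) • w • u = w • u := fun u hu => by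
      simp [mul_smul, hu]
    have := h.inv_eq F t1 ((ord_cj (w * h.el v) _).trans (h.j_ord F)) (v := o) (w := w • v)
      (fun g => x0 (g ▸ h.XY_o.1)) ((t2 _).mpr ⟨h.ne, by simp [h.XY_o]⟩)
      ((t2 _).mpr ⟨h.w_ne w2 wi (no v f), by simp [x0]⟩)
      (wi ▸ s i (by rw [h.fix _ (inv_mem a1), (h.η_fix _).1]))
      (s v (by rw [inv_smul_eq_iff.mpr a2.symm, (h.η_fix _).2]))
    simpa using ((t2 _).mp (this ▸ s v' ((h.j_fix F (h.Q_ne (inv_mem a1) e')).mpr (by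
      have := (h.XY_Q a1 (h.Q_ne (inv_mem a1) e')).1
      rw [smul_inv_smul, f'] at this
      exact left_eq_add.mp this)))).2
  obtain ⟨v, v1, v2⟩ := h.ex1 F
  have v3 : h.X v ≠ 0 := v2 ▸ one_ne_zero
  have x0 := (h.w_X F w2 wi wo v1 (no v v3)).not.mpr v3
  refine ⟨_, div_ne_zero (y0 v v1 (no v v3)) x0, fun u u1 u2 => ?_⟩
  have e1 := (h.XY_η (Units.mk0 _ u2) v1).1
  rw [v2, mul_one, Units.val_mk0] at e1
  obtain ⟨e2, e3⟩ := h.XY_η (Units.mk0 _ u2 ^ m) (h.w_ne w2 wi (no v v3))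
  rw [key _ u (h.η_ne _ v1) u1 (e1.trans_ne u2) e1.symm, w_η wη, e2, e3, Units.val_zpow_eq_zpow_val,
    Units.val_mk0, map_zpow₀]
  have := zpow_ne_zero m u2
  field_simp

theorem form : ∃ κ : E, κ ≠ 0 ∧ σ κ = κ ∧ ∀ v, v ≠ i → v ≠ o →
    h.X (w • v) = κ * h.X v / h.Y v ∧ h.Y (w • v) = κ ^ 2 / h.Y v := by
  obtain ⟨κ, k0, hκ⟩ := h.ratio F w2 wi wo wη
  have no : ∀ v, h.X v ≠ 0 → v ≠ o := fun v e f => e (f ▸ h.XY_o.1)
  have a : ∀ v, v ≠ i → h.X v ≠ 0 → h.X (w • v) = σ (h.Y v / (κ * h.X v)) ^ m := fun v e f => by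
    have x0 := (h.w_X F w2 wi wo e (no v f)).not.mpr f
    have := hκ _ (h.w_ne w2 wi (no v f)) x0
    rw [ww w2] at this
    rw [this, mul_right_comm, mul_div_cancel_left₀ _ (mul_ne_zero k0 f), map_zpow₀, F.ss]
    simpa using congrArg Units.val (h.mm F w2 wη (Units.mk0 _ x0)).symm
  obtain ⟨k1, k2⟩ := F.alg (m := m) k0 (fun u hu => by
    simpa using congrArg Units.val (h.cent F w2 wi wo wη
      (μ := Units.mk0 _ (left_ne_zero_of_mul_eq_one hu)) hu)) fun u v u0 e => by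
    obtain ⟨z, z1, rfl, rfl⟩ := h.psur e
    rw [← a z z1 u0, ← hκ z z1 u0]
    exact h.pher (h.w_ne w2 wi (no z u0))
  have b : ∀ v, v ≠ i → h.X v ≠ 0 →
      h.X (w • v) = κ * h.X v / h.Y v ∧ h.Y (w • v) = κ ^ 2 / h.Y v := fun v e f => by
    have y0 := h.Y_ne e (no v f)
    rw [hκ v e f, a v e f, k2 _ f, k2 _ (div_ne_zero y0 (mul_ne_zero k0 f)), inv_div]
    exact ⟨rfl, by field_simp⟩
  refine ⟨κ, k0, k1, fun v e e' => ?_⟩
  by_cases f : h.X v = 0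
  swap
  · exact b v e f
  have c0 := h.Y_ne e e'
  have c1 : σ (h.Y v) = -h.Y v := by
    have := h.pher e
    rw [f, zero_mul] at this
    linear_combination this
  have x0 := (h.w_X F w2 wi wo e e').mpr f
  generalize hc : h.Y v = c at c0 c1
  have two := F.two
  have s2 : σ 2 = 2 := map_ofNat σ 2
  have n1 : 1 - c ≠ 0 := fun g => two (by
    have := congrArg σ g
    rw [map_sub, map_one, c1, map_zero] at this
    linear_combination g + this)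
  have n2 : 1 + c ≠ 0 := fun g => n1 (by
    have := congrArg σ g
    rw [map_add, map_one, c1, map_zero] at this
    linear_combination this)
  obtain ⟨t, t1, t2⟩ := h.line F w2 wi wo wη (k := 1) (c := c) (by simp [c1])
  obtain ⟨s, s1, s3⟩ := h.line F w2 wi wo wη (k := -(κ / c)) (c := κ ^ 2 / c) (by
    simp [map_div₀, c1, k1, div_neg, k0, c0])
  have pt : ∀ u : E, u ≠ 0 → u + σ u = u * σ u → ∃ z, h.X z = u ∧ (w * t * w⁻¹) • w • z = w • z ∧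
      s • w • z = w • z := fun u u0 hu => by
    obtain ⟨z, z1, z2, z3⟩ := h.psur (u := u) (v := u + c) (by rw [map_add, c1]; linear_combination hu)
    obtain ⟨b1, b2⟩ := b z z1 (z2 ▸ u0)
    have y0 := h.Y_ne z1 (no z (z2 ▸ u0))
    refine ⟨z, z2, by simp [mul_smul, (t2 z).mpr ⟨z1, by rw [z2, z3, one_mul]⟩],
      (s3 _).mpr ⟨h.w_ne w2 wi (no z (z2 ▸ u0)), ?_⟩⟩
    rw [b1, b2, z2]
    rw [z3] at y0 ⊢
    field_simp
    ring
  obtain ⟨z, z1, z2, z3⟩ := pt 2 two (by rw [s2]; norm_num)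
  obtain ⟨z', z4, z5, z6⟩ := pt (2 / (1 - c)) (div_ne_zero two n1) (by
    rw [map_div₀, s2, map_sub, map_one, c1, sub_neg_eq_add]; field_simp; ring)
  have := h.inv_eq F ((ord_cj w t).trans t1) s1 (fun g => by
    rw [(smul_left_cancel_iff w).mp g, z4, div_eq_iff n1] at z1
    exact mul_ne_zero two c0 (by linear_combination z1)) z2 z5 z3 z6
  have := ((s3 (w • v)).mp (by
    simp [← this, mul_smul, (t2 v).mpr ⟨e, by rw [f, hc, mul_zero, zero_add]⟩])).2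
  rw [this, x0, f]
  simp

omit w2 wi wo wη in
theorem wey' : ∃ w, Wey G Ω i o Q x y w := by
  obtain ⟨w, m, w2, wi, wo, wη⟩ := h.ex_w F
  obtain ⟨κ, k0, k1, hκ⟩ := h.form F w2 wi wo wη
  let μ := Units.mk0 (-κ⁻¹) (neg_ne_zero.mpr (inv_ne_zero k0))
  refine ⟨η μ * w, by rw [mul_smul, wi, (h.η_fix _).2], by rw [mul_smul, wo, (h.η_fix _).1],
    fun a ha a1 => ?_⟩
  have e : a • o ≠ o := fun f => a1 (h.reg a ha f)
  have e1 := h.w_ne w2 wi e
  obtain ⟨b1, b2⟩ := h.el_spec (h.η_ne μ e1)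
  obtain ⟨c1, c2⟩ := h.XY_η μ e1
  obtain ⟨d1, d2⟩ := hκ _ (h.Q_ne ha h.ne) e
  rw [d1] at c1
  rw [d2] at c2
  simp only [X, Y, h.el_smul ha, μ, Units.val_mk0, map_neg, map_inv₀, k1] at c1 c2
  refine ⟨_, b1, by rw [mul_smul, b2], c1.trans ?_, c2.trans ?_⟩ <;> field_simp

end U3D

end CfsgU3
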