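import Cfsg.Agent.H3.X32Base
import Cfsg.Agent.H7.Loc4

set_option autoImplicit false

/-! The alternating case: a subgroup `A₈`. -/

namespace CfsgH3.X32

open Subgroup CfsgH5 CfsgH6 CfsgFT CfsgH7 CfsgH8 CfsgH3.TC

universe u
variable {G : Type u} [Group G] {τ : Bool}

theorem Rel.map {H : Type*} [Group H] (f : G →* H) {s y u z v x r : G} (h : Rel τ s y u z v x r) :
    Rel τ (f s) (f y) (f u) (f z) (f v) (f x) (f r) := by
  obtain ⟨⟨h1, h2, h3, h4, h5, h6, h7, h8, h9, h10, h11, h12, h13, h14, h15⟩,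
    ⟨g1, g2, g3, g4, g5, g6, g7, g8, g9, g10⟩, g11⟩ := h
  refine ⟨⟨?_, ?_, ?_, ?_, ?_, ?_, ?_, ?_, ?_, ?_, ?_, ?_, ?_, ?_, ?_⟩,
    ⟨?_, ?_, ?_, ?_, ?_, ?_, ?_, ?_, ?_, ?_⟩, ?_⟩
  rotate_right
  · cases τ <;> simpa only [map_mul, map_inv, cond] using congrArg f g11
  all_goals
    simp only [← map_mul, ← map_inv]
    first | exact (congrArg f ‹_›).trans (map_one f) | exact congrArg f ‹_›

/-- an involution swapping the two centralizers -/
structure Al (s y u z r a : G) : Prop where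
  a2 : a * a = 1
  ay : a * y * a⁻¹ = y
  as : a * s * a⁻¹ = s * y
  ar : a * r * a⁻¹ = r
  az : a * z * a⁻¹ = z * r
  au : a * u * a⁻¹ = u

theorem fA1 : ∀ v : M false, v.w = 0 → v * v = 1 → v ≠ 1 → v ≠ s →
    ∀ a, a * v = v * a → a * a = 1 → ∀ b, b * v = v * b → b * b = 1 → b * a * b⁻¹ = s * a →
    ∀ c, c * v = v * c → c * c = 1 → b * c = c * b → a * c = v * c * a →
    ∃ k, k * v * k⁻¹ = a ∧ (Rel false s v a b (k * b * k⁻¹) k c ∨
      Rel false s v a (v * b) (k * (v * b) * k⁻¹) k c) := by decide +kernel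

theorem fA2 : (y0 : M false) * y0 = 1 ∧ (s : M false) ≠ y0 ∧ (y1 : M false) * y0 = y0 * y1 ∧
    (r : M false) * y0 = y0 * r ∧ (z0 : M false) * y0 = y0 * z0 ∧ (y1 : M false) * y1 = 1 ∧
    (r : M false) * r = 1 ∧ (z0 : M false) * z0 = 1 ∧ (r : M false) * y1 * r⁻¹ = y0 * y1 ∧
    (r : M false) * z0 = z0 * r ∧ (y1 : M false) * z0 = s * z0 * y1 ∧ (z1 : M false) * z1 = 1 ∧
    (z1 : M false) * s * z1⁻¹ = s ∧ (z1 : M false) * y0 * z1⁻¹ = y0 * s ∧
    (z1 : M false) * z0 * z1⁻¹ = z0 ∧ (z1 : M false) * r * z1⁻¹ = r * z0 ∧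
    (z1 : M false) * y1 * z1⁻¹ = y1 := by decide +kernel

theorem Base.exists_al {f : M false →* G} (h : Base f) (hc : IsConj (f s) (f y0)) :
    ∃ a, Al (f s) (f y0) (f y1) (f z0) (f r) a ∨ Al (f s) (f y0) (f y1) (f z0) (f s * f r) a := by
  obtain ⟨g, hg⟩ := isConj_iff.1 hc
  obtain ⟨e1, e2, e3, e4, e5, e6, e7, e8, e9, e10, e11, d1, d2, d3, d4, d5, d6⟩ := fA2
  obtain ⟨v, v0, v2, v1, vs, hv⟩ := h.step rfl e1 e2.symm hg
  have h' := h.conj g
  generalize hf : (MulAut.conj g).toMonoidHom.comp f = f' at h'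
  replace hg : f' s = f y0 := hf ▸ hg
  replace hv : f' v = f s := hf ▸ hv
  obtain ⟨a, ha⟩ := h'.cent (f y1) (by rw [hg, ← map_mul, e3, map_mul])
  obtain ⟨b, hb⟩ := h'.cent (f r) (by rw [hg, ← map_mul, e4, map_mul])
  obtain ⟨c, hc⟩ := h'.cent (f z0) (by rw [hg, ← map_mul, e5, map_mul])
  have key : ∀ {b' v' k : M false}, Rel false s v a b' v' k c →
      ∃ α, Al (f s) (f y0) (f y1) (f z0) (f' b') α := fun hr => by
    obtain ⟨ψ, -, p1, p2, p3, p4, -, -, p5⟩ := hr.exists_aut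
    have m := fun {a b : M false} (e : a = b) => congrArg (f'.comp ψ) e
    have m1 := m d1
    have m2 := m d2
    have m3 := m d3
    have m4 := m d4
    have m5 := m d5
    have m6 := m d6
    simp only [map_mul, map_inv, map_one, MonoidHom.comp_apply, p1, p2, p3, p4, p5, hg, hv, ha, hc]
      at m1 m2 m3 m4 m5 m6
    exact ⟨_, m1, m2, m3, m4, m5, m6⟩
  obtain ⟨k, -, e | e⟩ := fA1 v v0 v2 v1 vs
    a (h'.comm (by rw [ha, hv, Base.sc])) (h'.sq (by rw [ha, ← map_mul, e6, map_one]))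
    b (h'.comm (by rw [hb, hv, Base.sc])) (h'.sq (by rw [hb, ← map_mul, e7, map_one]))
    (h'.eq (by rw [map_mul, map_mul, map_mul, map_inv, ha, hb, hg, ← map_mul f y0, ← e9]; simp))
    c (h'.comm (by rw [hc, hv, Base.sc])) (h'.sq (by rw [hc, ← map_mul, e8, map_one]))
    (h'.comm (by rw [hb, hc, ← map_mul, e10, map_mul]))
    (h'.eq (by simp only [map_mul, ha, hc, hv]; simpa only [map_mul] using congrArg f e11))
  · obtain ⟨α, hα⟩ := key e
    exact ⟨α, Or.inl (hb ▸ hα)⟩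
  · obtain ⟨α, hα⟩ := key e
    rw [map_mul, hv, hb] at hα
    exact ⟨α, Or.inr hα⟩

def pA (m : M false) : Prop := m.w.val % 3 = 0 ∧ m.q.val % 8 < 4 ∧ m.q.val < 16
instance : DecidablePred pA := fun _ => inferInstanceAs (Decidable (_ ∧ _))

def ev (a b c d m : M false) : M false :=
  a ^ bit m.q 0 * b ^ bit m.q 1 * c ^ bit m.q 3 * d ^ (m.w.val / 3)

theorem nfA : ∀ m, pA m → ev s y0 z0 r m = m := by decide +kernel
theorem fCA : ∀ m : M false, m * y0 = y0 * m → m * z0 = z0 * m → m * r = r * m → pA m := by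
  decide +kernel
theorem fA3 : ∀ m, pA m → m * m = 1 ∧ ∀ n, pA n → m * n = n * m := by decide +kernel
theorem pA_gen : pA s ∧ pA y0 ∧ pA z0 ∧ pA r := by decide +kernel

/-- `g` acts on `A` as `p` -/
def Ac (f : M false →* G) (g : G) (p : M false → M false) : Prop :=
  ∀ m, pA m → pA (p m) ∧ g * f m * g⁻¹ = f (p m)

namespace Ac

variable {f : M false →* G} {g k : G} {p q : M false → M false}

theorem mul (h1 : Ac f g p) (h2 : Ac f k q) : Ac f (g * k) fun m => p (q m) := fun m hm =>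
  ⟨(h1 _ (h2 m hm).1).1, by rw [← (h1 _ (h2 m hm).1).2, ← (h2 m hm).2]; group⟩

theorem inner (f : M false →* G) {k : M false} (h : ∀ m, pA m → pA (k * m * k⁻¹)) :
    Ac f (f k) fun m => k * m * k⁻¹ := fun m hm => ⟨h m hm, by simp⟩

theorem of_ev {a b c d : M false} (h1 : g * f s * g⁻¹ = f a) (h2 : g * f y0 * g⁻¹ = f b)
    (h3 : g * f z0 * g⁻¹ = f c) (h4 : g * f r * g⁻¹ = f d) (h : ∀ m, pA m → pA (ev a b c d m)) :
    Ac f g (ev a b c d) := fun m hm => ⟨h m hm, by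
  nth_rewrite 1 [← nfA m hm]
  simp only [ev, map_mul, map_pow, ← h1, ← h2, ← h3, ← h4, conj_pow]
  group⟩

theorem mem (hf : Base f) (h : Ac f g p) (e : p s = s ∧ p y0 = y0 ∧ p z0 = z0 ∧ p r = r) :
    ∃ m, pA m ∧ f m = g := by
  have key : ∀ m, pA m → p m = m → g * f m = f m * g := fun m h1 h2 =>
    mul_inv_eq_iff_eq_mul.1 ((h m h1).2.trans (congrArg f h2))
  obtain ⟨m, rfl⟩ := hf.cent g (key _ pA_gen.1 e.1)
  exact ⟨m, fCA m (hf.comm (key _ pA_gen.2.1 e.2.1)) (hf.comm (key _ pA_gen.2.2.1 e.2.2.1))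
    (hf.comm (key _ pA_gen.2.2.2 e.2.2.2)), rfl⟩

theorem fix (hf : Base f) (h : Ac f g p) {m : M false} (hm : pA m) (e : g * f m = f m * g) :
    p m = m := hf.eq (by rw [← (h m hm).2, e, mul_inv_cancel_right])

end Ac

def pu (m : M false) : M false := y1 * m * y1⁻¹
def pv (m : M false) : M false := z1 * m * z1⁻¹
def pa : M false → M false := ev (s * y0) y0 (z0 * r) r
def pb : M false → M false := ev (s * z0) (y0 * r) z0 r
def pc : M false → M false := ev (s * z0) (y0 * (s * r)) z0 (z0 * r)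

theorem acu (f : M false →* G) : Ac f (f y1) pu := Ac.inner f (by decide +kernel)
theorem acv (f : M false →* G) : Ac f (f z1) pv := Ac.inner f (by decide +kernel)

variable {f : M false →* G} {a b : G}

theorem Al.aca (h : Al (f s) (f y0) (f y1) (f z0) (f r) a) : Ac f a pa :=
  Ac.of_ev (map_mul f _ _ ▸ h.as) h.ay (map_mul f _ _ ▸ h.az) h.ar (by decide +kernel)

theorem Al.acb (h : Al (f s) (f z0) (f z1) (f y0) (f r) b) : Ac f b pb :=
  Ac.of_ev (map_mul f _ _ ▸ h.as) (map_mul f _ _ ▸ h.az) h.ay h.ar (by decide +kernel)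

theorem Al.bad (hf : Base f) (ha : Al (f s) (f y0) (f y1) (f z0) (f r) a)
    (hb : Al (f s) (f z0) (f z1) (f y0) (f s * f r) b) : False := by
  have h1 : Ac f b pc := Ac.of_ev (map_mul f _ _ ▸ hb.as) (by rw [map_mul, map_mul]; exact hb.az)
    hb.ay (by
      have e : (r : M false) = s * (s * r) ∧ (z0 * r : M false) = s * z0 * (s * r) := by
        decide +kernel
      rw [e.2]
      nth_rewrite 1 [e.1]
      rw [map_mul, map_mul, cjm, hb.as, hb.ar]
      simp only [map_mul]) (by decide +kernel)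
  have h2 := ((((((ha.aca.mul (acv f)).mul h1).mul (acu f)).mul ha.aca).mul (acv f)).mul h1).mul
    ha.aca
  generalize a * f z1 * b * f y1 * a * f z1 * b * a = w at h2
  obtain ⟨m, rfl⟩ := hf.cent w (mul_inv_eq_iff_eq_mul.1 ((h2 s pA_gen.1).2.trans
    (congrArg f (by decide +kernel))))
  have h3 := (h2 y0 pA_gen.2.1).2
  rw [← map_inv, ← map_mul, ← map_mul] at h3
  exact absurd (hf.eq h3 ▸ (fE false y0 (by decide +kernel)).2.2.1 m) (by decide +kernel)

theorem Al.cube (hf : Base f) (ha : Al (f s) (f y0) (f y1) (f z0) (f r) a) :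
    f z1 * a * (f z1 * a) * (f z1 * a) = 1 := by
  have h1 := (acv f).mul ha.aca
  obtain ⟨m, hm, e⟩ := ((h1.mul h1).mul h1).mem hf (by decide +kernel)
  have h2 := h1.fix hf hm (by rw [e]; group)
  rw [← e, (show ∀ m, pA m → pv (pa m) = m → m = 1 by decide +kernel) m hm h2, map_one]

theorem Al.conj (ha : Al (f s) (f y0) (f y1) (f z0) (f r) a) : a * f s * a⁻¹ = f (s * y0) :=
  map_mul f _ _ ▸ ha.as

theorem Al.four (hf : Base f) (ha : Al (f s) (f y0) (f y1) (f z0) (f r) a) :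
    (a * f x * f r * (f x)⁻¹) ^ 4 = 1 := by
  obtain ⟨e1, e2, e3, e4, e5, e6, e7, e8⟩ : (x * r * x⁻¹ : M false) * y0 * (x * r * x⁻¹)⁻¹ = y0 * y1 ∧
      (x * r * x⁻¹ : M false) * y1 * (x * r * x⁻¹)⁻¹ = y1 ∧ (s * y0 * (y0 * y1) : M false) = s * y1 ∧
      (s * y1 * y1 : M false) = s ∧ (y0 * y1 * y1 : M false) = y0 ∧
      (∃ k : M false, k * (s * y0) * k⁻¹ = y1) ∧ (∀ m : M false, m ^ 8 = 1 → m ^ 4 = 1) ∧
      ∀ m : M false, m * y0 = y0 * m → m * y1 = y1 * m → m * m = 1 := by decide +kernel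
  have hw : a * f x * f r * (f x)⁻¹ = a * f (x * r * x⁻¹) := by simp [mul_assoc]
  rw [hw]
  generalize x * r * x⁻¹ = k at e1 e2
  have c : ∀ m, a * f k * f m * (a * f k)⁻¹ = a * f (k * m * k⁻¹) * a⁻¹ := fun m => by
    simp [mul_assoc]
  have c1 := c s
  have c2 := c y0
  have c3 := c y1
  rw [s_cen, mul_assoc s, mul_inv_cancel, mul_one, ha.conj] at c1
  rw [e1, map_mul, cjm, ha.ay, ha.au, ← map_mul] at c2
  rw [e2, ha.au] at c3
  generalize a * f k = w at c1 c2 c3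
  have d : ∀ m, w * w * m * (w * w)⁻¹ = w * (w * m * w⁻¹) * w⁻¹ := fun m => by group
  have d1 := d (f s)
  have d2 := d (f y0)
  have d3 := d (f y1)
  rw [c1, map_mul, cjm, c1, c2, ← map_mul, e3] at d1
  rw [c2, map_mul, cjm, c2, c3, ← map_mul, e5] at d2
  rw [c3, c3] at d3
  have d4 : ∀ m, w ^ 4 * m * (w ^ 4)⁻¹ = w * w * (w * w * m * (w * w)⁻¹) * (w * w)⁻¹ := fun m => by
    simp [pow_succ, mul_assoc]
  obtain ⟨m, hm⟩ := hf.cent (w ^ 4) (mul_inv_eq_iff_eq_mul.1 (by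
    rw [d4, d1, map_mul, cjm, d1, d3, ← map_mul, e4]))
  have h8 : w ^ 8 = 1 := by
    rw [show 8 = 4 + 4 from rfl, pow_add, ← hm, ← map_mul, e8 m
      (hf.comm (by rw [hm, ← mul_inv_eq_iff_eq_mul, d4, d2, d2]))
      (hf.comm (by rw [hm, ← mul_inv_eq_iff_eq_mul, d4, d3, d3])), map_one]
  obtain ⟨l, hl⟩ := e6
  have h' := hf.conj (f l * a)
  obtain ⟨n, rfl⟩ := h'.cent w (by
    change w * (f l * a * f s * (f l * a)⁻¹) = f l * a * f s * (f l * a)⁻¹ * w
    rw [show f l * a * f s * (f l * a)⁻¹ = f l * (a * f s * a⁻¹) * (f l)⁻¹ by group, ha.conj,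
      ← map_inv, ← map_mul, ← map_mul, hl]
    exact mul_inv_eq_iff_eq_mul.1 c3)
  rw [← map_pow, e7 n (h'.eq (by rw [map_pow, h8, map_one])), map_one]

theorem exists_sw : ∃ ψ : M false →* M false, Function.Surjective ψ ∧ ψ s = s ∧ ψ y0 = z0 ∧
    ψ y1 = z1 ∧ ψ z0 = y0 ∧ ψ z1 = y1 ∧ ψ x = x ∧ ψ r = r := Rel.exists_aut (by decide +kernel)

/-- the configuration generating `A₈` -/
structure CA (f : M false →* G) (a b : G) : Prop extends Base f where
  ha : Al (f s) (f y0) (f y1) (f z0) (f r) a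
  hb : Al (f s) (f z0) (f z1) (f y0) (f r) b
  ab : a * b = b * a

theorem exists_ca1 (hf : Base f) (ha : Al (f s) (f y0) (f y1) (f z0) (f r) a)
    (hb : Al (f s) (f z0) (f z1) (f y0) (f r) b) : ∃ a, CA f a b := by
  have h1 := ha.aca.mul hb.acb
  obtain ⟨m, hm, e⟩ := (h1.mul h1).mem hf (by decide +kernel)
  have e2 : f m * f m = 1 := by rw [← map_mul, (fA3 m hm).1, map_one]
  have ia := inv_eq_self ha.a2
  have ib := inv_eq_self hb.a2
  have e3 : b * a * (b * a) = a * b * (a * b) := by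
    rw [← e, ← inv_eq_self e2, e]; simp [ia, ib]
  have key : ∀ a, a * a = 1 → a * b * (a * b) = 1 → a * b = b * a := fun a h1 h2 => by
    rw [eq_inv_of_mul_eq_one_left h2, mul_inv_rev, inv_eq_self h1, ib]
  rcases (show ∀ m, pA m → pa m = m → pb m = m → m = 1 ∨ m = r by decide +kernel) m hm
    (ha.aca.fix hf hm (by rw [e]; nth_rewrite 1 [← e3]; group))
    (hb.acb.fix hf hm (by rw [e]; nth_rewrite 2 [← e3]; group)) with rfl | rfl
  · exact ⟨a, hf, ha, hb, key a ha.a2 (e.symm.trans (map_one f))⟩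
  obtain ⟨e4, -, e5, e6, e7, -⟩ := fA2
  have c : ∀ m n, n * y0 = y0 * n → a * m * a⁻¹ = f n → f y0 * a * m * (f y0 * a)⁻¹ = f n :=
    fun m n h1 h2 => by
      rw [show f y0 * a * m * (f y0 * a)⁻¹ = f y0 * (a * m * a⁻¹) * (f y0)⁻¹ by group, h2,
        ← map_mul, ← h1, map_mul, mul_inv_cancel_right]
  have y2 : f y0 * f y0 = 1 := by rw [← map_mul, e4, map_one]
  have a2 : f y0 * a * (f y0 * a) = 1 := by
    rw [show f y0 * a * (f y0 * a) = f y0 * (a * f y0 * a⁻¹) * (a * a) by group, ha.ay, ha.a2, y2,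
      one_mul]
  refine ⟨f y0 * a, hf, ⟨a2, c _ _ rfl ha.ay, map_mul f _ _ ▸ c _ _ (by decide +kernel) ha.conj,
    c _ _ e6 ha.ar, map_mul f _ _ ▸ c _ _ (by decide +kernel) (map_mul f _ _ ▸ ha.az),
    c _ _ e5 ha.au⟩, hb, key _ a2 ?_⟩
  rw [show f y0 * a * b * (f y0 * a * b) = f y0 * (a * (b * f y0 * b⁻¹) * a⁻¹) * (a * b * (a * b))
    by group, hb.az, cjm, ha.ay, ha.ar, ← e, ← mul_assoc, y2, one_mul, e2]

theorem exists_ca2 (hf : Base f) (ha : Al (f s) (f y0) (f y1) (f z0) (f r) a)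
    (hc : IsConj (f s) (f z0)) : ∃ a b, CA f a b := by
  obtain ⟨ψ, p0, p1, p2, p3, p4, -, -, p5⟩ := exists_sw
  obtain ⟨b, hb⟩ := (hf.aut p0 p1).exists_al (by simpa only [MonoidHom.comp_apply, p1, p2] using hc)
  simp only [MonoidHom.comp_apply, p1, p2, p3, p4, p5] at hb
  rcases hb with hb | hb
  · obtain ⟨a, h⟩ := exists_ca1 hf ha hb
    exact ⟨a, b, h⟩
  · exact (ha.bad hf hb).elim

theorem exists_ca3 (hf : Base f) (h1 : IsConj (f s) (f y0)) (h2 : IsConj (f s) (f z0)) :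
    ∃ (f : M false →* G) (a b : G), CA f a b := by
  obtain ⟨a, ha | ha⟩ := hf.exists_al h1
  · exact ⟨f, exists_ca2 hf ha h2⟩
  · obtain ⟨ψ, p0, p1, p2, p3, p4, -, -, p5⟩ :=
      Rel.exists_aut (show Rel false (s : M false) y0 y1 z0 z1 x (s * r) by decide +kernel)
    exact ⟨f.comp ψ, exists_ca2 (a := a) (hf.aut p0 p1)
      (by simpa only [MonoidHom.comp_apply, p1, p2, p3, p4, p5, map_mul] using ha)
      (by simpa only [MonoidHom.comp_apply, p1, p4] using h2)⟩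

theorem fA4 : (∀ m : M false, m * m = 1 → ¬ pE m → ∃ k : M false, k * m * k⁻¹ = z0 ∨
    k * m * k⁻¹ = s * y0 * z0 ∨ k * m * k⁻¹ = z0 * r ∨ k * m * k⁻¹ = z0 * (s * r)) ∧
    (s * y0 * y0 * (z0 * r) : M false) = z0 * (s * r) ∧
    (s * y0 * y0 * (z0 * (s * r)) : M false) = z0 * r := by decide +kernel

theorem exists_ca (hf : Base f) (h1 : IsConj (f s) (f y0)) {m : M false} (hm : ¬ pE m)
    (h2 : IsConj (f s) (f m)) : ∃ (f : M false →* G) (a b : G), CA f a b := by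
  suffices IsConj (f s) (f z0) ∨ IsConj (f s) (f (s * y0 * z0)) by
    rcases this with e | e
    · exact exists_ca3 hf h1 e
    · obtain ⟨ψ, p0, p1, p2, -, p4, -⟩ := Rel.exists_aut
        (show Rel false (s : M false) y0 y1 (s * y0 * z0) (s * y1 * z1) x r by decide +kernel)
      exact exists_ca3 (hf.aut p0 p1) (by simpa only [MonoidHom.comp_apply, p1, p2] using h1)
        (by simpa only [MonoidHom.comp_apply, p1, p4] using e)
  obtain ⟨g, hg⟩ := isConj_iff.1 h2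
  obtain ⟨k, hk⟩ := fA4.1 m (hf.sq (hg ▸ conj_mul_self Base.s2 g)) hm
  have h3 : IsConj (f s) (f (k * m * k⁻¹)) := h2.trans (isConj_iff.2 ⟨f k, by simp⟩)
  have key : ∀ {ρ a}, Al (f s) (f y0) (f y1) (f z0) (f ρ) a → IsConj (f (z0 * ρ)) (f z0) ∧
      IsConj (f (s * y0 * y0 * (z0 * ρ))) (f (s * y0 * z0)) := fun ha =>
    ⟨(isConj_iff.2 ⟨_, map_mul f _ _ ▸ ha.az⟩).symm, (isConj_iff.2 ⟨_, by
      simp only [map_mul]; rw [cjm, cjm, ha.as, ha.ay, ha.az]⟩).symm⟩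
  obtain ⟨a, ha | ha⟩ := hf.exists_al h1
  · obtain ⟨k1, k2⟩ := key ha
    rw [fA4.2.1] at k2
    rcases hk with e | e | e | e <;> rw [e] at h3
    exacts [Or.inl h3, Or.inr h3, Or.inl (h3.trans k1), Or.inr (h3.trans k2)]
  · obtain ⟨k1, k2⟩ := key (map_mul f _ _ ▸ ha)
    rw [fA4.2.2] at k2
    rcases hk with e | e | e | e <;> rw [e] at h3
    exacts [Or.inl h3, Or.inr h3, Or.inr (h3.trans k2), Or.inl (h3.trans k1)]

namespace E8
def ps : A8 := sw2 0 1 2 3 * sw2 4 5 6 7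
def py : A8 := sw2 0 3 1 2 * sw2 4 6 5 7
def pu : A8 := sw2 0 5 1 4 * sw2 2 6 3 7
def pz : A8 := sw2 0 2 1 3 * sw2 4 6 5 7
def pv : A8 := sw2 0 4 1 5 * sw2 2 6 3 7
def px : A8 := sw2 2 4 4 6 * sw2 3 5 5 7
def pr : A8 := sw2 0 1 2 3 * sw2 4 7 5 6
def pa : A8 := sw2 0 5 1 6 * sw2 2 4 3 7
def pb : A8 := sw2 0 6 1 5 * sw2 2 4 3 7

theorem sat : Sat (vals ps py pu pz pv px pr pa pb) rels8 := ⟨rfl, by decide +kernel⟩

theorem gen : Gen 9 (vals ps py pu pz pv px pr pa pb) = ⊤ := by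
  haveI : Fact (Nat.Prime 5) := ⟨Nat.prime_five⟩
  haveI : Fact (Nat.Prime 7) := ⟨by norm_num⟩
  have m := fun i => mem_Gen (n := 9) (vals ps py pu pz pv px pr pa pb) (a := i)
  have m1 : ps ∈ _ := m 1 (by omega) (by omega)
  have m2 : py ∈ _ := m 2 (by omega) (by omega)
  have m3 : pu ∈ _ := m 3 (by omega) (by omega)
  have m4 : pz ∈ _ := m 4 (by omega) (by omega)
  have m5 : pv ∈ _ := m 5 (by omega) (by omega)
  have m6 : px ∈ _ := m 6 (by omega) (by omega)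
  have m7 : pr ∈ _ := m 7 (by omega) (by omega)
  have m8 : pa ∈ _ := m 8 (by omega) (by omega)
  have m9 : pb ∈ _ := m 9 (by omega) (by omega)
  generalize Gen 9 (vals ps py pu pz pv px pr pa pb) = Y at *
  obtain ⟨f, p1, p2, p3, p4, p5, p6, p7⟩ :=
    (show Rel false ps py pu pz pv px pr by decide +kernel).exists_hom
  have h1 : 192 ∣ Nat.card Y := by
    rw [← card_M false, ← card_range_inj (inj_of (f := f) (by rw [p1]; decide +kernel))]
    refine card_dvd_of_le ?_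
    rintro _ ⟨m, rfl⟩
    exact le_of_gens (K := Y.comap f) (p1.symm ▸ m1 :) (p2.symm ▸ m2 :) (p3.symm ▸ m3 :)
      (p4.symm ▸ m4 :) (p5.symm ▸ m5 :) (p6.symm ▸ m6 :) (p7.symm ▸ m7 :) m
  have h2 : 5 ∣ Nat.card Y := orderOf_eq_prime (x := ps * px * pa * pb) (p := 5) (by decide +kernel)
    (by decide +kernel) ▸ Y.orderOf_dvd_natCard (mul_mem (mul_mem (mul_mem m1 m6) m8) m9)
  have h3 : 7 ∣ Nat.card Y := orderOf_eq_prime (x := py * px * pb) (p := 7) (by decide +kernel)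
    (by decide +kernel) ▸ Y.orderOf_dvd_natCard (mul_mem (mul_mem m2 m6) m9)
  obtain ⟨k, hk⟩ := Nat.Coprime.mul_dvd_of_dvd_of_dvd (by norm_num)
    (Nat.Coprime.mul_dvd_of_dvd_of_dvd (by norm_num) h1 h2) h3
  have h4 := Y.card_mul_index
  rw [card_A8, hk] at h4
  have h5 : Y.index ≤ 3 := Nat.le_of_dvd (by norm_num) ⟨k, by nlinarith⟩
  have := alternatingGroup.isSimpleGroup (α := Fin 8) (by simp)
  rcases Y.normalCore_normal.eq_bot_or_eq_top with e | e
  · have h6 := Nat.le_of_dvd (Nat.factorial_pos _) (index_normalCore_dvd_factorial Y)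
    rw [e, index_bot, card_A8] at h6
    have := Nat.factorial_le h5
    simp [Nat.factorial] at this
    omega
  · exact top_le_iff.1 (e.ge.trans Y.normalCore_le)

end E8

namespace CA

variable (h : CA f a b)
include h

theorem sat : Sat (vals (f s) (f y0) (f y1) (f z0) (f z1) (f x) (f r) a b) rels8 := by
  obtain ⟨ψ, p0, p1, p2, p3, p4, p5, p6, p7⟩ := exists_sw
  have hb : Al (f.comp ψ s) (f.comp ψ y0) (f.comp ψ y1) (f.comp ψ z0) (f.comp ψ r) b := by
    simpa only [MonoidHom.comp_apply, p1, p2, p3, p4, p7] using h.hb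
  have c1 := h.ha.cube h.toBase
  have c2 := hb.cube (h.aut p0 p1)
  have c3 := h.ha.four h.toBase
  have c4 := hb.four (h.aut p0 p1)
  simp only [MonoidHom.comp_apply, p5, p6, p7] at c2 c4
  obtain ⟨a1, a2, a3, a4, a5, a6⟩ := h.ha
  obtain ⟨b1, b2, b3, b4, b5, b6⟩ := h.hb
  have ab := h.ab
  rw [← mul_inv_eq_one] at a2 a3 a4 a5 a6 b2 b3 b4 b5 b6 ab
  have h0 := (((rel0 false).map f).sat a b).2
  refine ⟨rfl, fun w hw => ?_⟩
  rw [show rels8 = relsA ++ rels8.drop 26 from rfl, List.mem_append] at hw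
  refine hw.elim (h0 w) ?_
  clear hw
  revert w
  simp only [pow_succ, pow_zero, one_mul, mul_assoc, mul_inv_rev] at *
  simp only [rels8, List.drop, List.mem_cons, List.not_mem_nil, or_false, forall_eq_or_imp,
    forall_eq, wval_cons, wval_nil, mul_one, sval]
  exact ⟨a1, a2, a3, a4, a5, a6, c1, b1, b2, b3, b4, b5, b6, c2, ab, c3, c4⟩

theorem exists_A8 : ∃ H : Subgroup G, Nonempty (H ≃* A8) ∧ (∀ m, f m ∈ H) ∧ a ∈ H ∧ b ∈ H := by
  obtain ⟨ψ, h1, h2⟩ := exists_hom_of_bound (n := 9) h.sat E8.sat E8.gen fun h3 => by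
    rw [card_A8]; exact bound8 h3
  have h3 := alt_injective (by norm_num) (ψ := ψ) (x := E8.ps) fun e =>
    h.s1 ((h2 1 (by omega) (by omega)).symm.trans e)
  have m := fun i => mem_Gen (n := 9) (vals (f s) (f y0) (f y1) (f z0) (f z1) (f x) (f r) a b)
    (a := i)
  rw [← h1] at m
  exact ⟨ψ.range, ⟨(MonoidHom.ofInjective h3).symm⟩, le_of_gens (K := ψ.range.comap f)
    (m 1 (by omega) (by omega)) (m 2 (by omega) (by omega)) (m 3 (by omega) (by omega))
    (m 4 (by omega) (by omega)) (m 5 (by omega) (by omega)) (m 6 (by omega) (by omega))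
    (m 7 (by omega) (by omega)), m 8 (by omega) (by omega), m 9 (by omega) (by omega)⟩

end CA

end CfsgH3.X32
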