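import Cfsg.Agent.H3.X32Base

set_option autoImplicit false

/-! The `M₁₂` case: the second centralizer and the group order. -/

namespace CfsgH3.X32

open Subgroup CfsgH5 CfsgH6 CfsgFT CfsgH7

universe u
variable {G : Type u} [Group G] {τ : Bool}

theorem sylIn_of_N [Finite G] {p : ℕ} [Fact p.Prime] {S K : Subgroup G} (h1 : S ≤ K)
    (h2 : IsPGroup p S) (h : ∀ g ∈ K, (∃ k, g ^ p ^ k = 1) → g ∈ N S → g ∈ S) : SylIn p S K := by
  obtain ⟨P, h3, h4⟩ := exists_sylIn_ge h1 h2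
  rcases h3.eq_or_lt with e | e
  · exact e ▸ h4
  · obtain ⟨g, g0, g1, g2⟩ := exists_nrm_of_lt h4.isPGroup e
    obtain ⟨k, hk⟩ := h4.isPGroup ⟨g, g0⟩
    exact absurd (h g (h4.le g0) ⟨k, congrArg Subtype.val hk⟩ g2) g1

/-- the involution in a cyclic group -/
def iv (w : M τ) : M τ :=
  if w * w = 1 then w else if w * w * (w * w) = 1 then w * w else
    if w * w * w * (w * w * w) = 1 then w * w * w else w * w * (w * w)

theorem iv_mem (w : M τ) : iv w ∈ zpowers w := by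
  have := mem_zpowers w
  unfold iv
  split_ifs <;> repeat first | assumption | apply mul_mem

theorem fiv : ∀ τ, ∀ w : M τ, iv w * iv w = 1 ∧ (iv w = 1 → w * w * w = 1) := by decide +kernel

theorem mem_zp_iff {w z : M τ} (z1 : z ≠ 1) (z2 : z * z = 1) : z ∈ zpowers w ↔ iv w = z := by
  refine ⟨fun h => ?_, fun h => h ▸ iv_mem w⟩
  by_cases e : iv w = 1
  · obtain ⟨k, rfl⟩ := h
    refine absurd ?_ z1
    have h3 : (w ^ k) ^ 3 = 1 := by
      rw [← zpow_natCast, ← zpow_mul, mul_comm, zpow_mul, zpow_natCast, pow_three',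
        (fiv τ w).2 e, one_zpow]
    rwa [pow_three', z2, one_mul] at h3
  · exact invol_unique h (iv_mem w) z1 z2 e (fiv τ w).1

theorem map_mem_zp {H : Type*} [Group H] {f : H →* G} (hf : Function.Injective f) {w z : H} :
    f z ∈ zpowers (f w) ↔ z ∈ zpowers w := by
  rw [← MonoidHom.map_zpowers, mem_map_iff_mem hf]

theorem Base.cube [Finite G] {f : M τ →* G} (h : Base f) {a u : G} (hu : IsConj (f s) u)
    (au : a * u = u * a) (ho : ¬ 2 ∣ orderOf a) : a * a * a = 1 := by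
  obtain ⟨g, rfl⟩ := isConj_iff.1 hu
  have h' := h.conj g
  obtain ⟨a, rfl⟩ := h'.cent a au
  rw [← map_mul, ← map_mul, (fiv τ a).2 ?_, map_one]
  by_contra e
  rw [orderOf_injective _ h'.inj] at ho
  exact ho (orderOf_eq_two (fiv τ a).1 e ▸ orderOf_dvd_of_mem_zpowers (iv_mem a))

def pZ (m : M τ) : Prop := m.w = 0 ∧ 8 ≤ m.q.val ∧ m * m = 1
instance : DecidablePred (pZ (τ := τ)) := fun _ => inferInstanceAs (Decidable (_ ∧ _))
def pV (m : M τ) : Prop := m = 1 ∨ m = s ∨ m = y0 ∨ m = s * y0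
instance : DecidablePred (pV (τ := τ)) := fun _ => inferInstanceAs (Decidable (_ ∨ _))
def pY (m : M τ) : Prop := m.w = 0 ∧ m.q.val % 16 < 4
instance : DecidablePred (pY (τ := τ)) := fun _ => inferInstanceAs (Decidable (_ ∧ _))

theorem fM1 : ∀ m : M true, m * m = 1 → m = 1 ∨ pZ m ∨ m = s ∨
    ∃ k : M true, k * y0 * k⁻¹ = m ∨ k * r * k⁻¹ = m := by decide +kernel
theorem fM2 : ∀ m : M true, pZ m → (∃ k : M true, k * m * k⁻¹ = z0) ∧
    (m * y0 = y0 * m → ∃ k : M true, k * y0 = y0 * k ∧ k * m * k⁻¹ = z0) := by decide +kernel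
theorem fM3 : ∀ a : M true, a * z0 = z0 * a → a * a * (a * a) = 1 ∧
    (pY (a * z0) ∨ pY a) ∧ (pV a ∨ pV (a * z0) ∨ pV (a * z1) ∨ pV (a * (z1 * z0))) ∧
    ∀ b, b * z0 = z0 * b → cm a b = 1 ∨ cm a b = s := by decide +kernel
theorem fM4 : ∀ m : M true, m.w = 0 → m * m = 1 → m ≠ 1 → m ≠ s → pZ m ∨
    ∃ k : M true, k * y0 * k⁻¹ = m := by decide +kernel
theorem fM5 : pZ (z0 : M true) ∧ pZ (z1 : M true) ∧ pZ (z1 * z0 : M true) ∧ pZ (z0 * s : M true) ∧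
    (z0 : M true) ≠ s ∧ (z0 : M true) ≠ 1 ∧ ¬ pY (z0 : M true) ∧ (z1 : M true) * z0 = z0 * z1 ∧
    (y0 : M true) * z0 = z0 * y0 ∧ cm (y0 : M true) z1 = s ∧ (z1 : M true) * y0 * z1⁻¹ = y0 * s ∧
    (z1 * z0 : M true) * z0 = z0 * (z1 * z0) ∧ (z1 * z0 : M true) * z0 = z1 ∧
    (y0 : M true) * y0 = 1 ∧ (y0 : M true) ≠ 1 ∧ (s : M true) ≠ y0 := by decide +kernel
theorem fM6 : ∀ m : M true, pV m → m ≠ 1 → m * m = 1 ∧ ¬ pZ m ∧ ¬ pV (z0 * m) := by
  decide +kernel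
theorem pY_aux : pY (1 : M true) ∧ ∀ a : M true, pY a → ∀ b, pY b → pY (a * b⁻¹) := by
  decide +kernel
theorem fM7 : ∀ m : M true, m * m = 1 → m ≠ 1 → ¬ pZ m →
    (Finset.univ.filter fun n => pZ n ∧ iv (m * n) = s).card = if m = s then 0 else 8 := by
  decide +kernel
theorem fM8 : ((Finset.univ.filter fun m : M true => m * m = 1 ∧ m ≠ 1).filter pZ).card = 12 ∧
    ∑ m ∈ (Finset.univ.filter fun m : M true => m * m = 1 ∧ m ≠ 1).filter (¬ pZ ·),
      (if m = s then 0 else 8) = 240 := by decide +kernel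
theorem card_D0 : Nat.card (C1 (z0 : M true)) = 16 := by
  rw [card_of_pred (fun m => m * z0 = z0 * m) fun _ => mem_C1]; decide +kernel

theorem Base.nz {f : M true →* G} (h : Base f) {m : M true} (hm : pZ m) :
    ¬ IsConj (f s) (f m) := fun hc => by
  obtain ⟨k, hk⟩ := (fM2 m hm).1
  obtain ⟨g, hg⟩ := isConj_iff.1 (hc.trans (isConj_iff.2 ⟨f k, by
    rw [← map_inv, ← map_mul, ← map_mul, hk]⟩))
  obtain ⟨v, v0, v2, v1, vs, hv⟩ := h.step fM5.1.1 fM5.1.2.2 fM5.2.2.2.2.1 hg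
  obtain ⟨a, b, ha, hb, hab⟩ := (fsq true v v0 v2 v1 vs).2
  have key : ∀ a : M true, a * v = v * a → ∃ c, c * z0 = z0 * c ∧ f c = g * f a * g⁻¹ :=
    fun a ha => by
      obtain ⟨c, hc⟩ := h.cent (g * f a * g⁻¹) (by
        rw [← hv, conj_mul, conj_mul, ← map_mul, ha, map_mul])
      exact ⟨c, h.comm (by rw [hc, ← hg, conj_mul, conj_mul, Base.sc]), hc⟩
  obtain ⟨c, c1, c2⟩ := key _ ha
  obtain ⟨d, d1, d2⟩ := key _ hb
  have e : cm c d = z0 := h.eq (by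
    rw [map_cm, c2, d2, ← hg, ← hab, map_cm]; unfold cm; group)
  rcases (fM3 c c1).2.2.2 d d1 with e' | e' <;> rw [e] at e'
  exacts [fM5.2.2.2.2.2.1 e', fM5.2.2.2.2.1 e']

/-- the `M₁₂` fusion pattern -/
structure CM (f : M true →* G) : Prop extends Base f where
  fus : IsConj (f s) (f y0)
  fr : IsConj (f s) (f r)

namespace CM

variable {f : M true →* G} (h : CM f)
include h

theorem conj_s {m : M true} (m2 : m * m = 1) (m1 : m ≠ 1) (hm : ¬ pZ m) : IsConj (f s) (f m) := by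
  rcases fM1 m m2 with e | e | rfl | ⟨k, rfl | rfl⟩
  · exact absurd e m1
  · exact absurd e hm
  · exact IsConj.refl _
  · exact h.fus.trans (isConj_iff.2 ⟨f k, by simp⟩)
  · exact h.fr.trans (isConj_iff.2 ⟨f k, by simp⟩)

omit h in
theorem conj_t {m : M true} (hm : pZ m) : IsConj (f z0) (f m) := by
  obtain ⟨k, hk⟩ := (fM2 m hm).1
  exact (isConj_iff.2 ⟨f k, by rw [← hk]; simp⟩).symm

theorem nst : ¬ IsConj (f s) (f z0) := h.toBase.nz fM5.1

theorem pZ_of {m : M true} (e : IsConj (f z0) (f m)) : pZ m := by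
  obtain ⟨g, hg⟩ := isConj_iff.1 e
  by_contra hm
  exact h.nst ((h.conj_s (h.sq (by
    rw [← hg]; exact conj_mul_self (by rw [← map_mul, fM5.1.2.2, map_one]) g))
    (fun e => conj_ne_one (h.ne fM5.2.2.2.2.2.1) g (by rw [hg, e, map_one])) hm).trans e.symm)

theorem four : Four (f s) (f y0) := by
  obtain ⟨-, -, -, -, -, -, -, -, -, -, -, -, -, e1, e2, e3⟩ := fM5
  exact ⟨Base.s2, by rw [← map_mul, e1, map_one], (Base.sc _).symm, h.s1, h.ne e2,
    fun e => e3 (h.eq e)⟩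

theorem mem_V {m : M true} : f m ∈ h.four.V ↔ pV m := by
  rw [Four.mem_V, ← map_mul, ← map_one f]
  simp only [h.inj.eq_iff]
  rfl

theorem exists_swap : ∃ g, g * f s * g⁻¹ = f y0 ∧ g * f y0 * g⁻¹ = f s ∧ g * f z0 * g⁻¹ = f z0 := by
  obtain ⟨g, hg⟩ := isConj_iff.1 h.fus
  obtain ⟨-, -, -, -, -, -, -, -, e0, -, -, -, -, e1, e2, e3⟩ := fM5
  obtain ⟨v, v0, v2, v1, vs, hv⟩ := h.step rfl e1 e3.symm hg
  obtain ⟨k, rfl⟩ := (fM4 v v0 v2 v1 vs).resolve_left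
    fun e => h.nz e (isConj_iff.2 ⟨g, hv⟩).symm
  have h1 : g * f k * f s * (g * f k)⁻¹ = f y0 := by rw [← hg, mul_assoc g, Base.sc]; group
  have h2 : g * f k * f y0 * (g * f k)⁻¹ = f s := by rw [← hv]; simp [mul_assoc]
  generalize g * f k = g' at h1 h2
  obtain ⟨b, hb⟩ := h.cent (g' * f z0 * g'⁻¹) (by
    rw [← h2, conj_mul, conj_mul, ← map_mul, ← e0, map_mul])
  obtain ⟨l, l1, l2⟩ := (fM2 b (h.pZ_of (isConj_iff.2 ⟨g', hb.symm⟩))).2
    (h.comm (by rw [hb, ← h1, conj_mul, conj_mul, Base.sc]))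
  have e : ∀ a, f l * g' * a * (f l * g')⁻¹ = f l * (g' * a * g'⁻¹) * (f l)⁻¹ := fun a => by group
  refine ⟨f l * g', ?_, ?_, ?_⟩ <;> rw [e]
  · rw [h1, ← map_mul, l1, map_mul, mul_inv_cancel_right]
  · rw [h2, Base.sc, mul_inv_cancel_right]
  · rw [← hb, ← l2]; simp

theorem mem_D {g : G} (h1 : g ∈ C1 (f z0)) (h2 : g * f s = f s * g) : g ∈ (C1 z0).map f := by
  obtain ⟨m, rfl⟩ := h.cent g h2
  exact ⟨m, mem_C1.2 (h.comm (mem_C1.1 h1)), rfl⟩

omit h in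
theorem D_le : (C1 z0).map f ≤ C1 (f z0) := by
  rintro _ ⟨m, hm, rfl⟩
  exact mem_C1.2 (by rw [← map_mul, mem_C1.1 hm, map_mul])

theorem exists_rho : ∃ ρ ∈ res 2 (C1 (f z0)), ρ * f s * ρ⁻¹ = f y0 ∧
    ρ * f y0 * ρ⁻¹ = f s * f y0 := by
  obtain ⟨g, h1, h2, h3⟩ := h.exists_swap
  obtain ⟨-, -, -, -, -, -, -, e0, -, -, e1, -⟩ := fM5
  have w0 : g * f z1 ∈ C1 (f z0) := mul_mem (mem_C1_iff_conj.2 h3) (D_le ⟨_, mem_C1.2 e0, rfl⟩)
  have w1 : g * f z1 * f s * (g * f z1)⁻¹ = f y0 := by rw [← h1, mul_assoc g, Base.sc]; group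
  have w2 : g * f z1 * f y0 * (g * f z1)⁻¹ = f s * f y0 := by
    calc _ = g * f (z1 * y0 * z1⁻¹) * g⁻¹ := by simp [mul_assoc]
      _ = _ := by rw [e1, map_mul, cjm, h1, h2]
  generalize g * f z1 = w at w0 w1 w2
  have e : ∀ a, w ^ 3 * a * (w ^ 3)⁻¹ = w * (w * (w * a * w⁻¹) * w⁻¹) * w⁻¹ := fun a => by
    simp [pow_succ, mul_assoc]
  have w3 : w ^ 3 * f s * (w ^ 3)⁻¹ = f s := by rw [e, w1, w2, cjm w (f s), w1, w2, h.four.l2]
  obtain ⟨m, hm, w4⟩ := h.mem_D (pow_mem w0 3) (mul_inv_eq_iff_eq_mul.1 w3)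
  have w5 : (w ^ 4) ^ 3 = 1 := by
    rw [← pow_mul, mul_comm, pow_mul, ← w4, ← map_pow, show 4 = 2 * 2 from rfl, pow_mul, pow_two,
      pow_two, (fM3 m (mem_C1.1 hm)).1, map_one]
  have e' : ∀ a, w ^ 4 * a * (w ^ 4)⁻¹ = w * (w ^ 3 * a * (w ^ 3)⁻¹) * w⁻¹ := fun a => by
    simp [pow_succ, mul_assoc]
  refine ⟨w ^ 4, mem_res (pow_mem w0 4) (Nat.Coprime.coprime_dvd_left
    (orderOf_dvd_of_pow_eq_one w5) (by norm_num)), by rw [e', w3, w1], ?_⟩
  rw [e', e, w2, cjm w (f s), w1, w2, h.four.l2, w1, w2]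

variable [Finite G]

theorem sylD : SylIn 2 ((C1 z0).map f) (C1 (f z0)) := by
  refine sylIn_of_N D_le (IsPGroup.of_card (n := 4) (by rw [h.card_map, card_D0]; rfl))
    fun g hg _ hn => h.mem_D hg ?_
  obtain ⟨-, -, -, -, -, -, -, e0, e1, e2, -⟩ := fM5
  obtain ⟨a, ha, a1⟩ := CfsgH6.nrm_normalizer _ g hn _ ⟨y0, mem_C1.2 e1, rfl⟩
  obtain ⟨b, hb, b1⟩ := CfsgH6.nrm_normalizer _ g hn _ ⟨z1, mem_C1.2 e0, rfl⟩
  have e : g * f s * g⁻¹ = f (cm a b) := by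
    rw [map_cm, a1, b1, ← e2, map_cm]; unfold cm; group
  rcases (fM3 a (mem_C1.1 ha)).2.2.2 b (mem_C1.1 hb) with e' | e' <;> rw [e'] at e
  · exact absurd (e.trans (map_one f)) (conj_ne_one h.s1 g)
  · exact mul_inv_eq_iff_eq_mul.1 e

theorem V_le : h.four.V ≤ res 2 (C1 (f z0)) := by
  obtain ⟨ρ, h0, h1, h2⟩ := h.exists_rho
  have hn : Nrm (C1 (f z0)) (res 2 (C1 (f z0))) := (Nrm.self _).res 2
  have h3 : f y0 * f s ∈ res 2 (C1 (f z0)) := by
    have := mul_mem h0 (hn (f s) (mem_C1.2 (Base.sc _).symm) _ (inv_mem h0))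
    rwa [inv_eq_self Base.s2, ← mul_assoc, ← mul_assoc, h1] at this
  have h4 := mul_mem (mul_mem h0 h3) (inv_mem h0)
  rw [cjm, h1, h2, h.four.l4] at h4
  exact h.four.V_le h4 ((mul_mem_cancel_right h4).1 h3)

theorem t_not : f z0 ∉ res 2 (C1 (f z0)) := by
  have t2 : f z0 * f z0 = 1 := by rw [← map_mul, fM5.1.2.2, map_one]
  refine not_mem_res (Y := (sub pY pY_aux).map f) h.sylD ⟨z0, self_mem_C1 _, rfl⟩ ?_
    (fun g _ => by rw [t2]; simp) fun g hg _ => ?_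
  · rintro _ ⟨m, hm, rfl⟩ -
    exact (fM3 m (mem_C1.1 hm)).2.1.imp (fun e => ⟨_, e, map_mul f _ _⟩) fun e => ⟨_, e, rfl⟩
  · rw [mem_C1_iff_conj.1 hg, mem_map_iff_mem h.inj]
    exact fM5.2.2.2.2.2.2.1

theorem inf_res : (C1 z0).map f ⊓ res 2 (C1 (f z0)) = h.four.V := by
  obtain ⟨-, p1, p2, -, -, -, -, e0, e1, -, -, e2, e3, -⟩ := fM5
  have hV := fun m (e : pV m) => h.V_le (h.mem_V.2 e)
  have key : ∀ a : M true, pZ a → a * z0 = z0 * a → (∀ m, m * z0 = z0 * m → pV m ∨ pV (m * z0) ∨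
      pV (m * a) ∨ pV (m * (a * z0))) → f a ∉ res 2 (C1 (f z0)) := fun a a1 a2 a3 ha => by
    refine not_mem_res (Y := h.four.V) h.sylD ⟨a, mem_C1.2 a2, rfl⟩ ?_
      (fun g _ => by rw [← map_mul, a1.2.2]; simp) (fun g _ _ e => ?_) ha
    · rintro _ ⟨m, hm, rfl⟩ hm'
      rcases a3 m (mem_C1.1 hm) with e | e | e | e
      · exact Or.inr (h.mem_V.2 e)
      · have := hV _ e
        rw [map_mul, mul_mem_cancel_left hm'] at this
        exact absurd this h.t_not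
      · exact Or.inl (map_mul f m a ▸ h.mem_V.2 e)
      · have := hV _ e
        rw [map_mul, map_mul, mul_mem_cancel_left hm', mul_mem_cancel_left ha] at this
        exact absurd this h.t_not
    · obtain ⟨m, hm⟩ := h.cent _ (h.four.comm e h.four.aV)
      rw [← hm, h.mem_V] at e
      have e' := h.pZ_of ((conj_t a1).trans (isConj_iff.2 ⟨g, hm.symm⟩))
      exact (fM6 m e fun e1 => by rw [e1] at e'; exact absurd e' (by decide +kernel)).2.1 e'
  refine le_antisymm ?_ (le_inf (h.four.V_le ⟨s, mem_C1.2 (s_cen _ _).symm, rfl⟩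
    ⟨y0, mem_C1.2 e1, rfl⟩) h.V_le)
  rintro _ ⟨⟨m, hm, rfl⟩, hm0⟩
  have hm' : f m ∈ res 2 (C1 (f z0)) := hm0
  rcases (fM3 m (mem_C1.1 hm)).2.2.1 with e | e | e | e
  · exact h.mem_V.2 e
  all_goals have := hV _ e; rw [map_mul, mul_mem_cancel_left hm'] at this
  · exact absurd this h.t_not
  · exact absurd this (key _ p1 e0 fun m hm => (fM3 m hm).2.2.1)
  · exact absurd this (key _ p2 e2 fun m hm => by
      rw [e3]; rcases (fM3 m hm).2.2.1 with e | e | e | e <;> simp [e])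

theorem f4 : ∃ ρ, F4 (res 2 (C1 (f z0))) h.four ρ := by
  obtain ⟨ρ, h0, h1, h2⟩ := h.exists_rho
  exact ⟨ρ, h.V_le h.four.aV, h0, h1, h2, fun g hg e =>
    h.inf_res.le ⟨h.mem_D (res_le _ _ hg) e, hg⟩⟩

theorem cnt_s {m : M true} (m2 : m * m = 1) (m1 : m ≠ 1) (hm : ¬ pZ m) :
    {v | v ∈ {v | IsConj (f z0) v} ∧ f m ∈ zpowers (f s * v)}.ncard = if m = s then 0 else 8 := by
  obtain ⟨k, hk⟩ := isConj_iff.1 (h.conj_s m2 m1 hm).symm
  obtain ⟨n, hn⟩ := h.cent (k * f s * k⁻¹) (by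
    nth_rewrite 2 3 [← hk]
    rw [conj_mul, conj_mul, Base.sc])
  have n2 : n * n = 1 := h.sq (hn ▸ conj_mul_self Base.s2 k)
  have e : m = s ↔ n = s := ⟨fun e => h.eq (by rw [hn, ← e, hk, e]), fun e => h.eq (by
    rw [e] at hn
    simpa using hk.trans hn)⟩
  rw [if_congr e rfl rfl, ← fM7 n n2 (fun e => conj_ne_one h.s1 k (by rw [← hn, e, map_one]))
    (fun e => h.nz e (isConj_iff.2 ⟨k, hn.symm⟩)), ← Set.ncard_coe_finset,
    ← Set.ncard_image_of_injective _ h.inj]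
  refine ncard_conj k fun v => ?_
  rw [Set.mem_setOf_eq, ← conj_mem_zpowers (g := k), hk, cjm, ← hn]
  refine ⟨fun ⟨v1, v2⟩ => ?_, fun ⟨a, a1, a2⟩ => ?_⟩
  · have v3 := v1.trans (isConj_iff.2 ⟨k, rfl⟩)
    generalize k * v * k⁻¹ = w at v2 v3
    obtain ⟨c, rfl⟩ := isConj_iff.1 v3
    obtain ⟨a, ha⟩ := h.cent _ (comm_of_mem_zpowers (by rw [← map_mul, n2, map_one])
      (conj_mul_self (by rw [← map_mul, fM5.1.2.2, map_one]) c) v2 Base.s2).2.symm
    rw [← ha] at v2 v3 ⊢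
    rw [← map_mul, map_mem_zp h.inj, mem_zp_iff (s_ne _) (s_sq _)] at v2
    exact ⟨a, by simpa using ⟨h.pZ_of v3, v2⟩, rfl⟩
  · simp only [Finset.coe_filter, Finset.mem_univ, true_and, Set.mem_setOf_eq] at a1
    rw [← a2, ← map_mul, map_mem_zp h.inj, mem_zp_iff (s_ne _) (s_sq _)]
    exact ⟨(conj_t a1.1).trans (isConj_iff.2 ⟨k, a2.symm⟩).symm, a1.2⟩

theorem cnt_t : {v | v ∈ {v | IsConj (f z0) v} ∧ f z0 ∈ zpowers (f s * v)}.ncard + 2 =
    {u | u ∈ res 2 (C1 (f z0)) ∧ u ≠ 1 ∧ u * u = 1}.ncard := by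
  obtain ⟨ρ, H⟩ := h.f4
  have hn : Nrm (C1 (f z0)) (res 2 (C1 (f z0))) := (Nrm.self _).res 2
  have hle := res_le 2 (C1 (f z0))
  have t2 : f z0 * f z0 = 1 := by rw [← map_mul, fM5.1.2.2, map_one]
  have ts : IsConj (f z0) (f z0 * f s) := map_mul f _ _ ▸ conj_t fM5.2.2.2.1
  have t1 := h.t_not
  have hV := h.four
  have s2 := hV.a2
  have sO := H.aO
  generalize f z0 = t at *
  have c1 : ∀ g ∈ res 2 (C1 t), g * t = t * g := fun g hg => mem_C1.1 (hle hg)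
  have h1 : ({f y0, f s * f y0} : Set G).ncard = 2 :=
    Set.ncard_pair fun e => hV.a1 (mul_eq_right.1 e.symm)
  rw [← Set.ncard_diff_add_ncard_of_subset (s := {f y0, f s * f y0})
      (t := {u | u ∈ res 2 (C1 t) ∧ u ≠ 1 ∧ u * u = 1}) (by
      rintro _ (rfl | rfl)
      · exact ⟨H.le hV.bV, hV.b1, hV.b2⟩
      · exact ⟨H.le (mul_mem hV.aV hV.bV), hV.c1, hV.c2⟩), h1,
    ← Set.ncard_image_of_injective _ (mul_right_injective t)]
  congr 2
  ext b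
  refine ⟨?_, fun ⟨⟨b0, b1, b2⟩, b3⟩ => ⟨t * b, ⟨?_, ?_⟩, by
    show t * (t * b) = b
    rw [← mul_assoc, t2, one_mul]⟩⟩
  · rintro ⟨v, ⟨v1, v2⟩, rfl⟩
    obtain ⟨c, hc⟩ := isConj_iff.1 v1
    have v3 : v * v = 1 := hc ▸ conj_mul_self t2 c
    have v4 := (comm_of_mem_zpowers s2 v3 v2 t2).2
    have v5 : f s * v * (f s * v) ∈ res 2 (C1 t) := by
      have := mul_mem sO (hn v (mem_C1.2 v4.symm) _ sO)
      rwa [inv_eq_self v3, ← mul_assoc, ← mul_assoc, mul_assoc _ (f s)] at this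
    have v6 : t * v ∈ res 2 (C1 t) := by
      obtain ⟨k, hk⟩ := mem_powers_iff_mem_zpowers.2 v2
      rcases Nat.even_or_odd' k with ⟨j, rfl | rfl⟩ <;> beta_reduce at hk
      · rw [pow_mul, pow_two] at hk
        exact absurd (hk ▸ pow_mem v5 j) t1
      · rw [pow_succ, pow_mul, pow_two] at hk
        nth_rewrite 2 [← hk]
        rw [mul_assoc _ (f s * v) v, mul_assoc (f s) v v, v3, mul_one]
        exact mul_mem (pow_mem v5 j) sO
    have v7 : ∀ w ∈ hV.V, w ≠ f s → t * v ≠ w := fun w hw w1 e => by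
      have e1 : f s * v = t * (f s * w) := by
        rw [← e, ← mul_assoc, ← c1 _ sO, mul_assoc, ← mul_assoc t, t2, one_mul]
      have e2 := mul_mem hV.aV hw
      rw [e1] at v2
      rcases mem_zpowers_order_two' (by
        rw [mul_assoc, ← mul_assoc _ t, c1 _ (H.le e2), mul_assoc, hV.sq e2, mul_one, t2]) v2
        with e3 | e3
      · exact t1 (e3 ▸ one_mem _)
      · rw [left_eq_mul, mul_eq_one_iff_inv_eq, inv_eq_self s2] at e3
        exact w1 e3.symm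
    refine ⟨⟨v6, v7 1 (one_mem _) hV.a1.symm, by
      rw [mul_assoc, ← mul_assoc v, ← v4, mul_assoc, v3, mul_one, t2]⟩, ?_⟩
    rintro (e | e)
    · exact v7 _ hV.bV hV.ne.symm e
    · exact v7 _ (mul_mem hV.aV hV.bV) (fun e => hV.b1 (mul_eq_left.1 e)) e
  · obtain ⟨k, hk, rfl⟩ := H.invol b0 b1 b2
    exact ts.trans (isConj_iff.2 ⟨k, by rw [cjm, c1 k hk, mul_inv_cancel_right]⟩)
  · rcases exists_zp s2 b2 with ⟨k, e, -⟩ | ⟨z, hz, z1, z2⟩
    · refine ⟨(2 * k + 1 : ℕ), ?_⟩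
      have : Commute (f s * b) t := c1 _ (mul_mem sO b0)
      beta_reduce
      rw [zpow_natCast, ← c1 b b0, ← mul_assoc, this.mul_pow, e, one_mul, pow_succ, pow_mul,
        pow_two, t2, one_pow, one_mul]
    · obtain ⟨z3, z4⟩ := comm_of_mem_zpowers s2 b2 hz z2
      rcases H.cent' (H.cent z (zpowers_le.2 (mul_mem sO b0) hz) z3) z1 b0 z4.symm with
        e | e | e | e
      · exact absurd e b1
      · rw [e, s2, zpowers_one_eq_bot] at hz
        exact absurd hz z1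
      · exact absurd (Or.inl e) b3
      · exact absurd (Or.inr e) b3

theorem card : Nat.card G = 12096 ∨ Nat.card G = 95040 := by
  have t2 : f z0 * f z0 = 1 := by rw [← map_mul, fM5.1.2.2, map_one]
  have h1 := thompson_count h.inj Base.s2 h.cent (P := {v | IsConj (f z0) v}) fun v hv => by
    obtain ⟨c, rfl⟩ := isConj_iff.1 hv
    exact ⟨conj_mul_self t2 c, fun e => h.nst (e.trans hv.symm)⟩
  rw [← Finset.sum_filter_add_sum_filter_not _ pZ, Finset.sum_congr rfl (g := fun _ =>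
      {v | v ∈ {v | IsConj (f z0) v} ∧ f z0 ∈ zpowers (f s * v)}.ncard) fun m hm => by
      obtain ⟨k, hk⟩ := (fM2 m (Finset.mem_filter.1 hm).2).1
      refine ncard_conj (f k) fun v => and_congr
        ⟨fun e => IsConj.trans e (isConj_iff.2 ⟨_, rfl⟩),
          fun e => IsConj.trans e (isConj_iff.2 ⟨_, rfl⟩).symm⟩ ?_
      rw [← conj_mem_zpowers (g := f k), cjm, Base.sc, mul_inv_cancel_right, ← hk]
      simp,
    Finset.sum_const, fM8.1, Finset.sum_congr rfl (g := fun m => if m = s then 0 else 8)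
      fun m hm => by
      simp only [Finset.mem_filter, Finset.mem_univ, true_and] at hm
      exact h.cnt_s hm.1.1 hm.1.2 hm.2, fM8.2, smul_eq_mul] at h1
  have h2 := class_mul ⊤ (f z0) (P := {v | IsConj (f z0) v}) fun y =>
    isConj_iff.trans ⟨fun ⟨g, e⟩ => ⟨g, trivial, e⟩, fun ⟨g, _, e⟩ => ⟨g, e⟩⟩
  have h3 := card_res h.sylD
  obtain ⟨ρ, H⟩ := h.f4
  have h4 := H.ncard_invol
  have h5 := h.cnt_t
  rw [h.inf_res, h.four.card, h.card_map, card_D0] at h3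
  rw [top_inf_eq, card_top, h1] at h2
  rcases H.cases with e | ⟨e, -⟩
  · have h6 := H.card_N
    rw [inf_eq_left.2 e] at h6
    rw [show Nat.card (C1 (f z0)) = 48 by omega] at h2
    omega
  · rw [show Nat.card (C1 (f z0)) = 240 by omega] at h2
    omega

end CM

end CfsgH3.X32
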