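import Cfsg.Agent.H3.X32A1
import Cfsg.Agent.H3.X32M1

set_option autoImplicit false

/-! The alternating case: the second centralizer. -/

namespace CfsgH3.X32

open Subgroup CfsgH5 CfsgH6 CfsgFT CfsgH7

universe u
variable {G : Type u} [Group G]

def t0 : M false := y0 * z0
def t1 : M false := s * z0 * r
def q0 : M false := y1 * z1
def e0 : M false := q0 * t1
def u0 : M false := s * t0
def u1 : M false := t0 * r

def cT (m : M false) : Prop :=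
  Nat.testBit 1724107551323229327433590138955403411225351571247205376 (m.q.val + 32 * m.w.val) = true
instance : DecidablePred cT := fun _ => inferInstanceAs (Decidable (_ = _))
def pU (m : M false) : Prop := m = 1 ∨ m = u0 ∨ m = u1 ∨ m = u0 * u1
instance : DecidablePred pU := fun _ => inferInstanceAs (Decidable (_ ∨ _))
def pW (m : M false) : Prop := pU m ∨ pU (m * t0)
instance : DecidablePred pW := fun _ => inferInstanceAs (Decidable (_ ∨ _))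
def pF (m : M false) : Prop := m.w = 0 ∧ m.q.val / 2 % 5 = 0
instance : DecidablePred pF := fun _ => inferInstanceAs (Decidable (_ ∧ _))
def rel (m c : M false) : Prop := ∃ k, k * t0 = t0 * k ∧ pU (k * m * k⁻¹ * c)
instance (m c : M false) : Decidable (rel m c) := inferInstanceAs (Decidable (∃ _, _))
def pσ (m : M false) : M false := pu (pv (pa (pb m)))

theorem fC1 : ∀ m, cT m → m * m = 1 ∧ m ≠ 1 ∧ ∃ k, k * m * k⁻¹ = t0 ∨ k * m * k⁻¹ = u1 := by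
  decide +kernel
theorem fC2 : ∀ m, m * m = 1 → m ≠ 1 → ¬ cT m → m = s ∨ ∃ k, k * (s * y0) * k⁻¹ = m ∨
    k * (s * z0) * k⁻¹ = m ∨ k * (z0 * r) * k⁻¹ = m := by decide +kernel
theorem fC3 : ∀ m, m * t0 = t0 * m → (pA (m * q0) ∨ pA m) ∧
    (pW (m * e0) ∨ pW m ∨ rel m q0 ∨ rel (m * e0) q0) ∧
    (pW (m * t1) ∨ pW m ∨ rel m q0 ∨ rel m e0) ∧
    (pU (m * t0) ∨ pU m ∨ rel m q0 ∨ rel m e0 ∨ rel m t1) ∧ (m * q0 = q0 * m → pF m) ∧
    (m * u0 = u0 * m → m * u1 = u1 * m → pA m) := by decide +kernel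
theorem pA_aux : pA 1 ∧ ∀ a, pA a → ∀ b, pA b → pA (a * b⁻¹) := by decide +kernel
theorem pW_aux : pW 1 ∧ ∀ a, pW a → ∀ b, pW b → pW (a * b⁻¹) := by decide +kernel
theorem pF_aux : pF 1 ∧ ∀ a, pF a → ∀ b, pF b → pF (a * b⁻¹) := by decide +kernel
theorem fC4 : ∀ m, (pF m → (m = 1 ∨ m = s ∨ cT m) ∧ m * t0 = t0 * m ∧ m * q0 = q0 * m) ∧
    (pW m → m * m = 1 ∧ (cT m → ¬ cT (t0 * m))) ∧
    (pA m → pσ m = m → m = 1 ∨ m = t0 ∨ m = t1 ∨ m = t0 * t1) := by decide +kernel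
theorem fC5 : cT t0 ∧ cT t1 ∧ cT (t0 * t1) ∧ cT u0 ∧ cT u1 ∧ pA t0 ∧ pA t1 ∧ pA u0 ∧ pA u1 ∧
    t0 ≠ t1 ∧ u0 ≠ u1 ∧ q0 * t0 = t0 * q0 ∧ q0 * q0 = 1 ∧ e0 * t0 = t0 * e0 ∧ e0 * e0 = t0 ∧
    pW t0 ∧ ¬ pU t0 ∧ u0 * t0 = s ∧ q0 * t1 * q0⁻¹ = t0 * t1 := by decide +kernel
theorem card_R0 : Nat.card (C1 t0) = 32 := by
  rw [card_of_pred (fun m => m * t0 = t0 * m) fun _ => mem_C1]; decide +kernel

theorem Four.le_of_rho {a b ρ : G} (h : Four a b) {K O : Subgroup G} (hn : Nrm K O) (ha : a ∈ K)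
    (h0 : ρ ∈ O) (h1 : ρ * a * ρ⁻¹ = b) (h2 : ρ * b * ρ⁻¹ = a * b) : h.V ≤ O := by
  have h3 : b * a ∈ O := by
    have := mul_mem h0 (hn a ha _ (inv_mem h0))
    rwa [inv_eq_self h.a2, ← mul_assoc, ← mul_assoc, h1] at this
  have h4 := mul_mem (mul_mem h0 h3) (inv_mem h0)
  rw [cjm, h1, h2, h.l4] at h4
  exact h.V_le h4 ((mul_mem_cancel_right h4).1 h3)

namespace CA

variable {f : M false →* G} {a b : G} (h : CA f a b)
include h

theorem au1 : a * f u1 * a⁻¹ = f t0 :=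
  (h.ha.aca u1 (by decide +kernel)).2.trans (congrArg f (by decide +kernel))

section
variable {H : Subgroup G} (hf : ∀ m, f m ∈ H) (ha : a ∈ H) (hb : b ∈ H)
include hf ha

theorem fusT {m : M false} (hm : cT m) : ∃ k ∈ H, k * f m * k⁻¹ = f t0 ∧
    (k * f s * k⁻¹ = f s ∨ k * f s * k⁻¹ = f (s * y0)) := by
  obtain ⟨-, -, k, e | e⟩ := fC1 m hm
  · exact ⟨f k, hf k, by rw [← e]; simp, Or.inl (by rw [Base.sc, mul_inv_cancel_right])⟩
  · refine ⟨a * f k, mul_mem ha (hf k), by rw [← h.au1, ← e]; simp [mul_assoc], Or.inr ?_⟩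
    rw [← h.ha.conj, mul_assoc a, Base.sc]; group

include hb

theorem fusS {m : M false} (m2 : m * m = 1) (m1 : m ≠ 1) (hm : ¬ cT m) :
    ∃ k ∈ H, k * f s * k⁻¹ = f m := by
  have e : ∀ k c : G, k * c * f s * (k * c)⁻¹ = k * (c * f s * c⁻¹) * k⁻¹ := fun k c => by group
  have e1 : b * f s * b⁻¹ = f (s * z0) := map_mul f _ _ ▸ h.hb.as
  rcases fC2 m m2 m1 hm with rfl | ⟨k, rfl | rfl | rfl⟩
  · exact ⟨1, one_mem _, by simp⟩
  · exact ⟨f k * a, mul_mem (hf k) ha, by rw [e, h.ha.conj]; simp⟩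
  · exact ⟨f k * b, mul_mem (hf k) hb, by rw [e, e1]; simp⟩
  · refine ⟨f k * a * f y1 * b, mul_mem (mul_mem (mul_mem (hf k) ha) (hf _)) hb, ?_⟩
    rw [e, e1, show f k * a * f y1 * f (s * z0) * (f k * a * f y1)⁻¹ =
      f k * (a * f (y1 * (s * z0) * y1⁻¹) * a⁻¹) * (f k)⁻¹ by simp [mul_assoc],
      show (y1 * (s * z0) * y1⁻¹ : M false) = z0 by decide +kernel, h.ha.az]
    simp

theorem invH [Finite G] {w : G} (hw : w ∈ H) (w1 : w ≠ 1) (w2 : w * w = 1) :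
    (∃ k ∈ H, k * f s * k⁻¹ = w) ∨ ∃ k ∈ H, k * f t0 * k⁻¹ = w := by
  obtain ⟨k, hk, m, -, m2, rfl⟩ := h.invol hf hw w2
  by_cases hm : cT m
  · obtain ⟨l, hl, e, -⟩ := h.fusT hf ha hm
    exact Or.inr ⟨k * l⁻¹, mul_mem hk (inv_mem hl), by rw [← e]; group⟩
  · obtain ⟨l, hl, e⟩ := h.fusS hf ha hb m2 (fun e => w1 (by rw [e, map_one]; group)) hm
    exact Or.inl ⟨k * l, mul_mem hk hl, by rw [← e]; group⟩

end

theorem exists_rho : ∃ ρ, ρ ^ 3 = 1 ∧ Ac f ρ pσ ∧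
    ∀ H : Subgroup G, (∀ m, f m ∈ H) → a ∈ H → b ∈ H → ρ ∈ H := by
  have h1 : Ac f (f y1 * (f z1 * (a * b))) pσ := (acu f).mul ((acv f).mul (h.ha.aca.mul h.hb.acb))
  obtain ⟨m, hm, e⟩ := ((h1.mul h1).mul h1).mem h.toBase (by decide +kernel)
  refine ⟨(f y1 * (f z1 * (a * b))) ^ 4, ?_, fun n hn => ⟨(h1 n hn).1, ?_⟩, fun H h1 h2 h3 =>
    pow_mem (mul_mem (h1 _) (mul_mem (h1 _) (mul_mem h2 h3))) 4⟩
  · rw [← pow_mul, mul_comm, pow_mul, pow_three', ← e, show 4 = 2 * 2 from rfl, pow_mul, pow_two,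
      pow_two, ← map_mul, (fA3 m hm).1, map_one, mul_one]
  · rw [pow_succ', pow_three', ← e, ← (h1 n hn).2, mul_inv_rev, mul_assoc _ (f m), ← map_mul,
      (fA3 m hm).2 n hn, map_mul]
    group

theorem nst : ¬ IsConj (f s) (f t0) := fun hc => by
  obtain ⟨ρ, h1, h2, -⟩ := h.exists_rho
  obtain ⟨-, c1, -, -, -, a0, a1, a2, -, n1, -⟩ := fC5
  have key : ∀ m, pA m → pσ m = m → ρ * f m = f m * ρ := fun m e1 e2 =>
    mul_inv_eq_iff_eq_mul.1 ((h2 m e1).2.trans (congrArg f e2))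
  rcases h.cent3 ((pow_three' ρ).symm.trans h1) (fun e => absurd (h2.fix h.toBase a2
    (by rw [e, one_mul, mul_one])) (by decide +kernel)) hc (key t0 a0 (by decide +kernel))
    (v := f t1) (by rw [← map_mul, (fC1 _ c1).1, map_one])
    (by rw [← map_mul, (fA3 _ a1).2 _ a0, map_mul]) (key t1 a1 (by decide +kernel)).symm with e | e
  exacts [h.ne (fC1 _ c1).2.1 e, n1 (h.eq e).symm]

theorem conjT {m : M false} (hm : cT m) : IsConj (f t0) (f m) := by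
  obtain ⟨k, -, e, -⟩ := h.fusT (H := ⊤) (fun _ => trivial) trivial hm
  exact (isConj_iff.2 ⟨k, e⟩).symm

theorem t2 : f t0 * f t0 = 1 := by rw [← map_mul, (fC1 _ fC5.1).1, map_one]

theorem cT_of {m : M false} (e : IsConj (f t0) (f m)) : cT m := by
  obtain ⟨g, hg⟩ := isConj_iff.1 e
  by_contra hm
  obtain ⟨k, -, hk⟩ := h.fusS (H := ⊤) (fun _ => trivial) trivial trivial
    (h.sq (hg ▸ conj_mul_self h.t2 g))
    (fun e => conj_ne_one (h.ne (fC1 _ fC5.1).2.1) g (by rw [hg, e, map_one])) hm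
  exact h.nst ((isConj_iff.2 ⟨k, hk⟩).trans e.symm)

theorem four {c d : M false} (h1 : cT c) (h2 : cT d) (h3 : pA c) (h4 : pA d) (h5 : c ≠ d) :
    Four (f c) (f d) :=
  ⟨by rw [← map_mul, (fC1 _ h1).1, map_one], by rw [← map_mul, (fC1 _ h2).1, map_one],
    by rw [← map_mul, (fA3 _ h3).2 _ h4, map_mul], h.ne (fC1 _ h1).2.1, h.ne (fC1 _ h2).2.1,
    fun e => h5 (h.eq e)⟩

theorem fourU : Four (f u0) (f u1) := by
  obtain ⟨-, -, -, c1, c2, -, -, a1, a2, -, n, -⟩ := fC5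
  exact h.four c1 c2 a1 a2 n

theorem fourT : Four (f t0) (f t1) := by
  obtain ⟨c1, c2, -, -, -, a1, a2, -, -, n, -⟩ := fC5
  exact h.four c1 c2 a1 a2 n

theorem mem_U {m : M false} : f m ∈ h.fourU.V ↔ pU m := by
  rw [Four.mem_V, ← map_mul, ← map_one f]
  simp only [h.inj.eq_iff]
  rfl

omit h in
theorem mem_K {m : M false} (e : m * t0 = t0 * m) : f m ∈ C1 (f t0) :=
  mem_C1.2 (by rw [← map_mul, e, map_mul])

theorem mem_R {g : G} (h1 : g ∈ C1 (f t0)) (h2 : g * f s = f s * g) : g ∈ (C1 t0).map f := by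
  obtain ⟨m, rfl⟩ := h.cent g h2
  exact ⟨m, mem_C1.2 (h.comm (mem_C1.1 h1)), rfl⟩

omit h in
theorem R_le : (C1 t0).map f ≤ C1 (f t0) := by
  rintro _ ⟨m, hm, rfl⟩
  exact mem_K (mem_C1.1 hm)

theorem rho : ∃ ρ ∈ res 2 (C1 (f t0)), ρ ^ 3 = 1 ∧ Ac f ρ pσ ∧ ρ * f u0 * ρ⁻¹ = f u1 ∧
    ρ * f u1 * ρ⁻¹ = f u0 * f u1 ∧
    ∀ H : Subgroup G, (∀ m, f m ∈ H) → a ∈ H → b ∈ H → ρ ∈ H := by
  obtain ⟨ρ, h1, h2, h3⟩ := h.exists_rho
  obtain ⟨-, -, -, -, -, a0, -, a1, a2, -⟩ := fC5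
  exact ⟨ρ, mem_res (mem_C1_iff_conj.2 ((h2 t0 a0).2.trans (congrArg f (by decide +kernel))))
    (Nat.Coprime.coprime_dvd_left (orderOf_dvd_of_pow_eq_one h1) (by norm_num)), h1, h2,
    (h2 u0 a1).2.trans (congrArg f (by decide +kernel)),
    (h2 u1 a2).2.trans (by rw [← map_mul]; exact congrArg f (by decide +kernel)), h3⟩

theorem U_le : h.fourU.V ≤ res 2 (C1 (f t0)) := by
  obtain ⟨ρ, h0, -, -, h1, h2, -⟩ := h.rho
  exact h.fourU.le_of_rho ((Nrm.self _).res 2) (mem_K (by decide +kernel)) h0 h1 h2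

theorem rel_mem {m c : M false} (h1 : f m ∈ res 2 (C1 (f t0))) (h2 : rel m c) :
    f c ∈ res 2 (C1 (f t0)) := by
  obtain ⟨k, k1, k2⟩ := h2
  have := h.U_le (h.mem_U.2 k2)
  rwa [map_mul, map_mul, map_mul, map_inv,
    mul_mem_cancel_left ((Nrm.self _).res 2 _ (mem_K k1) _ h1)] at this

variable [Finite G]

theorem sylR : SylIn 2 ((C1 t0).map f) (C1 (f t0)) :=
  sylIn_of_not_dvd R_le (IsPGroup.of_card (n := 5) (by rw [h.card_map, card_R0]; rfl))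
    fun ⟨k, hk⟩ => h.not_64 (h.ne (fC1 _ fC5.1).2.1) h.nst ⟨k, by
      rw [← relIndex_mul_card (R_le (f := f)), hk, h.card_map, card_R0]; ring⟩

theorem q_not : f q0 ∉ res 2 (C1 (f t0)) := by
  obtain ⟨-, -, -, -, -, a0, -, -, -, -, -, e1, e2, -⟩ := fC5
  refine not_mem_res (Y := (sub pA pA_aux).map f) h.sylR ⟨q0, mem_C1.2 e1, rfl⟩ ?_
    (fun g _ => by rw [← map_mul, e2]; simp) ?_
  · rintro _ ⟨m, hm, rfl⟩ -
    exact (fC3 m (mem_C1.1 hm)).1.imp (fun e => ⟨_, e, map_mul f _ _⟩) fun e => ⟨_, e, rfl⟩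
  rintro g hg - ⟨m, hm, e⟩
  have h1 : SylIn 2 ((sub pF pF_aux).map f) (C1 (f t0) ⊓ C1 (f q0)) := by
    refine sylIn_of_N ?_ (IsPGroup.of_card (n := 3) (by
      rw [h.card_map, card_of_pred pF fun _ => Iff.rfl]; decide +kernel)) fun g hg _ hn => ?_
    · rintro _ ⟨m, hm, rfl⟩
      exact ⟨mem_K ((fC4 m).1 hm).2.1, mem_C1.2 (by rw [← map_mul, ((fC4 m).1 hm).2.2, map_mul])⟩
    obtain ⟨m, hm, e⟩ := conj_mem_of_mem_N hn ⟨s, show pF s by decide +kernel, rfl⟩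
    rcases ((fC4 m).1 hm).1 with rfl | rfl | e'
    · exact absurd (e.symm.trans (map_one f)) (conj_ne_one h.s1 g)
    · obtain ⟨n, hn', rfl⟩ := h.mem_R hg.1 (mul_inv_eq_iff_eq_mul.1 e.symm)
      exact ⟨n, (fC3 n (mem_C1.1 hn')).2.2.2.2.1 (h.comm (mem_C1.1 hg.2)), rfl⟩
    · exact absurd ((isConj_iff.2 ⟨g, e.symm⟩).trans (h.conjT e').symm) h.nst
  have h2 := (h1.cjj g).card_le (X := (sub pA pA_aux).map f) (by
    rw [cj_inf, cj_C1, cj_C1, mem_C1_iff_conj.1 hg, ← e]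
    rintro _ ⟨n, hn, rfl⟩
    exact ⟨mem_K ((fA3 n hn).2 _ a0), mem_C1.2 (by rw [← map_mul, (fA3 n hn).2 _ hm, map_mul])⟩)
    (IsPGroup.of_card (n := 4) (by
      rw [h.card_map, card_of_pred pA fun _ => Iff.rfl]; decide +kernel))
  rw [card_cj, h.card_map, h.card_map, card_of_pred pA fun _ => Iff.rfl,
    card_of_pred pF fun _ => Iff.rfl] at h2
  exact absurd h2 (by decide +kernel)

theorem e_not : f e0 ∉ res 2 (C1 (f t0)) := fun he => by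
  obtain ⟨-, -, -, -, -, -, -, -, -, -, -, -, -, e1, e2, e3, -⟩ := fC5
  refine not_mem_res (Y := (sub pW pW_aux).map f) h.sylR ⟨e0, mem_C1.2 e1, rfl⟩ ?_
    (fun g hg => ?_) ?_ he
  · rintro _ ⟨m, hm, rfl⟩ hm'
    rcases (fC3 m (mem_C1.1 hm)).2.1 with e | e | e | e
    exacts [Or.inl ⟨_, e, map_mul f _ _⟩, Or.inr ⟨_, e, rfl⟩, absurd (h.rel_mem hm' e) h.q_not,
      absurd (h.rel_mem (by rw [map_mul]; exact mul_mem hm' he) e) h.q_not]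
  · rw [← map_mul, e2, mem_C1_iff_conj.1 hg]
    exact ⟨⟨t0, self_mem_C1 _, rfl⟩, t0, e3, rfl⟩
  · rintro g hg - ⟨m, hm, e⟩
    have := congrArg f ((fC4 m).2.1 hm).1
    rw [map_mul, e, conj_mul, ← map_mul, e2, map_one] at this
    exact conj_ne_one h.fourT.a1 g this

theorem t1_not : f t1 ∉ res 2 (C1 (f t0)) := by
  obtain ⟨-, c1, c2, -, -, a0, a1, -⟩ := fC5
  refine not_mem_res (Y := (sub pW pW_aux).map f) h.sylR ⟨t1, mem_C1.2 ((fA3 _ a1).2 _ a0), rfl⟩ ?_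
    (fun g _ => by rw [h.fourT.b2]; simp) ?_
  · rintro _ ⟨m, hm, rfl⟩ hm'
    rcases (fC3 m (mem_C1.1 hm)).2.2.1 with e | e | e | e
    exacts [Or.inl ⟨_, e, map_mul f _ _⟩, Or.inr ⟨_, e, rfl⟩, absurd (h.rel_mem hm' e) h.q_not,
      absurd (h.rel_mem hm' e) h.e_not]
  · rintro g hg - ⟨m, hm, e⟩
    exact ((fC4 m).2.1 hm).2 (h.cT_of ((h.conjT c1).trans (isConj_iff.2 ⟨g, e.symm⟩)))
      (h.cT_of ((h.conjT c2).trans (isConj_iff.2 ⟨g, by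
        rw [map_mul, map_mul, cjm, mem_C1_iff_conj.1 hg, e]⟩)))

theorem t0_not : f t0 ∉ res 2 (C1 (f t0)) := by
  refine not_mem_res (Y := h.fourU.V) h.sylR ⟨t0, self_mem_C1 _, rfl⟩ ?_
    (fun g _ => by rw [h.t2]; simp) fun g hg _ => ?_
  · rintro _ ⟨m, hm, rfl⟩ hm'
    rcases (fC3 m (mem_C1.1 hm)).2.2.2.1 with e | e | e | e | e
    exacts [Or.inl (map_mul f _ _ ▸ h.mem_U.2 e), Or.inr (h.mem_U.2 e),
      absurd (h.rel_mem hm' e) h.q_not, absurd (h.rel_mem hm' e) h.e_not,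
      absurd (h.rel_mem hm' e) h.t1_not]
  · rw [mem_C1_iff_conj.1 hg, h.mem_U]
    exact fC5.2.2.2.2.2.2.2.2.2.2.2.2.2.2.2.2.1

theorem inf_res : (C1 t0).map f ⊓ res 2 (C1 (f t0)) = h.fourU.V := by
  refine le_antisymm ?_ (le_inf (h.fourU.V_le ⟨u0, mem_C1.2 (by decide +kernel), rfl⟩
    ⟨u1, mem_C1.2 (by decide +kernel), rfl⟩) h.U_le)
  rintro _ ⟨⟨m, hm, rfl⟩, hm0⟩
  have hm' : f m ∈ res 2 (C1 (f t0)) := hm0
  rcases (fC3 m (mem_C1.1 hm)).2.2.2.1 with e | e | e | e | e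
  · have := h.U_le (h.mem_U.2 e)
    rw [map_mul, mul_mem_cancel_left hm'] at this
    exact absurd this h.t0_not
  exacts [h.mem_U.2 e, absurd (h.rel_mem hm' e) h.q_not, absurd (h.rel_mem hm' e) h.e_not,
    absurd (h.rel_mem hm' e) h.t1_not]

theorem f4 {ρ : G} (h0 : ρ ∈ res 2 (C1 (f t0))) (h1 : ρ * f u0 * ρ⁻¹ = f u1)
    (h2 : ρ * f u1 * ρ⁻¹ = f u0 * f u1) : F4 (res 2 (C1 (f t0))) h.fourU ρ :=
  ⟨h.U_le h.fourU.aV, h0, h1, h2, fun g hg e => h.inf_res.le ⟨h.mem_R (res_le _ _ hg) (by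
    rw [← fC5.2.2.2.2.2.2.2.2.2.2.2.2.2.2.2.2.2.1, map_mul, ← mul_assoc, e, mul_assoc,
      mem_C1.1 (res_le _ _ hg), mul_assoc]), hg⟩⟩

theorem card_K : Nat.card (C1 (f t0)) = 8 * Nat.card (res 2 (C1 (f t0))) := by
  have := card_res h.sylR
  rw [h.inf_res, h.fourU.card, h.card_map, card_R0] at this
  omega

theorem sup_K : res 2 (C1 (f t0)) ⊔ (C1 (f t0) ⊓ N h.fourU.V) = C1 (f t0) := by
  obtain ⟨ρ, h0, -, -, h1, h2, -⟩ := h.rho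
  exact frattini_arg Nat.prime_two (h.f4 h0 h1 h2).syl ⟨res_le _ _, (Nrm.self _).res 2⟩

theorem card_K0 : Nat.card ↥(C1 (f t0) ⊓ N h.fourU.V) = 96 := by
  obtain ⟨ρ, h0, -, -, h1, h2, -⟩ := h.rho
  have h3 := card_sup_mul (X := res 2 (C1 (f t0))) (Y := C1 (f t0) ⊓ N h.fourU.V)
    (Or.inr (((Nrm.self _).res 2).mono inf_le_left))
  rw [h.sup_K, ← inf_assoc, inf_eq_left.2 (res_le _ _), (h.f4 h0 h1 h2).card_N, h.card_K] at h3
  exact Nat.eq_of_mul_eq_mul_left (Nat.card_pos (α := res 2 (C1 (f t0)))) (by rw [← h3]; ring)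

theorem R_le_K0 : (C1 t0).map f ≤ C1 (f t0) ⊓ N h.fourU.V :=
  le_inf R_le (h.inf_res ▸ ((Nrm.self _).inf (((Nrm.self _).res 2).mono R_le)).le_N)

theorem K0_le {H : Subgroup G} (hf : ∀ m, f m ∈ H) (ha : a ∈ H) (hb : b ∈ H) :
    C1 (f t0) ⊓ N h.fourU.V ≤ H := by
  obtain ⟨ρ, h0, r3, -, h1, h2, h3⟩ := h.rho
  have h4 : 32 ∣ Nat.card ↥(C1 (f t0) ⊓ N h.fourU.V ⊓ H) := by
    rw [← card_R0, ← h.card_map]
    exact card_dvd_of_le (le_inf h.R_le_K0 (by rintro _ ⟨m, -, rfl⟩; exact hf m))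
  have h5 : 3 ∣ Nat.card ↥(C1 (f t0) ⊓ N h.fourU.V ⊓ H) :=
    orderOf_eq_prime (hp := ⟨Nat.prime_three⟩) r3 (fun e => h.fourU.ne (by rw [← h1, e]; simp)) ▸
      Subgroup.orderOf_dvd_natCard _ ⟨⟨res_le _ _ h0, (h.f4 h0 h1 h2).ρN⟩, h3 H hf ha hb⟩
  exact inf_eq_left.1 (eq_of_le_of_card_ge inf_le_left (h.card_K0 ▸ Nat.le_of_dvd Nat.card_pos
    (Nat.Coprime.mul_dvd_of_dvd_of_dvd (by norm_num) h4 h5)))

theorem top_of {H : Subgroup G} (hf : ∀ m, f m ∈ H) (ha : a ∈ H) (hb : b ∈ H)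
    (hK : C1 (f t0) ≤ H) : H = ⊤ := eq_top_iff.2 fun g _ => by
  have hL : C1 (f s) ≤ H := by rw [← h.range]; rintro _ ⟨m, rfl⟩; exact hf m
  by_cases hg : g * f s * g⁻¹ ∈ H
  · rcases h.invH hf ha hb hg (conj_ne_one h.s1 g) (conj_mul_self Base.s2 g) with
      ⟨k, hk, e⟩ | ⟨k, hk, e⟩
    · exact (mul_mem_cancel_left (inv_mem hk)).1 (hL (mem_C1_iff_conj.2 (by
        calc _ = k⁻¹ * (g * f s * g⁻¹) * k := by group
          _ = _ := by rw [← e]; group)))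
    · exact absurd ((isConj_iff.2 ⟨g, rfl⟩).trans (isConj_iff.2 ⟨k, e⟩).symm) h.nst
  · refine absurd ((isConj_iff.2 ⟨g, rfl⟩).trans (isConj_of_cent_le (fun w hw w1 w2 => ?_) h.t2
      h.fourT.a1 (hf _) (conj_mul_self Base.s2 g) hg)) h.nst
    rcases h.invH hf ha hb hw w1 w2 with ⟨k, hk, rfl⟩ | ⟨k, hk, rfl⟩
    exacts [(cj_C1 k _).ge.trans (cj_le_of_le hL hk), (cj_C1 k _).ge.trans (cj_le_of_le hK hk)]

end CA

end CfsgH3.X32
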