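import Cfsg.Agent.H3.X32A2

set_option autoImplicit false

/-! The alternating case: counting involutions. -/

namespace CfsgH3.X32

open Subgroup CfsgH5 CfsgH6 CfsgFT CfsgH7 Equiv

universe u
variable {G : Type u} [Group G]

theorem exists_perm_hom [Finite G] (H : Subgroup G) {n : ℕ} (hi : H.index = n) :
    ∃ (π : G →* Perm (Fin n)) (p : Fin n), π.ker = H.normalCore ∧ ∀ g, π g p = p ↔ g ∈ H := by
  let e : G ⧸ H ≃ Fin n := Finite.equivFinOfCardEq hi
  refine ⟨e.permCongrHom.toMonoidHom.comp (MulAction.toPermHom G (G ⧸ H)), e ((1 : G) : G ⧸ H), ?_,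
    fun g => ?_⟩
  · rw [normalCore_eq_ker]
    ext g
    simp only [MonoidHom.mem_ker, MonoidHom.comp_apply, MulEquiv.coe_toMonoidHom,
      EmbeddingLike.map_eq_one_iff]
  · change e (g • e.symm (e _)) = _ ↔ _
    rw [e.symm_apply_apply, e.apply_eq_iff_eq, ← MulAction.mem_stabilizer_iff,
      MulAction.stabilizer_quotient]

theorem mul_mem_of_zp [Finite G] {O : Subgroup G} {g t : G} (h1 : g * g ∈ O) (h2 : t ∈ zpowers g)
    (h3 : t ∉ O) : t * g ∈ O := by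
  obtain ⟨k, hk⟩ := mem_powers_iff_mem_zpowers.2 h2
  rcases Nat.even_or_odd' k with ⟨j, rfl | rfl⟩ <;> beta_reduce at hk
  · rw [pow_mul, pow_two] at hk
    exact absurd (hk ▸ pow_mem h1 j) h3
  · rw [← hk, pow_succ, pow_mul, pow_two, mul_assoc]
    exact mul_mem (pow_mem h1 j) h1

theorem fS5 : ∀ p : Fin 5, (Finset.univ.filter fun g : Perm (Fin 5) =>
    g * g = 1 ∧ g p ≠ p ∧ Perm.sign g ≠ 1).card = 4 := by decide +kernel

theorem fC6 : (Finset.univ.filter fun m : M false => m * m = 1 ∧ m ≠ 1).sum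
    (fun m => if cT m then 12 else 0) = 216 ∧ t0 * u0 = s ∧ t1 * u1 = s * y0 ∧ ¬ cT (t0 * u0) ∧
    ¬ cT (t1 * u0) ∧ ¬ cT (t0 * t1 * u0) := by decide +kernel

namespace CA

variable [Finite G] {f : M false →* G} {a b : G} (h : CA f a b)
include h

omit [Finite G] in
theorem qt : f q0 * f t1 * (f q0)⁻¹ = f t0 * f t1 := by
  rw [← map_inv, ← map_mul, ← map_mul, fC5.2.2.2.2.2.2.2.2.2.2.2.2.2.2.2.2.2.2, map_mul]

theorem tt_not : f t0 * f t1 ∉ res 2 (C1 (f t0)) := fun e => h.t1_not (by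
  have := (Nrm.self _).res 2 _ (inv_mem (mem_K (f := f) fC5.2.2.2.2.2.2.2.2.2.2.2.1)) _ e
  rwa [← h.qt, show ∀ q t : G, q⁻¹ * (q * t * q⁻¹) * q⁻¹⁻¹ = t from fun q t => by group] at this)

section
variable (h60 : Nat.card (res 2 (C1 (f t0))) = 60) (hs : IsSimpleGroup (res 2 (C1 (f t0))))
include h60

theorem card480 : Nat.card (C1 (f t0)) = 480 := by rw [h.card_K, h60]

theorem index5 : (C1 (f t0) ⊓ N h.fourU.V).relIndex (C1 (f t0)) = 5 := by
  have := relIndex_mul_card (inf_le_left : C1 (f t0) ⊓ N h.fourU.V ≤ _)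
  rw [h.card_K0, h.card480 h60] at this
  omega

include hs

theorem core_eq : core (C1 (f t0)) (C1 (f t0) ⊓ N h.fourU.V) = h.fourT.V ∧
    h.fourT.V ≤ C (res 2 (C1 (f t0))) ∧ h.fourT.V ⊓ res 2 (C1 (f t0)) = ⊥ := by
  obtain ⟨ρ, h0, -, hρ, h1, h2, -⟩ := h.rho
  have h3 := (h.f4 h0 h1 h2).card_N
  have hn : Nrm (C1 (f t0)) (res 2 (C1 (f t0))) := (Nrm.self _).res 2
  have hle := res_le 2 (C1 (f t0))
  have h4 := relIndex_core_dvd_factorial (C1 (f t0)) (C1 (f t0) ⊓ N h.fourU.V)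
  have h5 := relIndex_mul_card (core_le_left (C1 (f t0)) (C1 (f t0) ⊓ N h.fourU.V))
  have h6 := nrm_core (C1 (f t0)) (C1 (f t0) ⊓ N h.fourU.V)
  have h7 := core_le_left (C1 (f t0)) (C1 (f t0) ⊓ N h.fourU.V)
  have h8 := core_le_right (C1 (f t0)) (C1 (f t0) ⊓ N h.fourU.V)
  rw [h.index5 h60] at h4
  rw [h.card480 h60] at h5
  generalize core (C1 (f t0)) (C1 (f t0) ⊓ N h.fourU.V) = X at *
  have c1 : X ⊓ res 2 (C1 (f t0)) = ⊥ := by
    have : (X.subgroupOf (res 2 (C1 (f t0)))).Normal :=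
      ⟨fun n hn g => h6 g (hle g.2) n hn⟩
    rcases this.eq_bot_or_eq_top with e | e
    · exact (subgroupOf_eq_bot.1 e).eq_bot
    · rw [inf_eq_left.2 (((subgroupOf_eq_top.1 e).trans h8).trans inf_le_right), h60] at h3
      omega
  have c2 := le_C_of_inf_eq_bot (hn.mono h7) (h6.mono hle) c1
  have c3 : Nat.card X ∣ 2 ^ 3 := by
    have := card_dvd_of_le (sup_le h7 hle)
    rw [card_sup_of_inf_eq_bot (Or.inl (hn.mono h7)) c1, h60, h.card480 h60] at this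
    exact Nat.dvd_of_mul_dvd_mul_right (by norm_num) (show _ ∣ 2 ^ 3 * 60 from this)
  obtain ⟨k, -, hk⟩ := (Nat.dvd_prime_pow Nat.prime_two).1 c3
  have c4 := h.sylR.le_of_nrm h7 (IsPGroup.of_card hk) (h6.mono R_le)
  have c5 : X ≤ h.fourT.V := fun g hg => by
    obtain ⟨m, hm, rfl⟩ := c4 hg
    have c := fun w hw => (mem_C.1 (c2 hg) w hw).symm
    have e := (fC3 m (mem_C1.1 hm)).2.2.2.2.2 (h.comm (c _ (h.U_le h.fourU.aV)))
      (h.comm (c _ (h.U_le h.fourU.bV)))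
    rcases (fC4 m).2.2 e (hρ.fix h.toBase e (c _ h0).symm) with rfl | rfl | rfl | rfl
    exacts [map_one f ▸ one_mem _, h.fourT.aV, h.fourT.bV,
      (map_mul f t0 t1).symm ▸ mul_mem h.fourT.aV h.fourT.bV]
  have c6 : X = h.fourT.V := eq_of_le_of_card_ge c5 (by
    have := Nat.le_of_dvd (Nat.factorial_pos _) h4
    rw [h.fourT.card]
    simp only [Nat.factorial] at this
    nlinarith)
  exact ⟨c6, c6 ▸ c2, c6 ▸ c1⟩

theorem odd_le : {v | v ∈ C1 (f t0) ∧ v * v = 1 ∧ v ∉ C1 (f t0) ⊓ N h.fourU.V ∧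
    v ∉ h.fourT.V ⊔ res 2 (C1 (f t0))}.ncard ≤ 8 := by
  classical
  have := Fintype.ofFinite (C1 (f t0))
  obtain ⟨c1, c2, c3⟩ := h.core_eq h60 hs
  have hT := h.fourT
  have hle := res_le 2 (C1 (f t0))
  have hTK : hT.V ≤ C1 (f t0) := c1 ▸ core_le_left _ _
  obtain ⟨π, p, p1, p2⟩ := exists_perm_hom
    ((C1 (f t0) ⊓ N h.fourU.V).subgroupOf (C1 (f t0))) (h.index5 h60)
  have p3 : π.ker = hT.V.subgroupOf (C1 (f t0)) := by
    rw [p1, ← c1]
    exact (comap_map_eq_self_of_injective (subtype_injective _) _).symm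
  have p4 : Function.Surjective π := by
    have := card_eq_card_quotient_mul_card_subgroup π.ker
    rw [Nat.card_congr (QuotientGroup.quotientKerEquivRange π).toEquiv, h.card480 h60, p3,
      Nat.card_congr (subgroupOfEquivOfLe hTK).toEquiv, hT.card] at this
    exact MonoidHom.range_eq_top.1 (eq_top_of_card_eq _ (by
      rw [Nat.card_perm, Nat.card_fin]; simp only [Nat.factorial]; omega))
  have p5 : ((hT.V ⊔ res 2 (C1 (f t0))).subgroupOf (C1 (f t0))).index = 2 := by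
    have := relIndex_mul_card (sup_le hTK hle)
    rw [card_sup_of_inf_eq_bot (Or.inl (nrm_of_le_C c2)) c3, hT.card, h60, h.card480 h60] at this
    change relIndex _ _ = 2
    omega
  have p6 : π.ker ≤ (hT.V ⊔ res 2 (C1 (f t0))).subgroupOf (C1 (f t0)) :=
    p3 ▸ comap_mono le_sup_left
  have p7 := Perm.eq_alternatingGroup_of_index_eq_two ((index_map_eq _ p4 p6).trans p5)
  have p8 : hT.V ⊔ res 2 (C1 (f t0)) ≤ C1 (f t1) :=
    sup_le (fun g hg => mem_C1.2 (hT.comm hg hT.bV)) ((le_C_symm c2).trans (C_le_C1 hT.bV))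
  have p9 : f q0 ∉ C1 (f t1) := fun e => by
    have := h.qt
    rw [mem_C1_iff_conj.1 e] at this
    exact hT.a1 (right_eq_mul.1 this)
  rw [show {v | v ∈ C1 (f t0) ∧ v * v = 1 ∧ v ∉ C1 (f t0) ⊓ N h.fourU.V ∧
      v ∉ h.fourT.V ⊔ res 2 (C1 (f t0))} = Subtype.val '' ((Finset.univ.filter fun v : C1 (f t0) =>
      v.1 * v.1 = 1 ∧ v.1 ∉ C1 (f t0) ⊓ N h.fourU.V ∧ v.1 ∉ hT.V ⊔ res 2 (C1 (f t0)) :
        Finset (C1 (f t0))) : Set (C1 (f t0))) from Set.ext fun v => ⟨fun hv =>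
      ⟨⟨v, hv.1⟩, Finset.mem_coe.2 (Finset.mem_filter.2 ⟨Finset.mem_univ _, hv.2⟩), rfl⟩,
      fun ⟨w, hw, e⟩ => e ▸ ⟨w.2, (Finset.mem_filter.1 (Finset.mem_coe.1 hw)).2⟩⟩, Set.ncard_image_of_injective _ Subtype.val_injective, Set.ncard_coe_finset]
  refine (Finset.card_le_mul_card_image_of_maps_to (f := π) (t := Finset.univ.filter
    fun g : Perm (Fin 5) => g * g = 1 ∧ g p ≠ p ∧ Perm.sign g ≠ 1) (fun v hv => ?_) 2
    fun g _ => ?_).trans (by rw [fS5])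
  · simp only [Finset.mem_filter, Finset.mem_univ, true_and] at hv ⊢
    refine ⟨by rw [← map_mul, show v * v = 1 from Subtype.ext hv.1, map_one],
      fun e => hv.2.1 ((p2 v).1 e), fun e => hv.2.2 ?_⟩
    exact (comap_map_eq_self p6).le (show π v ∈ _ from p7.ge (Perm.mem_alternatingGroup.2 e))
  refine le_of_not_gt fun hc => ?_
  obtain ⟨v, hv⟩ := Finset.card_pos.1 (Nat.zero_lt_of_lt hc)
  refine hc.not_ge ?_
  refine (Finset.card_le_card (t := {v, v * ⟨f t0, self_mem_C1 _⟩}) fun w hw => ?_).trans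
    Finset.card_le_two
  simp only [Finset.mem_filter, Finset.mem_univ, true_and] at hv hw
  have q1 : v.1 ∉ C1 (f t1) := fun e => p9 ((mul_mem_cancel_left e).1 (p8
    ((mul_mem_iff_of_index_two p5 (a := v) (b := ⟨f q0, mem_K fC5.2.2.2.2.2.2.2.2.2.2.2.1⟩)).2
      (iff_of_false hv.1.2.2 fun e => p9 (p8 e)))))
  have q2 : v.1⁻¹ * w.1 ∈ hT.V := (p3.le (show v⁻¹ * w ∈ π.ker by
    rw [MonoidHom.mem_ker, map_mul, map_inv, hv.2, hw.2, inv_mul_cancel]) :)
  have q3 : v.1 * (v.1⁻¹ * w.1) = v.1⁻¹ * w.1 * v.1 := by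
    have := hT.sq q2
    rw [inv_eq_self hv.1.1] at this ⊢
    nth_rewrite 1 [eq_inv_of_mul_eq_one_left this]
    rw [mul_inv_rev, inv_eq_self hv.1.1, inv_eq_self hw.1.1, mul_assoc]
  rw [Finset.mem_insert, Finset.mem_singleton]
  rcases hT.mem_V.1 q2 with e | e | e | e
  · exact Or.inl (Subtype.ext (inv_mul_eq_one.1 e).symm)
  · exact Or.inr (Subtype.ext (inv_mul_eq_iff_eq_mul.1 e))
  · exact absurd (mem_C1.2 (e ▸ q3)) q1
  · rw [e, ← mul_assoc, mem_C1.1 v.2, mul_assoc, mul_assoc, mul_right_inj] at q3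
    exact absurd (mem_C1.2 q3) q1

variable {H : Subgroup G} (hf : ∀ m, f m ∈ H) (ha : a ∈ H) (hb : b ∈ H)
include hf ha hb

omit hs in
theorem cnt1 : {v | (IsConj (f t0) v ∧ v ∉ H) ∧ f t0 ∈ zpowers (f s * v)}.ncard ≤ 12 := by
  obtain ⟨ρ, h0, -, -, h1, h2, -⟩ := h.rho
  have h3 := (h.f4 h0 h1 h2).ncard_invol
  have h4 := Set.ncard_diff_add_ncard_of_subset (s := sharp h.fourU.V)
    (t := {u | u ∈ res 2 (C1 (f t0)) ∧ u ≠ 1 ∧ u * u = 1})
    fun v hv => ⟨h.U_le hv.1, hv.2, h.fourU.sq hv.1⟩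
  rw [ncard_sharp, h.fourU.card] at h4
  refine (Set.ncard_le_ncard (t := {u | u ∈ res 2 (C1 (f t0)) ∧ u ≠ 1 ∧ u * u = 1} \
    sharp h.fourU.V) ?_).trans (by omega)
  rintro v ⟨⟨v1, v2⟩, v3⟩
  obtain ⟨c, hc⟩ := isConj_iff.1 v1
  have v4 : v * v = 1 := hc ▸ conj_mul_self h.t2 c
  have v5 := (comm_of_mem_zpowers Base.s2 v4 v3 h.t2).2
  have hu := h.U_le h.fourU.aV
  have e : f s = f t0 * f u0 := by rw [← map_mul, fC6.2.1]
  have v6 := mul_mem_of_zp (O := res 2 (C1 (f t0))) (by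
    have := mul_mem hu ((Nrm.self _).res 2 v (mem_C1.2 v5.symm) _ hu)
    rw [inv_eq_self v4] at this
    rwa [e, show f t0 * f u0 * v * (f t0 * f u0 * v) = f t0 * (f u0 * (v * f t0)) * f u0 * v by group,
      ← v5, ← mul_assoc (f u0), mem_C1.1 (res_le _ _ hu), ← mul_assoc, ← mul_assoc, h.t2, one_mul,
      mul_assoc, mul_assoc, ← mul_assoc v]) v3 h.t0_not
  rw [e, ← mul_assoc, ← mul_assoc, h.t2, one_mul, mul_mem_cancel_left hu] at v6
  exact ⟨⟨v6, fun e => v2 (e ▸ one_mem H), v4⟩, fun e => v2 (h.fourU.V_le (hf _) (hf _) e.1)⟩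

theorem cnt2 : {v | (IsConj (f t0) v ∧ v ∉ H) ∧ f t0 ∈ zpowers (f (s * y0) * v)}.ncard ≤ 12 := by
  refine (Set.ncard_le_ncard ?_).trans ((h.odd_le h60 hs).trans (by norm_num))
  obtain ⟨ρ, h0, -, -, h1, h2, -⟩ := h.rho
  obtain ⟨-, c2, -⟩ := h.core_eq h60 hs
  rintro v ⟨⟨v1, v2⟩, v3⟩
  obtain ⟨c, hc⟩ := isConj_iff.1 v1
  have v4 : v * v = 1 := hc ▸ conj_mul_self h.t2 c
  have v5 := (comm_of_mem_zpowers (by rw [← map_mul]; exact (congrArg f (by decide +kernel)).trans (map_one f))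
    v4 v3 h.t2).2
  refine ⟨mem_C1.2 v5.symm, v4, fun e => v2 (h.K0_le hf ha hb e), fun e => ?_⟩
  obtain ⟨d, hd, w, hw, rfl⟩ := CfsgH6.Nrm.exists_mul_of_mem_sup (nrm_of_le_C c2) e
  have dw := fun w hw => mem_C.1 (c2 hd) w hw
  have w2 : w * w = 1 := by
    rwa [mul_assoc, ← mul_assoc w, dw w hw, mul_assoc, ← mul_assoc, h.fourT.sq hd, one_mul] at v4
  obtain ⟨k, hk, rfl⟩ := (h.f4 h0 h1 h2).invol hw
    (fun e => v2 (by rw [e, mul_one]; exact h.fourT.V_le (hf _) (hf _) hd)) w2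
  have v6 : IsConj (f t0) (d * f u0) := v1.trans (isConj_iff.2 ⟨k, by
    rw [cjm, dw k hk, mul_inv_cancel_right]⟩).symm
  rcases h.fourT.mem_V.1 hd with rfl | rfl | rfl | rfl
  · rw [one_mul, ← fC6.2.2.1, map_mul, mul_assoc] at v3
    have hg := mul_mem (h.U_le h.fourU.bV) hw
    generalize f u1 * (k * f u0 * k⁻¹) = g at v3 hg
    have := mul_mem_of_zp (O := res 2 (C1 (f t0))) (by
      rw [mul_assoc, ← mul_assoc g, mem_C.1 (c2 h.fourT.bV) g hg, mul_assoc, ← mul_assoc,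
        h.fourT.b2, one_mul]
      exact mul_mem hg hg) v3 h.t0_not
    rw [← mul_assoc, mul_mem_cancel_right hg] at this
    exact h.tt_not this
  · exact fC6.2.2.2.1 (h.cT_of (by rw [map_mul]; exact v6))
  · exact fC6.2.2.2.2.1 (h.cT_of (by rw [map_mul]; exact v6))
  · exact fC6.2.2.2.2.2 (h.cT_of (by rw [map_mul, map_mul]; exact v6))

theorem cnt : {v | IsConj (f t0) v ∧ v ∉ H}.ncard ≤ 216 := by
  rw [thompson_count h.inj Base.s2 h.cent fun v hv => by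
    obtain ⟨c, rfl⟩ := isConj_iff.1 hv.1
    exact ⟨conj_mul_self h.t2 c, fun e => h.nst (e.trans hv.1.symm)⟩, ← fC6.1]
  refine Finset.sum_le_sum fun m hm => ?_
  simp only [Finset.mem_filter, Finset.mem_univ, true_and] at hm
  split_ifs with e
  · obtain ⟨k, hk, e1, e2⟩ := h.fusT hf ha e
    refine (ncard_conj k (Q := {v | (IsConj (f t0) v ∧ v ∉ H) ∧
      f t0 ∈ zpowers (k * f s * k⁻¹ * v)})
      fun v => and_congr (and_congr ⟨fun e => e.trans (isConj_iff.2 ⟨k, rfl⟩),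
        fun e => e.trans (isConj_iff.2 ⟨k, rfl⟩).symm⟩
        (by rw [mul_mem_cancel_right (inv_mem hk), mul_mem_cancel_left hk]))
        (by rw [← conj_mem_zpowers (g := k), e1, cjm])).le.trans ?_
    rcases e2 with e2 | e2 <;> rw [e2]
    exacts [h.cnt1 h60 hf ha hb, h.cnt2 h60 hs hf ha hb]
  · obtain ⟨k, hk, e1⟩ := h.fusS hf ha hb hm.1 hm.2 e
    rw [Nat.le_zero, Set.ncard_eq_zero]
    refine Set.eq_empty_of_forall_notMem fun v ⟨⟨v1, v2⟩, v3⟩ => v2 ?_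
    obtain ⟨c, hc⟩ := isConj_iff.1 v1
    have v5 := (comm_of_mem_zpowers Base.s2 (hc ▸ conj_mul_self h.t2 c) v3
      (by rw [← map_mul, hm.1, map_one])).2
    obtain ⟨n, hn⟩ := h.cent (k⁻¹ * v * k) (by
      calc _ = k⁻¹ * (v * (k * f s * k⁻¹)) * k := by group
        _ = _ := by rw [e1, ← v5, ← e1]; group)
    have := hf n
    rwa [hn, mul_mem_cancel_right hk, mul_mem_cancel_left (inv_mem hk)] at this

theorem card_le (hH : Nat.card H = 20160) : Nat.card G ≤ 480 * 426 := by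
  have h1 := class_mul ⊤ (f t0) (P := {v | IsConj (f t0) v}) fun y =>
    isConj_iff.trans ⟨fun ⟨g, e⟩ => ⟨g, trivial, e⟩, fun ⟨g, _, e⟩ => ⟨g, e⟩⟩
  have h2 := class_mul H (f t0) (P := {v | IsConj (f t0) v ∧ v ∈ H}) fun y => ⟨fun ⟨y1, y2⟩ => by
      obtain ⟨c, hc⟩ := isConj_iff.1 y1
      exact (h.invH hf ha hb y2 (hc ▸ conj_ne_one h.fourT.a1 c)
        (hc ▸ conj_mul_self h.t2 c)).resolve_left fun ⟨k, _, e⟩ =>
          h.nst ((isConj_iff.2 ⟨k, e⟩).trans y1.symm),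
    fun ⟨g, hg, e⟩ => ⟨isConj_iff.2 ⟨g, e⟩, e ▸ mul_mem (mul_mem hg (hf _)) (inv_mem hg)⟩⟩
  have h3 := card_le_of_le (le_inf (h.K0_le hf ha hb) inf_le_left)
  have h4 := h.cnt h60 hs hf ha hb
  have h5 := Set.ncard_union_le {v | IsConj (f t0) v ∧ v ∈ H} {v | IsConj (f t0) v ∧ v ∉ H}
  rw [show {v | IsConj (f t0) v ∧ v ∈ H} ∪ {v | IsConj (f t0) v ∧ v ∉ H} = {v | IsConj (f t0) v} by
    ext v; simp only [Set.mem_union, Set.mem_setOf_eq]; tauto] at h5
  rw [top_inf_eq, h.card480 h60, card_top] at h1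
  rw [h.card_K0] at h3
  rw [hH] at h2
  have h6 : {v | IsConj (f t0) v ∧ v ∈ H}.ncard ≤ 210 := by nlinarith
  omega

end

theorem main : Nonempty (G ≃* alternatingGroup (Fin 8)) ∨
    Nonempty (G ≃* alternatingGroup (Fin 9)) := by
  obtain ⟨H, ⟨e⟩, hf, ha, hb⟩ := h.exists_A8
  by_cases h0 : H = ⊤
  · subst h0
    exact Or.inl ⟨topEquiv.symm.trans e⟩
  refine Or.inr ?_
  obtain ⟨ρ, r0, -, -, r1, r2, -⟩ := h.rho
  obtain ⟨h60, hs⟩ := (h.f4 r0 r1 r2).cases.resolve_left fun e => h0 (h.top_of hf ha hb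
    (h.sup_K.ge.trans ((sup_le (le_inf (res_le _ _) e) le_rfl).trans (h.K0_le hf ha hb))))
  have hH : Nat.card H = 20160 := by rw [Nat.card_congr e.toEquiv, card_A8]
  have hT : (T0 false).map f ≤ H := by rintro _ ⟨m, -, rfl⟩; exact hf m
  have h1 := h.card_le h60 hs hf ha hb hH
  have h2 := H.card_mul_index
  have h3 : ¬ 2 ∣ H.index := fun e => h.syl.not_dvd_relIndex (by
    rw [relIndex_top_right]; exact e.trans (index_dvd_of_le hT))
  have h4 : H.normalCore = ⊥ := by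
    have := alternatingGroup.isSimpleGroup (α := Fin 8) (by simp)
    have := e.isSimpleGroup
    rcases (H.normalCore_normal.subgroupOf H).eq_bot_or_eq_top with e | e
    · exact le_bot_iff.1 ((le_inf le_rfl H.normalCore_le).trans (subgroupOf_eq_bot.1 e).le_bot)
    · refine absurd (top_le_iff.1 ?_) h0
      rw [← frattini_arg Nat.prime_two (h.syl.of_le hT le_top) (normalIn_top.2
        (le_antisymm H.normalCore_le (subgroupOf_eq_top.1 e) ▸ H.normalCore_normal))]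
      exact sup_le le_rfl fun g hg => hT (h.N_T (mem_N.1 hg.2))
  have h5 := index_normalCore_dvd_factorial H
  rw [h4, index_bot, ← h2, hH] at h5
  rw [hH] at h2
  have h6 : H.index = 9 := by
    have h7 : H.index ≤ 10 := by omega
    have h8 : H.index ≠ 0 := index_ne_zero_of_finite
    generalize H.index = n at *
    interval_cases n <;> simp [Nat.factorial] at h3 h5 h8 ⊢
  obtain ⟨π, -, p1, -⟩ := exists_perm_hom H h6
  have p2 := (MonoidHom.ker_eq_bot_iff π).1 (p1.trans h4)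
  have p3 := π.range.card_mul_index
  rw [card_range_inj p2, Nat.card_perm, Nat.card_fin, ← h2, h6] at p3
  exact ⟨(MonoidHom.ofInjective p2).trans (MulEquiv.subgroupCongr
    (Perm.eq_alternatingGroup_of_index_eq_two (by simp only [Nat.factorial] at p3; omega)))⟩

end CA

end CfsgH3.X32
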