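import Cfsg.Agent.H7.Loc1
import Cfsg.Agent.H6.TIEven
import Cfsg.Agent.FT.Base11

set_option autoImplicit false

/-! Four-groups, self-centralizing four-groups, Thompson's order formula. -/

namespace CfsgH3.X32

open Subgroup CfsgH5 CfsgH6 CfsgFT CfsgH7

universe u
variable {G : Type u} [Group G]

/-- generators of a four-group -/
structure Four (a b : G) : Prop where
  a2 : a * a = 1
  b2 : b * b = 1
  ab : a * b = b * a
  a1 : a ≠ 1
  b1 : b ≠ 1
  ne : a ≠ b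

namespace Four

variable {a b : G} (h : Four a b)
include h

theorem l1 : a * (a * b) = b := by rw [← mul_assoc, h.a2, one_mul]
theorem l2 : b * (a * b) = a := by rw [h.ab, ← mul_assoc, h.b2, one_mul]
theorem l3 : a * b * a = b := by rw [mul_assoc, ← h.ab, h.l1]
theorem l4 : a * b * b = a := by rw [mul_assoc, h.b2, mul_one]
theorem c2 : a * b * (a * b) = 1 := by rw [mul_assoc, h.l2, h.a2]
theorem c1 : a * b ≠ 1 := fun e => h.ne (by rw [← h.l4, e, one_mul])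

/-- the four-group -/
def V : Subgroup G where
  carrier := {g | g = 1 ∨ g = a ∨ g = b ∨ g = a * b}
  one_mem' := Or.inl rfl
  mul_mem' := by
    rintro _ _ (rfl | rfl | rfl | rfl) (rfl | rfl | rfl | rfl) <;>
      simp [h.a2, h.b2, h.l1, h.l2, h.l3, h.l4, h.c2, h.ab.symm]
  inv_mem' := by
    rintro _ (rfl | rfl | rfl | rfl) <;>
      simp [inv_eq_self h.a2, inv_eq_self h.b2, h.ab.symm]

theorem mem_V {g : G} : g ∈ h.V ↔ g = 1 ∨ g = a ∨ g = b ∨ g = a * b := Iff.rfl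
theorem aV : a ∈ h.V := Or.inr (Or.inl rfl)
theorem bV : b ∈ h.V := Or.inr (Or.inr (Or.inl rfl))
theorem V_le {K : Subgroup G} (ha : a ∈ K) (hb : b ∈ K) : h.V ≤ K := by
  rintro _ (rfl | rfl | rfl | rfl)
  exacts [one_mem K, ha, hb, mul_mem ha hb]

theorem sq {g : G} (hg : g ∈ h.V) : g * g = 1 := by
  rcases hg with rfl | rfl | rfl | rfl
  exacts [one_mul 1, h.a2, h.b2, h.c2]

theorem comm {g k : G} (hg : g ∈ h.V) (hk : k ∈ h.V) : g * k = k * g := by
  rw [← inv_eq_self (h.sq (mul_mem hg hk)), mul_inv_rev, inv_eq_self (h.sq hg),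
    inv_eq_self (h.sq hk)]

theorem card : Nat.card h.V = 4 := by
  classical
  have : (h.V : Set G) = ({1, a, b, a * b} : Finset G) := by ext; simp [h.mem_V]
  rw [← SetLike.coe_sort_coe, this, Nat.card_coe_set_eq, Set.ncard_coe_finset,
    Finset.card_insert_of_notMem, Finset.card_insert_of_notMem, Finset.card_pair]
  · simpa using h.a1
  · simpa using ⟨h.ne, h.b1⟩
  · simpa using ⟨h.a1.symm, h.b1.symm, h.c1.symm⟩

theorem isPGroup : IsPGroup 2 h.V := IsPGroup.of_card (n := 2) h.card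

theorem conj (g : G) : Four (g * a * g⁻¹) (g * b * g⁻¹) :=
  ⟨conj_mul_self h.a2 g, conj_mul_self h.b2 g, by rw [conj_mul, conj_mul, h.ab],
    conj_ne_one h.a1 g, conj_ne_one h.b1 g, fun e => h.ne (by simpa using e)⟩

theorem gen [Finite G] {Y K : Subgroup G} (hn : Nrm h.V Y) (ho : ¬ 2 ∣ Nat.card Y)
    (hK : ∀ v ∈ h.V, v ≠ 1 → Y ⊓ C1 v ≤ K) : Y ≤ K := by
  refine le_of_cent1_le (fun g hg k hk => h.comm hk hg) (fun hc => ?_) hn
    (h.card ▸ (Nat.coprime_two_right.2 (Nat.odd_iff.2 (by omega))).pow_right 2) hK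
  have e := eq_of_isCyclic_of_card_eq hc (zpowers_le.2 h.aV) (zpowers_le.2 h.bV) (by
    rw [Nat.card_zpowers, Nat.card_zpowers, orderOf_eq_two h.a2 h.a1, orderOf_eq_two h.b2 h.b1])
  rcases mem_zpowers_order_two' h.a2 (e.le (mem_zpowers b)) with e | e
  exacts [h.b1 e, h.ne e.symm]

end Four

theorem ncard_class [Finite G] (A : Subgroup G) (s : G) :
    (clSupp {s} A).ncard = (C1 s).relIndex A := by
  have : NormedTI {s} A (A ⊓ C1 s) := ⟨⟨s, rfl⟩, inf_le_left,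
    fun l hl a ha => by rw [ha]; exact mem_C1_iff_conj.1 hl.2,
    fun g hg a ha hb => ⟨hg, mem_C1_iff_conj.2 (by rw [ha] at hb; exact hb)⟩⟩
  rw [this.ncard_clSupp, Set.ncard_singleton, one_mul, inf_relIndex_left]

theorem class_mul [Finite G] (A : Subgroup G) (s : G) {P : Set G}
    (h : ∀ y, y ∈ P ↔ ∃ g ∈ A, g * s * g⁻¹ = y) :
    P.ncard * Nat.card ↥(A ⊓ C1 s) = Nat.card A := by
  rw [show P = clSupp {s} A from Set.ext fun y => (h y).trans
    ⟨fun ⟨g, h1, h2⟩ => ⟨s, rfl, g, h1, h2.symm⟩, fun ⟨_, rfl, g, h1, h2⟩ => ⟨g, h1, h2.symm⟩⟩,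
    ncard_class, ← inf_relIndex_left, relIndex_mul_card inf_le_left]

theorem pow_conj_invol {a b : G} (ha : a * a = 1) (hb : b * b = 1) (k : ℕ) :
    a * (a * b) ^ k * a⁻¹ = ((a * b) ^ k)⁻¹ := by
  rw [← conj_pow, ← inv_pow, ← mul_assoc, ha, one_mul, mul_inv_rev, inv_eq_self hb]

theorem comm_of_mem_zpowers [Finite G] {a b z : G} (ha : a * a = 1) (hb : b * b = 1)
    (hz : z ∈ zpowers (a * b)) (z2 : z * z = 1) : z * a = a * z ∧ z * b = b * z := by
  obtain ⟨k, rfl⟩ := mem_powers_iff_mem_zpowers.2 hz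
  beta_reduce at z2 ⊢
  have h1 := pow_conj_invol ha hb k
  rw [inv_eq_self z2, mul_inv_eq_iff_eq_mul] at h1
  refine ⟨h1.symm, ?_⟩
  have h2 := (Commute.refl (a * b)).pow_left k
  rw [Commute, SemiconjBy, ← mul_assoc, ← h1, mul_assoc, mul_assoc, mul_left_cancel_iff] at h2
  exact h2

theorem exists_zp [Finite G] {a b : G} (ha : a * a = 1) (hb : b * b = 1) :
    (∃ k : ℕ, (a * b) ^ (2 * k + 1) = 1 ∧ (a * b) ^ (k + 1) * b * ((a * b) ^ (k + 1))⁻¹ = a) ∨
      ∃ z ∈ zpowers (a * b), z ≠ 1 ∧ z * z = 1 := by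
  have h0 := orderOf_pos (a * b)
  rcases Nat.even_or_odd' (orderOf (a * b)) with ⟨k, e | e⟩
  · refine Or.inr ⟨(a * b) ^ k, pow_mem (mem_zpowers _) k, pow_ne_one_of_lt_orderOf (by omega)
      (by omega), by rw [← pow_add, ← two_mul, ← e, pow_orderOf_eq_one]⟩
  · have h1 : (a * b) ^ (2 * k + 1) = 1 := e ▸ pow_orderOf_eq_one _
    refine Or.inl ⟨k, h1, ?_⟩
    have h2 := pow_conj_invol ha hb (k + 1)
    rw [← h2]
    calc _ = (a * b) ^ (k + 1) * (a * b)⁻¹ * ((a * b) * b * a) * (a * b) ^ (k + 1) * a⁻¹ := by group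
      _ = (a * b) ^ (2 * k + 1) * a⁻¹ := by
        rw [mul_assoc a b b, hb, mul_one, ha, mul_one, pow_succ _ k, mul_inv_cancel_right,
          ← pow_succ, ← pow_add, two_mul, add_assoc]
      _ = a := by rw [h1, one_mul, inv_eq_self ha]

theorem invol_unique [Finite G] {w y z : G} (hy : y ∈ zpowers w) (hz : z ∈ zpowers w)
    (y1 : y ≠ 1) (y2 : y * y = 1) (z1 : z ≠ 1) (z2 : z * z = 1) : z = y := by
  have e := eq_of_isCyclic_of_card_eq (X := zpowers w) inferInstance (zpowers_le.2 hy)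
    (zpowers_le.2 hz) (by
      rw [Nat.card_zpowers, Nat.card_zpowers, orderOf_eq_two y2 y1, orderOf_eq_two z2 z1])
  exact (mem_zpowers_order_two' y2 (e.le (mem_zpowers z))).resolve_left z1

/-- Thompson's counting. -/
theorem thompson_count [Finite G] {H : Type*} [Group H] [Fintype H] [DecidableEq H] {f : H →* G}
    (hf : Function.Injective f) {s : G} (s2 : s * s = 1)
    (hc : ∀ g, g * s = s * g → ∃ m, f m = g) {P : Set G}
    (hP : ∀ v ∈ P, v * v = 1 ∧ ¬ IsConj s v) :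
    P.ncard = ∑ m ∈ Finset.univ.filter fun m : H => m * m = 1 ∧ m ≠ 1,
      {v | v ∈ P ∧ f m ∈ zpowers (s * v)}.ncard := by
  classical
  have := Fintype.ofFinite G
  have h1 : ∀ v, ∃ m : H, v ∈ P → (m * m = 1 ∧ m ≠ 1) ∧ f m ∈ zpowers (s * v) := fun v => by
    by_cases hv : v ∈ P
    · rcases exists_zp s2 (hP v hv).1 with ⟨k, -, e⟩ | ⟨z, hz, z1, z2⟩
      · exact absurd (isConj_iff.2 ⟨_, e⟩).symm (hP v hv).2
      · obtain ⟨m, rfl⟩ := hc z (comm_of_mem_zpowers s2 (hP v hv).1 hz z2).1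
        exact ⟨m, fun _ => ⟨⟨hf (by rw [map_mul, z2, map_one]), fun e => z1 (e ▸ map_one f)⟩, hz⟩⟩
    · exact ⟨1, fun h => absurd h hv⟩
  choose φ hφ using h1
  rw [Set.ncard_eq_toFinset_card', Finset.card_eq_sum_card_fiberwise (f := φ)
    (t := Finset.univ.filter fun m : H => m * m = 1 ∧ m ≠ 1)
    fun v hv => by simpa using (hφ v (by simpa using hv)).1]
  refine Finset.sum_congr rfl fun m hm => ?_
  rw [Set.ncard_eq_toFinset_card']
  congr 1
  ext v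
  simp only [Finset.mem_filter, Set.mem_toFinset, Set.mem_setOf_eq, Finset.mem_univ, true_and]
    at hm ⊢
  refine and_congr_right fun hv => ⟨fun e => e ▸ (hφ v hv).2, fun e => hf ?_⟩
  obtain ⟨⟨a, b⟩, c⟩ := hφ v hv
  exact invol_unique e c (fun e => hm.2 (hf (e.trans (map_one f).symm)))
    (by rw [← map_mul, hm.1, map_one]) (fun e => b (hf (e.trans (map_one f).symm)))
    (by rw [← map_mul, a, map_one])

theorem ncard_conj {P Q : Set G} (g : G) (h : ∀ v, v ∈ P ↔ g * v * g⁻¹ ∈ Q) :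
    P.ncard = Q.ncard := by
  rw [← Set.ncard_image_of_injective P (MulAut.conj g).injective]
  congr 1
  ext v
  exact ⟨fun ⟨w, h1, h2⟩ => h2 ▸ (h w).1 h1, fun hv => ⟨g⁻¹ * v * g, (h _).2 (by
    rwa [show g * (g⁻¹ * v * g) * g⁻¹ = v by group]), by simp [mul_assoc]⟩⟩

theorem conj_mem_zpowers {g z w : G} : g * z * g⁻¹ ∈ zpowers (g * w * g⁻¹) ↔ z ∈ zpowers w :=
  ⟨fun ⟨k, hk⟩ => ⟨k, by simpa [conj_zpow] using hk⟩, fun ⟨k, hk⟩ => ⟨k, by simp [← hk]⟩⟩

/-- Thompson transfer inside `O²(K)`. -/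
theorem not_mem_res [Finite G] {K S Y : Subgroup G} (hS : SylIn 2 S K) {t : G} (ht : t ∈ S)
    (hY : ∀ g ∈ S, g ∈ res 2 K → g * t ∈ Y ∨ g ∈ Y)
    (h2 : ∀ g ∈ K, g * (t * t) * g⁻¹ ∈ S ⊓ Y)
    (h : ∀ g ∈ K, g * t * g⁻¹ ∈ S → g * t * g⁻¹ ∉ Y) : t ∉ res 2 K := fun hr => by
  have hn : Nrm K (res 2 K) := (Nrm.self K).res 2
  have hle := res_le 2 K
  obtain ⟨X, h3, h4, h5⟩ := thompson_in (hS.inf_nrm hle hn) (inf_le_left (b := Y)) (t := t) (by
      rw [inf_relIndex_left]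
      exact relIndex_eq_two_iff_exists_notMem_and.mpr ⟨t, ⟨ht, hr⟩,
        by simpa using h 1 (one_mem _) (by simpa), fun g hg => hY g hg.1 hg.2⟩) hr
    (fun g hg => ⟨⟨(h2 g (hle hg)).1, hn g (hle hg) _ (mul_mem hr hr)⟩, (h2 g (hle hg)).2⟩)
    fun g hg e => h g (hle hg) e.1.1 e.2
  refine h5 ((closure_le X).2 (fun y hy => ?_) hr)
  obtain ⟨n, hn⟩ := Nat.coprime_two_right.1 hy.2
  exact idx2_of_odd h3 h4 (mem_res hy.1 hy.2) (hn ▸ pow_orderOf_eq_one y)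

theorem card_res [Finite G] {K S : Subgroup G} (hS : SylIn 2 S K) :
    Nat.card K * Nat.card ↥(S ⊓ res 2 K) = Nat.card S * Nat.card (res 2 K) := by
  have hn : Nrm K (res 2 K) := (Nrm.self K).res 2
  have h1 := hS.sup_eq (res_le 2 K) hn fun x hx => by
    obtain ⟨k, hk⟩ := exists_pow_coprime Nat.prime_two x
    exact ⟨k, mem_res (pow_mem hx _) hk⟩
  rw [← card_sup_mul_card_inf (hn.mono hS.le), h1]

/-- a self-centralizing four-group with an element permuting its involutions -/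
structure F4 (O : Subgroup G) {a b : G} (h : Four a b) (ρ : G) : Prop where
  aO : a ∈ O
  ρO : ρ ∈ O
  ρa : ρ * a * ρ⁻¹ = b
  ρb : ρ * b * ρ⁻¹ = a * b
  cent : ∀ g ∈ O, g * a = a * g → g ∈ h.V

namespace F4

variable [Finite G] {O : Subgroup G} {a b ρ : G} {h : Four a b} (H : F4 O h ρ)
include H

theorem le : h.V ≤ O := h.V_le H.aO (H.ρa ▸ mul_mem (mul_mem H.ρO H.aO) (inv_mem H.ρO))

theorem ρN : ρ ∈ N h.V := mem_normalizer_of_conj_mem fun _ hv => by
  rcases hv with rfl | rfl | rfl | rfl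
  · simp
  · exact H.ρa ▸ h.bV
  · exact H.ρb ▸ mul_mem h.aV h.bV
  · rw [← conj_mul, H.ρa, H.ρb, h.l2]; exact h.aV

theorem conjV {v : G} (hv : v ∈ h.V) (v1 : v ≠ 1) : ∃ k ∈ O ⊓ N h.V, k * a * k⁻¹ = v := by
  rcases hv with rfl | rfl | rfl | rfl
  · exact absurd rfl v1
  · exact ⟨1, one_mem _, by simp⟩
  · exact ⟨ρ, ⟨H.ρO, H.ρN⟩, H.ρa⟩
  · exact ⟨ρ * ρ, mul_mem ⟨H.ρO, H.ρN⟩ ⟨H.ρO, H.ρN⟩, by rw [← H.ρb, ← H.ρa]; group⟩

theorem cent' {v g : G} (hv : v ∈ h.V) (v1 : v ≠ 1) (hg : g ∈ O) (e : g * v = v * g) :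
    g ∈ h.V := by
  obtain ⟨k, ⟨h1, h2⟩, rfl⟩ := H.conjV hv v1
  have := (CfsgH6.nrm_normalizer h.V) k h2 _ (H.cent (k⁻¹ * g * k)
    (mul_mem (mul_mem (inv_mem h1) hg) h1) (by
      calc k⁻¹ * g * k * a = k⁻¹ * (g * (k * a * k⁻¹)) * k := by group
        _ = _ := by rw [e]; group))
  rwa [show k * (k⁻¹ * g * k) * k⁻¹ = g by group] at this

theorem ti {v g : G} (hv : v ∈ h.V) (v1 : v ≠ 1) (hg : g ∈ O) (e : g * v * g⁻¹ ∈ h.V) :
    g ∈ N h.V := mem_normalizer_of_conj_mem fun w hw =>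
  H.cent' e (conj_ne_one v1 g) (mul_mem (mul_mem hg (H.le hw)) (inv_mem hg))
    (by rw [conj_mul, conj_mul, h.comm hw hv])

theorem syl : SylIn 2 h.V O := by
  obtain ⟨S, h1, h2⟩ := exists_sylIn_ge H.le h.isPGroup
  obtain ⟨w, hw, w1, -, hc⟩ := exists_pow_central Nat.prime_two h2.isPGroup h2.isPGroup
    (Nrm.self S) fun e => h.a1 (mem_bot.1 (e ▸ h1 h.aV))
  rwa [← le_antisymm h1 fun g hg => H.cent' (H.cent w (h2.le hw) (hc a (h1 h.aV)).symm) w1
    (h2.le hg) (hc g hg)] at h2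

theorem invol {u : G} (hu : u ∈ O) (u1 : u ≠ 1) (u2 : u * u = 1) :
    ∃ k ∈ O, k * a * k⁻¹ = u := by
  obtain ⟨g, hg, h1⟩ := H.syl.exists_le_cj (zpowers_le.2 hu) (E2.of_sq u2).zpowers
  obtain ⟨k, hk, e⟩ := H.conjV (mem_cj.1 (h1 (mem_zpowers u)))
    (by simpa using conj_ne_one u1 g⁻¹)
  exact ⟨g * k, mul_mem hg hk.1, by rw [mul_assoc g, mul_inv_rev, ← mul_assoc, mul_assoc g, e]; group⟩

theorem inf_C : O ⊓ C1 a = h.V :=
  le_antisymm (fun g hg => H.cent g hg.1 (mem_C1.1 hg.2))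
    (le_inf H.le fun _ hg => mem_C1.2 (h.comm hg h.aV))

theorem ncard_invol : {u | u ∈ O ∧ u ≠ 1 ∧ u * u = 1}.ncard * 4 = Nat.card O := by
  rw [← h.card, ← H.inf_C]
  exact class_mul O a fun y => ⟨fun hy => H.invol hy.1 hy.2.1 hy.2.2, fun ⟨g, hg, e⟩ =>
    e ▸ ⟨mul_mem (mul_mem hg H.aO) (inv_mem hg), conj_ne_one h.a1 g, conj_mul_self h.a2 g⟩⟩

theorem card_N : Nat.card ↥(O ⊓ N h.V) = 12 := by
  have h1 := class_mul (O ⊓ N h.V) a (P := sharp h.V) fun y => ⟨fun hy => H.conjV hy.1 hy.2,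
    fun ⟨g, hg, e⟩ => e ▸ ⟨CfsgH6.nrm_normalizer _ g hg.2 a h.aV, conj_ne_one h.a1 g⟩⟩
  rw [ncard_sharp, inf_right_comm, H.inf_C, inf_eq_left.2 le_normalizer, h.card] at h1
  omega

theorem cases : O ≤ N h.V ∨ (Nat.card O = 60 ∧ IsSimpleGroup O) := by
  have T := tie_of_subgroup (K := h.V.subgroupOf O)
    (fun k hk k1 g hg => mem_normalizer_of_conj_mem fun w hw => CfsgH6.nrm_normalizer _ _
      (H.ti hk (fun e => k1 (Subtype.ext e)) g.2 hg) _ hw)
    (fun k hk k1 g hg => H.cent' hk (fun e => k1 (Subtype.ext e)) g.2 (congrArg Subtype.val hg))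
    ⟨⟨a, H.aO⟩, h.aV, fun e => h.a1 (congrArg Subtype.val e), Subtype.ext h.a2⟩
  have e0 : normalizer ((h.V.subgroupOf O : Subgroup O) : Set O) = (N h.V).subgroupOf O :=
    (subgroupOf_normalizer_eq H.le).symm
  have c0 : ∀ q : O, Nat.card (cj q (h.V.subgroupOf O)) = 4 := fun q => by
    rw [card_cj, Nat.card_congr (subgroupOfEquivOfLe H.le).toEquiv, h.card]
  rcases subsingleton_or_nontrivial (O ⧸ normalizer ((h.V.subgroupOf O : Subgroup O) : Set O))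
    with hs | hs
  · exact Or.inl (subgroupOf_eq_top.1 (e0 ▸ QuotientGroup.subgroup_eq_top_of_subsingleton _ hs))
  obtain ⟨p, q, hpq⟩ := exists_pair_ne (O ⧸ normalizer ((h.V.subgroupOf O : Subgroup O) : Set O))
  have hq : ∃ c : O ⧸ normalizer ((h.V.subgroupOf O : Subgroup O) : Set O),
      2 < Nat.card (Om (cj c.out (h.V.subgroupOf O))) := ⟨p, by
    rw [show Om (cj p.out (h.V.subgroupOf O)) = cj p.out (h.V.subgroupOf O) from
      Subgroup.ext fun z => (T.mem_Om_iff hpq).trans ⟨fun h => h.1, fun hz => ⟨hz, by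
        have := h.sq (mem_subgroupOf.1 (mem_cj.1 hz))
        rw [← coe_mul, OneMemClass.coe_eq_one] at this
        calc z * z = p.out * (p.out⁻¹ * z * p.out * (p.out⁻¹ * z * p.out)) * p.out⁻¹ := by group
          _ = 1 := by rw [this]; group⟩⟩, c0]
    norm_num⟩
  refine Or.inr ⟨?_, T.isSimpleGroup hq⟩
  have h1 : Nat.card (O ⧸ normalizer ((h.V.subgroupOf O : Subgroup O) : Set O)) = 5 := by
    rw [← Nat.card_congr (Equiv.ofBijective (fun o : Option (cj p.out (h.V.subgroupOf O)) =>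
      o.elim p fun k => k.1 • q) ⟨?_, fun c => ?_⟩), Finite.card_option, c0]
    · have key : ∀ k : cj p.out (h.V.subgroupOf O), k.1 • q ≠ p := fun k e =>
        hpq (MulAction.injective k.1 ((T.fix p k.1 k.2).trans e.symm))
      rintro (_ | k) (_ | l) e
      · rfl
      · exact absurd e.symm (key l)
      · exact absurd e (key k)
      · have := T.eq_one_of_fix hpq.symm (mul_mem (inv_mem l.2) k.2) (by
          rw [mul_smul, inv_smul_eq_iff]; exact e)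
        rw [inv_mul_eq_one] at this
        rw [Subtype.ext this]
    · by_cases hc : c = p
      · exact ⟨none, hc.symm⟩
      · obtain ⟨k, hk, e⟩ := T.K_trans hc hpq.symm hq
        exact ⟨some ⟨k, hk⟩, e⟩
  have h2 := relIndex_mul_card (inf_le_left (a := O) (b := N h.V))
  rw [inf_relIndex_left, H.card_N, relIndex, ← e0, index, h1] at h2
  omega

end F4

end CfsgH3.X32
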