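import Cfsg.Agent.H3.X32Str
import Cfsg.Agent.H3.X32Gen

set_option autoImplicit false

/-! Sylow subgroups and fusion for a centralizer of shape `2^{1+4}.Sym(3)`. -/

namespace CfsgH3.X32

open Subgroup CfsgH5 CfsgH6 CfsgFT CfsgH7

universe u
variable {G : Type u} [Group G] {τ : Bool}

/-- subgroups from decidable predicates -/
def sub {H : Type*} [Group H] (p : H → Prop) (h : p 1 ∧ ∀ a, p a → ∀ b, p b → p (a * b⁻¹)) :
    Subgroup H :=
  Subgroup.ofDiv {a | p a} ⟨1, h.1⟩ fun a ha b hb => h.2 a ha b hb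

theorem mem_sub {H : Type*} [Group H] {p : H → Prop} {h : p 1 ∧ ∀ a, p a → ∀ b, p b → p (a * b⁻¹)}
    {a : H} : a ∈ sub p h ↔ p a := Iff.rfl

theorem card_of_pred {H : Type*} [Group H] [Fintype H] {K : Subgroup H} (p : H → Prop)
    [DecidablePred p] (h : ∀ a, a ∈ K ↔ p a) : Nat.card K = (Finset.univ.filter p).card := by
  rw [← Fintype.card_subtype, ← Nat.card_eq_fintype_card]
  exact Nat.card_congr (Equiv.subtypeEquivRight h)

def pT (m : M τ) : Prop := m.w.val % 3 = 0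
instance : DecidablePred (pT (τ := τ)) := fun _ => inferInstanceAs (Decidable (_ = _))
def pE (m : M τ) : Prop := m.w = 0 ∧ m.q.val < 8
instance : DecidablePred (pE (τ := τ)) := fun _ => inferInstanceAs (Decidable (_ ∧ _))

theorem pT_aux : ∀ τ, pT (1 : M τ) ∧ ∀ a : M τ, pT a → ∀ b, pT b → pT (a * b⁻¹) := by
  decide +kernel
theorem pE_aux : ∀ τ, pE (1 : M τ) ∧ ∀ a : M τ, pE a → ∀ b, pE b → pE (a * b⁻¹) := by
  decide +kernel

def T0 (τ : Bool) : Subgroup (M τ) := sub pT (pT_aux τ)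
def E0 (τ : Bool) : Subgroup (M τ) := sub pE (pE_aux τ)

theorem card_T0 : Nat.card (T0 τ) = 64 := by
  rw [card_of_pred pT fun _ => Iff.rfl]; revert τ; decide +kernel
theorem card_E0 : Nat.card (E0 τ) = 8 := by
  rw [card_of_pred pE fun _ => Iff.rfl]; revert τ; decide +kernel

theorem fZ : ∀ τ, ∀ m : M τ, m * y0 = y0 * m → m * y1 = y1 * m → m * z0 = z0 * m →
    m * z1 = z1 * m → m = 1 ∨ m = s := by decide +kernel
theorem fN : ∀ τ, ∀ m : M τ, pT (m * r * m⁻¹) → pT m := by decide +kernel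
theorem fT : ∀ τ, pT (s : M τ) ∧ pT (y0 : M τ) ∧ pT (y1 : M τ) ∧ pT (z0 : M τ) ∧ pT (z1 : M τ) ∧
    pT (r : M τ) := by decide +kernel
theorem f3 : ∀ τ, ∀ a : M τ, a * a * a = 1 → a ≠ 1 → (∃ k : M τ, k * x * k⁻¹ = a) ∧
    ∀ u, u * u = 1 → u * a = a * u → u = 1 ∨ u = s := by decide +kernel
theorem fsq : ∀ τ, ∀ u : M τ, u.w = 0 → u * u = 1 → u ≠ 1 → u ≠ s →
    (∃ c, c * u = u * c ∧ c * c = s) ∧ ∃ a b : Fin 32, ⟨a, 0⟩ * u = u * ⟨a, 0⟩ ∧
      ⟨b, 0⟩ * u = u * ⟨b, 0⟩ ∧ cm (⟨a, 0⟩ : M τ) ⟨b, 0⟩ = s := by decide +kernel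
theorem fsq' : ∀ τ, ∀ c : M τ, c * c * (c * c) = 1 → (c * c).w = 0 := by decide +kernel
theorem fE : ∀ τ, ∀ e : M τ, pE e → e * e = 1 ∧ (∀ e', pE e' → e * e' = e' * e) ∧
    (∀ m : M τ, pE (m * e * m⁻¹)) ∧ (e = 1 ∨ e = s ∨ ∃ k : M τ, k * y0 * k⁻¹ = e) := by decide +kernel
theorem s_sq : ∀ τ, (s : M τ) * s = 1 := by decide +kernel

namespace Base

variable {f : M τ →* G} (h : Base f)
include h

theorem conj (g : G) : Base ((MulAut.conj g).toMonoidHom.comp f) :=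
  ⟨(MulAut.conj g).injective.comp h.inj, fun a ha => by
    obtain ⟨m, hm⟩ := h.cent (g⁻¹ * a * g) (by
      change a * (g * f s * g⁻¹) = g * f s * g⁻¹ * a at ha
      calc _ = g⁻¹ * (a * (g * f s * g⁻¹)) * g := by group
        _ = _ := by rw [ha]; group)
    exact ⟨m, by change g * f m * g⁻¹ = a; rw [hm]; group⟩⟩

theorem aut {ψ : M τ →* M τ} (h1 : Function.Surjective ψ) (h2 : ψ s = s) : Base (f.comp ψ) :=
  ⟨h.inj.comp (Finite.injective_iff_surjective.2 h1), fun a ha => by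
    obtain ⟨m, rfl⟩ := h.cent a (by rwa [MonoidHom.comp_apply, h2] at ha)
    obtain ⟨m, rfl⟩ := h1 m
    exact ⟨m, rfl⟩⟩

theorem eq {a b : M τ} (e : f a = f b) : a = b := h.inj e
theorem ne {a : M τ} (e : a ≠ 1) : f a ≠ 1 := fun e' => e (h.inj (e'.trans (map_one f).symm))
theorem s1 : f s ≠ 1 := h.ne (s_ne τ)
theorem comm {a b : M τ} (e : f a * f b = f b * f a) : a * b = b * a :=
  h.inj (by rw [map_mul, e, map_mul])
theorem sq {a : M τ} (e : f a * f a = 1) : a * a = 1 := h.inj (by rw [map_mul, e, map_one])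

omit h in
theorem s2 : f s * f s = 1 := by rw [← map_mul, s_sq, map_one]

omit h in
theorem sc (m : M τ) : f m * f s = f s * f m := by rw [← map_mul, s_cen, map_mul]

theorem range : f.range = C1 (f s) :=
  le_antisymm (by rintro _ ⟨m, rfl⟩; exact mem_C1.2 (sc m)) fun g hg => h.cent g (mem_C1.1 hg)

theorem card_map (K : Subgroup (M τ)) : Nat.card (K.map f) = Nat.card K :=
  card_map_of_injective h.inj

theorem card_C : Nat.card (C1 (f s)) = 192 := by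
  rw [← h.range, ← Nat.card_congr (MonoidHom.ofInjective h.inj).toEquiv, card_M]

theorem cen_T {g : G} (hg : ∀ m, pT m → g * f m = f m * g) : g = 1 ∨ g = f s := by
  obtain ⟨t1, t2, t3, t4, t5, -⟩ := fT τ
  obtain ⟨m, rfl⟩ := h.cent g (hg s t1)
  rcases fZ τ m (h.comm (hg _ t2)) (h.comm (hg _ t3)) (h.comm (hg _ t4)) (h.comm (hg _ t5)) with
    rfl | rfl
  exacts [Or.inl (map_one f), Or.inr rfl]

theorem N_T {g : G} (hg : cj g ((T0 τ).map f) = (T0 τ).map f) : g ∈ (T0 τ).map f := by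
  have h1 : g * f s = f s * g := by
    rcases h.cen_T (g := g * f s * g⁻¹) fun m hm => by
      obtain ⟨k, -, hk⟩ := mem_cj.1 (hg.ge ⟨m, hm, rfl⟩)
      calc _ = g * (f s * (g⁻¹ * f m * g)) * g⁻¹ := by group
        _ = _ := by rw [← hk, ← sc, hk]; group
      with e | e
    · exact absurd e (conj_ne_one h.s1 g)
    · exact mul_inv_eq_iff_eq_mul.1 e
  obtain ⟨m, rfl⟩ := h.cent g h1
  obtain ⟨k, hk, e⟩ := hg.le (conj_mem_cj.2 ⟨r, (fT τ).2.2.2.2.2, rfl⟩)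
  rw [← map_inv, ← map_mul, ← map_mul] at e
  exact ⟨m, fN τ m (h.eq e ▸ hk), rfl⟩

variable [Finite G]

theorem syl : SylIn 2 ((T0 τ).map f) ⊤ := by
  have h1 : IsPGroup 2 ((T0 τ).map f) := IsPGroup.of_card (n := 6) (by rw [h.card_map, card_T0]; rfl)
  obtain ⟨S, h2, h3⟩ := exists_sylIn_ge le_top h1
  rcases h2.eq_or_lt with e | e
  · exact e ▸ h3
  · obtain ⟨g, -, g1, g2⟩ := exists_nrm_of_lt h3.isPGroup e
    exact absurd (h.N_T (mem_normalizer_iff_cj.1 g2)) g1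

theorem invol {H : Subgroup G} (hH : ∀ m, f m ∈ H) {u : G} (hu : u ∈ H) (u2 : u * u = 1) :
    ∃ k ∈ H, ∃ m, pT m ∧ m * m = 1 ∧ u = k * f m * k⁻¹ := by
  obtain ⟨g, hg, h1⟩ := (h.syl.of_le (by rintro _ ⟨m, -, rfl⟩; exact hH m) le_top).exists_le_cj
    (zpowers_le.2 hu) (E2.of_sq u2).zpowers
  obtain ⟨m, hm, e⟩ := mem_cj.1 (h1 (mem_zpowers u))
  exact ⟨g, hg, m, hm, h.sq (by
    rw [e, show g⁻¹ * u * g * (g⁻¹ * u * g) = g⁻¹ * (u * u) * g by group, u2]; group),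
    by rw [e]; group⟩

theorem not_64 {t : G} (t1 : t ≠ 1) (hc : ¬ IsConj (f s) t) : ¬ 64 ∣ Nat.card (C1 t) := fun hd => by
  obtain ⟨S, hS⟩ := exists_sylIn 2 (C1 t)
  have h1 : 64 ≤ Nat.card S := Nat.le_of_dvd Nat.card_pos
    ((((Nat.Prime.coprime_iff_not_dvd Nat.prime_two).2 hS.not_dvd_relIndex).pow_left
      6).dvd_of_dvd_mul_left (by rwa [relIndex_mul_card hS.le]))
  obtain ⟨g, -, hg⟩ := (h.syl.of_card_le le_top hS.isPGroup
    (by rwa [h.card_map, card_T0])).conj h.syl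
  rcases h.cen_T (g := g * t * g⁻¹) fun m hm => by
    have := mem_C1.1 (hS.le (mem_cj.1 (hg.ge ⟨m, hm, rfl⟩)))
    calc _ = g * (t * (g⁻¹ * f m * g)) * g⁻¹ := by group
      _ = _ := by rw [← this]; group
    with e | e
  · exact conj_ne_one t1 g e
  · exact hc (isConj_iff.2 ⟨g, e⟩).symm

omit [Finite G] in
/-- an element of order three centralizes no four-group through a conjugate of `s` -/
theorem cent3 {a u v : G} (a3 : a * a * a = 1) (a1 : a ≠ 1) (hu : IsConj (f s) u)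
    (au : a * u = u * a) (v2 : v * v = 1) (vu : v * u = u * v) (va : v * a = a * v) :
    v = 1 ∨ v = u := by
  obtain ⟨g, rfl⟩ := isConj_iff.1 hu
  have h' := h.conj g
  obtain ⟨a, rfl⟩ := h'.cent a au
  obtain ⟨v, rfl⟩ := h'.cent v vu
  rcases (f3 τ a (h'.inj (by rw [map_mul, map_mul, a3, map_one])) (fun e => a1 (e ▸ map_one _))).2
    v (h'.sq v2) (h'.comm va) with rfl | rfl
  exacts [Or.inl (map_one _), Or.inr rfl]

omit [Finite G] in
theorem conj3 {a u : G} (a3 : a * a * a = 1) (a1 : a ≠ 1) (hu : IsConj (f s) u)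
    (au : a * u = u * a) : IsConj (f x) a := by
  obtain ⟨g, rfl⟩ := isConj_iff.1 hu
  have h' := h.conj g
  obtain ⟨a, rfl⟩ := h'.cent a au
  obtain ⟨k, rfl⟩ := (f3 τ a (h'.inj (by rw [map_mul, map_mul, a3, map_one]))
    (fun e => a1 (e ▸ map_one _))).1
  exact isConj_iff.2 ⟨g * f k * g⁻¹ * g, by simp [mul_assoc]⟩

omit [Finite G] in
/-- the neighbouring centralizer -/
theorem step {u : M τ} (u0 : u.w = 0) (u2 : u * u = 1) (us : u ≠ s) {g : G}
    (hg : g * f s * g⁻¹ = f u) :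
    ∃ v : M τ, v.w = 0 ∧ v * v = 1 ∧ v ≠ 1 ∧ v ≠ s ∧ g * f v * g⁻¹ = f s := by
  obtain ⟨c, c1, c2⟩ := (fsq τ u u0 u2 (fun e => conj_ne_one h.s1 g (by rw [hg, e, map_one])) us).1
  obtain ⟨d, hd⟩ := (h.conj g).cent (f c) (by
    change f c * (g * f s * g⁻¹) = g * f s * g⁻¹ * f c
    rw [hg, ← map_mul, c1, map_mul])
  have e : g * f (d * d) * g⁻¹ = f s := by
    rw [← c2, map_mul, map_mul, ← hd, cjm]; rfl
  have e2 : d * d * (d * d) = 1 := (h.conj g).sq (by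
    change g * f (d * d) * g⁻¹ * (g * f (d * d) * g⁻¹) = 1
    rw [e, s2])
  exact ⟨d * d, fsq' τ d e2, e2, fun e' => h.s1 (by rw [← e, e', map_one]; group),
    fun e' => us (h.eq (by rw [← hg, ← e', e, e'])), e⟩

end Base

end CfsgH3.X32
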