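import Cfsg.Agent.H3.X32M1
import Cfsg.Agent.H8.M12RecD

set_option autoImplicit false

/-! The `M₁₂` case: the centralizer of an element of order three. -/

namespace CfsgH3.X32

open Subgroup CfsgH5 CfsgH6 CfsgFT CfsgH7 CfsgH8 CfsgH8.M12

universe u
variable {G : Type u} [Group G]

/-- an element of order three normalized by a four-group -/
structure Z3 (z s r : G) : Prop where
  four : Four s r
  z3 : z ^ 3 = 1
  z1 : z ≠ 1
  sz : s * z = z * s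
  rz : r * z * r⁻¹ = z⁻¹
  cz : ∀ g, g * z = z * g → g * s = s * g → g ^ 3 ∈ zpowers s ∧ (g ^ 3 = 1 → g ∈ zpowers z)
  cube : ∀ v ∈ four.V, v ≠ 1 → ∀ a, a * v = v * a → ¬ 2 ∣ orderOf a → a ^ 3 = 1
  conj : ∀ v ∈ four.V, v ≠ 1 → ∀ a, a * v = v * a → a ^ 3 = 1 → a ≠ 1 → IsConj z a
  c9 : ∀ v ∈ four.V, v ≠ 1 → ¬ 9 ∣ Nat.card (C1 v)
  card : ∀ S : Subgroup G, SylIn 3 S ⊤ → Nat.card S = 27

set_option synthInstance.maxSize 1000 in
theorem fB9 : ∀ i j k l p q : Fin 3, M4.mul (1, 0, i, j) (1, 0, i, j) = M4.one →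
    M4.mul (2, 0, k, l) (2, 0, k, l) = M4.one →
    M4.mul (1, 0, i, j) (2, 0, k, l) = M4.mul (2, 0, k, l) (1, 0, i, j) →
    M4.pow (p, q, 0, 1) 27 = M4.one → (p = 1 ∧ q = 0) ∨ (i = 0 ∧ j = 1) ∨ (k = 0 ∧ l = 1) ∨
    (M4.mul (1, 0, i, j) (2, 0, k, l)).2.2 = (0, 1) ∨ ∃ n e : Fin 3,
      ((M4.pow (p, q, 0, 1) n).mul (M4.pow (2, 0, k, l) e)).1 = i ∧
      ((M4.pow (p, q, 0, 1) n).mul (M4.pow (2, 0, k, l) e)).2.1 = j := by decide +kernel

namespace Z3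

variable [Finite G] {z s r : G} (h : Z3 z s r)
include h

omit [Finite G] in
theorem ord_z : orderOf z = 3 := orderOf_eq_prime (hp := ⟨Nat.prime_three⟩) h.z3 h.z1

theorem conj_s {g : G} (hg : g ∈ N (zpowers s)) : g * s = s * g := by
  rcases mem_zpowers_order_two' h.four.a2 (conj_mem_of_mem_N hg (mem_zpowers s)) with e | e
  · exact absurd e (conj_ne_one h.four.a1 g)
  · exact mul_inv_eq_iff_eq_mul.1 e

theorem syl2 : SylIn 2 (zpowers s) (C1 z) :=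
  haveI : Fact (Nat.Prime 2) := ⟨Nat.prime_two⟩
  sylIn_of_N (zpowers_le.2 (mem_C1.2 h.sz)) (E2.of_sq h.four.a2).zpowers fun g hg ⟨k, hk⟩ hn =>
    mem_of_pow_mem_of_coprime' (((show Nat.Coprime 2 3 by norm_num).pow_left k).coprime_dvd_left
      (orderOf_dvd_of_pow_eq_one hk)) (h.cz g (mem_C1.1 hg) (h.conj_s hn)).1

theorem sdp : SDP (Opc 2 (C1 z)) (zpowers s) (C1 z) :=
  h.syl2.sdp_of_le_C Nat.prime_two fun g hg => by
    rw [C_zpowers]; exact mem_C1.2 (h.conj_s hg.2)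

theorem cardC : Nat.card (C1 z) = Nat.card (Opc 2 (C1 z)) * 2 := by
  rw [← h.sdp.card, Nat.card_zpowers, orderOf_eq_two h.four.a2 h.four.a1]

theorem nrmV : Nrm h.four.V (Opc 2 (C1 z)) :=
  Nrm.Opi _ (nrm_of_le_N (h.four.V_le (le_N _ (mem_C1.2 h.sz))
    (mem_N.2 (by rw [cj_C1, h.rz, C1_inv]))))

omit h in
theorem odd {y : G} (hy : y ∈ Opc 2 (C1 z)) : ¬ 2 ∣ orderOf y := fun e =>
  not_dvd_card_Opc Nat.prime_two _ (e.trans (Subgroup.orderOf_dvd_natCard _ hy))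

theorem p3 : IsPGroup 3 (Opc 2 (C1 z)) := by
  refine (piG_single Nat.prime_three).1 fun q hq hd => ?_
  by_contra h3
  have ho := not_dvd_card_Opc Nat.prime_two (C1 z)
  obtain ⟨P, h1, h2⟩ := exists_sylIn_nrm_of_coprime h.nrmV
    (coprime_Opc Nat.prime_two _ h.four.isPGroup)
    (Or.inr (solvable_of_isPGroup Nat.prime_two h.four.isPGroup)) hq
  refine h1.ne_bot hq hd (le_bot_iff.1 (h.four.gen h2 (fun e => ho (e.trans (card_dvd_of_le h1.le)))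
    fun v hv v1 a ha => ?_))
  refine eq_one_of_coprime_of_mem h1.isPGroup ha.1 (Nat.Coprime.coprime_dvd_left
    (orderOf_dvd_of_pow_eq_one (h.cube v hv v1 a (mem_C1.1 ha.2) (odd (h1.le ha.1)))) ?_)
  exact (Nat.coprime_primes Nat.prime_three hq).2 fun e => h3 e.symm

theorem syl3 : SylIn 3 (Opc 2 (C1 z)) (C1 z) :=
  haveI : Fact (Nat.Prime 3) := ⟨Nat.prime_three⟩
  sylIn_of_not_dvd (Opc_le _ _) h.p3 (by
    rw [h.sdp.relIndex_left, Nat.card_zpowers, orderOf_eq_two h.four.a2 h.four.a1]; norm_num)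

theorem le_Y {X : Subgroup G} (h1 : X ≤ C1 z) (h2 : IsPGroup 3 X) : X ≤ Opc 2 (C1 z) :=
  h.syl3.le_of_nrm' Nat.prime_three h1 h2 ((nrm_Opc _ _).mono h1)

theorem zY : z ∈ Opc 2 (C1 z) :=
  h.le_Y (zpowers_le.2 (self_mem_C1 z)) (isPGroup_zpowers h.z3) (mem_zpowers z)

theorem dvd27 : Nat.card (Opc 2 (C1 z)) ∣ 27 := by
  obtain ⟨S, hS⟩ := exists_sylIn 3 (⊤ : Subgroup G)
  exact h.card S hS ▸ hS.card_dvd Nat.prime_three le_top h.p3

theorem comm {a b : G} (ha : a ∈ Opc 2 (C1 z)) (hb : b ∈ Opc 2 (C1 z)) :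
    a * b * a⁻¹ * b⁻¹ ∈ zpowers z := by
  have hn : Nrm (Opc 2 (C1 z)) (zpowers z) := nrm_of_le_C (C_zpowers z ▸ Opc_le _ _)
  refine (ab_quo_iff hn).1 (ab_of_card_dvd_sq Nat.prime_three ?_) (commutator_mem_commutator ha hb)
  have h1 := relIndex_mul_card (zpowers_le.2 h.zY)
  have h2 := h.dvd27
  rw [← h1, Nat.card_zpowers, h.ord_z] at h2
  rw [card_quo hn]
  exact Nat.dvd_of_mul_dvd_mul_right (by norm_num) (show _ ∣ 3 ^ 2 * 3 from h2)

theorem cubeY {y : G} (hy : y ∈ Opc 2 (C1 z)) : y ^ 3 = 1 := by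
  let K : Subgroup G :=
    { carrier := {y | y ∈ Opc 2 (C1 z) ∧ y ^ 3 = 1}
      one_mem' := ⟨one_mem _, one_pow 3⟩
      inv_mem' := fun h => ⟨inv_mem h.1, by rw [inv_pow, h.2, inv_one]⟩
      mul_mem' := fun {a b} ha hb => ⟨mul_mem ha.1 hb.1, by
        obtain ⟨i, hi⟩ := h.comm hb.1 ha.1
        have c1 : Commute a (z ^ i) := Commute.zpow_right (mem_C1.1 (Opc_le _ _ ha.1)) i
        have c2 : Commute b (z ^ i) := Commute.zpow_right (mem_C1.1 (Opc_le _ _ hb.1)) i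
        have c3 : (z ^ i) ^ 3 = 1 := by
          rw [← zpow_natCast, ← zpow_mul, mul_comm, zpow_mul, zpow_natCast, h.z3, one_zpow]
        beta_reduce at hi
        generalize z ^ i = c at hi c1 c2 c3
        have e : b * a = c * (a * b) := by rw [hi]; group
        calc (a * b) ^ 3 = a * (b * a) * (b * a) * b := by simp only [pow_succ, pow_zero]; group
          _ = a * c * a * (b * c) * (a * b) * b := by rw [e]; group
          _ = a * c * (a * c) * (b * a) * b * b := by rw [c2.eq]; group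
          _ = (a * c) * (a * c) * (c * a) * (b * b * b) := by rw [e]; group
          _ = (a * c) ^ 3 * b ^ 3 := by rw [← c1.eq, pow_three', pow_three']
          _ = 1 := by rw [c1.mul_pow, ha.2, hb.2, c3]; simp⟩ }
  exact (h.four.gen (K := K) h.nrmV (not_dvd_card_Opc Nat.prime_two _)
    (fun v hv v1 a ha => ⟨ha.1, h.cube v hv v1 a (mem_C1.1 ha.2) (odd ha.1)⟩) hy).2

theorem card27 : Nat.card (Opc 2 (C1 z)) = 27 := by
  haveI : Fact (Nat.Prime 3) := ⟨Nat.prime_three⟩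
  by_contra hne
  obtain ⟨S, h1, hS⟩ := exists_sylIn_ge le_top h.p3
  have h2 := h.card S hS
  obtain ⟨g, g0, g1, g2⟩ := exists_nrm_of_lt hS.isPGroup
    (h1.lt_of_ne fun e => hne (e ▸ h2))
  obtain ⟨⟨w, w0, w2⟩, w1⟩ := ne_bot_iff_exists_ne_one.1 (Z_ne_bot_of_nilpotent
    (hS.isPGroup.isNilpotent) fun e => by rw [e, card_bot] at h2; omega)
  replace w1 : w ≠ 1 := fun e => w1 (Subtype.ext e)
  have wY : w ∈ Opc 2 (C1 z) := h.le_Y (zpowers_le.2 (mem_C1.2 (mem_C.1 w2 z (h1 h.zY)).symm))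
    (hS.isPGroup.to_le (zpowers_le.2 w0)) (mem_zpowers w)
  have h9 : Nat.card (Opc 2 (C1 z)) ∣ 3 ^ 2 := by
    obtain ⟨k, hk, e⟩ := (Nat.dvd_prime_pow Nat.prime_three).1 (show _ ∣ 3 ^ 3 from h.dvd27)
    rw [e] at hne ⊢
    exact pow_dvd_pow 3 (by by_contra; exact hne (by rw [show k = 3 by omega]; rfl))
  have nc : ¬ IsConj z w := fun e => by
    have h3 := card_dvd_of_le (le_C1_iff.2 w2)
    rw [h2, ← card_Cx_of_isConj e, h.cardC] at h3
    have := Nat.le_of_dvd (by norm_num) h9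
    have := Nat.le_of_dvd (Nat.mul_pos Nat.card_pos (by norm_num)) h3
    omega
  have wz : w ∉ zpowers z := fun e => by
    rcases mem_zpowers_three h.z3 e with e | e | e
    · exact w1 e
    · exact nc (e ▸ IsConj.refl _)
    · exact nc (isConj_iff.2 ⟨r, h.rz.trans e.symm⟩)
  have hB : Bas (Opc 2 (C1 z)) z w := by
    refine ⟨?_, fun _ => h.cubeY, ab_iff.1 (ab_of_card_dvd_sq Nat.prime_three h9), h.zY, wY, h.z1, wz⟩
    have h3 := card_lt_of_lt ((zpowers_le.2 h.zY).lt_of_ne fun e => wz (e.ge wY))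
    rw [Nat.card_zpowers, h.ord_z] at h3
    obtain ⟨k, hk, e⟩ := (Nat.dvd_prime_pow Nat.prime_three).1 h9
    interval_cases k <;> omega
  obtain ⟨i, j, e1⟩ := hB.surj (h.nrmV s h.four.aV w wY)
  obtain ⟨k, l, e2⟩ := hB.surj (h.nrmV r h.four.bV w wY)
  obtain ⟨p, q, e3⟩ := hB.surj (conj_mem_of_mem_N g2 h.zY)
  have a1 : Acts z w s (1, 0, i, j) := ⟨by rw [h.sz, mul_inv_cancel_right, el_one_zero], e1⟩
  have a2 : Acts z w r (2, 0, k, l) := ⟨h.rz.trans hB.el_two_zero.symm, e2⟩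
  have a3 : Acts z w g (p, q, 0, 1) :=
    ⟨e3, by rw [mem_C.1 w2 g g0, mul_inv_cancel_right, el_zero_one]⟩
  have fix : ∀ v ∈ h.four.V, v ≠ 1 → v * w * v⁻¹ ≠ el z w 0 1 := fun v hv v1 e =>
    nc (h.conj v hv v1 w (by rw [el_zero_one] at e; exact (mul_inv_eq_iff_eq_mul.1 e).symm)
      (h.cubeY wY) w1)
  rcases fB9 i j k l p q (hB.unique (hB.mul a1 a1) (h.four.a2 ▸ Bas.one))
    (hB.unique (hB.mul a2 a2) (h.four.b2 ▸ Bas.one))
    (hB.unique (hB.mul a1 a2) (h.four.ab ▸ hB.mul a2 a1))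
    (hB.unique (hB.pow a3 27) ((show g ^ 27 = 1 from congrArg Subtype.val
      (h2 ▸ pow_card_eq_one' (x := (⟨g, g0⟩ : S)))) ▸ Bas.one)) with
    ⟨rfl, rfl⟩ | ⟨rfl, rfl⟩ | ⟨rfl, rfl⟩ | e | ⟨n, e, e4, e5⟩
  · rw [el_one_zero] at e3
    exact g1 (h.le_Y (zpowers_le.2 (mem_C1_iff_conj.2 e3)) (hS.isPGroup.to_le (zpowers_le.2 g0))
      (mem_zpowers g))
  · exact fix s h.four.aV h.four.a1 e1
  · exact fix r h.four.bV h.four.b1 e2
  · have := (hB.mul a1 a2).2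
    rw [e] at this
    exact fix _ (mul_mem h.four.aV h.four.bV) h.four.c1 this
  · have := (hB.mul (hB.pow a3 n) (hB.pow a2 e)).1
    rw [e4, e5, ← e1] at this
    exact nc ((isConj_iff.2 ⟨_, this⟩).trans (isConj_iff.2 ⟨s, rfl⟩).symm)

theorem sylT : SylIn 3 (Opc 2 (C1 z)) ⊤ := by
  haveI : Fact (Nat.Prime 3) := ⟨Nat.prime_three⟩
  obtain ⟨S, hS⟩ := exists_sylIn 3 (⊤ : Subgroup G)
  exact hS.of_card_le le_top h.p3 (by rw [h.card S hS, h.card27])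

theorem fix_s : Opc 2 (C1 z) ⊓ C1 s = zpowers z :=
  le_antisymm (fun g hg => (h.cz g (mem_C1.1 (Opc_le _ _ hg.1)) (mem_C1.1 hg.2)).2 (h.cubeY hg.1))
    (zpowers_le.2 ⟨h.zY, mem_C1.2 h.sz.symm⟩)

theorem inf_V : Opc 2 (C1 z) ⊓ h.four.V = ⊥ := Opc_inf_eq_bot Nat.prime_two _ h.four.isPGroup

theorem trans (hab : Ab (Opc 2 (C1 z))) : ∃ n ∈ N (Opc 2 (C1 z)) ⊓ N h.four.V, n * s * n⁻¹ = r := by
  haveI : Fact (Nat.Prime 2) := ⟨Nat.prime_two⟩
  have hV := h.four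
  have h0 : Opc 2 (C1 z) ⊓ C1 r ≠ ⊥ := fun e => by
    have h1 := h.four.gen (K := zpowers z ⊔ (Opc 2 (C1 z) ⊓ C1 (s * r))) h.nrmV
      (not_dvd_card_Opc Nat.prime_two _) fun v hv v1 => by
        rcases hV.mem_V.1 hv with rfl | rfl | rfl | rfl
        · exact absurd rfl v1
        · exact h.fix_s.le.trans le_sup_left
        · exact e.le.trans bot_le
        · exact le_sup_right
    have h2 := (card_dvd_of_le h1).trans (card_sup_dvd (Or.inr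
      ((hab.nrm (zpowers_le.2 h.zY)).mono inf_le_left)))
    rw [h.card27, Nat.card_zpowers, h.ord_z] at h2
    exact h.c9 _ (mul_mem hV.aV hV.bV) hV.c1 ((Nat.dvd_of_mul_dvd_mul_left (by norm_num)
      (show 3 * 9 ∣ _ from h2)).trans (card_dvd_of_le inf_le_right))
  obtain ⟨⟨a, a0, a2⟩, a1⟩ := ne_bot_iff_exists_ne_one.1 h0
  replace a1 : a ≠ 1 := fun e => a1 (Subtype.ext e)
  replace a2 : a * r = r * a := mem_C1.1 a2
  have sa : s * a * s⁻¹ = a⁻¹ := by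
    have b0 := h.nrmV s hV.aV a a0
    have b1 : a * (s * a * s⁻¹) ∈ zpowers z := h.fix_s.le ⟨mul_mem a0 b0, mem_C1_iff_conj'.2 (by
      rw [cjm, hab.comm a0 b0, show s * (s * a * s⁻¹) * s⁻¹ = s * s * a * (s * s)⁻¹ by group,
        hV.a2]; simp)⟩
    have b2 : r * (a * (s * a * s⁻¹)) * r⁻¹ = a * (s * a * s⁻¹) := by
      rw [cjm, show r * (s * a * s⁻¹) * r⁻¹ = r * s * a * (r * s)⁻¹ by group, ← hV.ab,
        show s * r * a * (s * r)⁻¹ = s * (r * a * r⁻¹) * s⁻¹ by group, ← a2, mul_inv_cancel_right]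
    obtain ⟨i, hi⟩ := b1
    beta_reduce at hi
    rw [← hi, ← conj_zpow, h.rz, inv_zpow, hi] at b2
    refine eq_inv_of_mul_eq_one_right (eq_one_of_coprime_of_pow (p := 2) (k := 1)
      (Nat.coprime_two_right.2 (Nat.odd_iff.2 (by have := odd (mul_mem a0 b0); omega))) ?_)
    rw [pow_one, pow_two, mul_eq_one_iff_eq_inv, b2]
  have sa' : s * a ≠ a * s := fun e => by
    rw [e, mul_inv_cancel_right, eq_inv_iff_mul_eq_one] at sa
    exact odd a0 (orderOf_eq_two sa a1).symm.dvd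
  obtain ⟨g, hg⟩ := isConj_iff.1 (h.conj r hV.bV hV.b1 a a2 (h.cubeY a0) a1)
  obtain ⟨n, ⟨-, n0⟩, hn⟩ := h.sylT.fusion_C Nat.prime_three (hab h.zY) (mem_top g) (hg ▸ hab a0)
  rw [hg] at hn
  have hK := sdp_sup h.nrmV h.inf_V
  have c1 : n * s * n⁻¹ ∈ Opc 2 (C1 z) ⊔ hV.V := by
    obtain ⟨y, hy, e, he, e1⟩ := h.sdp.exists_mul (g := n⁻¹ * r * n) (mem_C1.2 (by
      calc _ = n⁻¹ * (r * (n * z * n⁻¹)) * n := by group
        _ = _ := by rw [← hn, ← a2, hn]; group))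
    have y1 := conj_mem_of_mem_N n0 hy
    rcases mem_zpowers_order_two' hV.a2 he with rfl | rfl
    · rw [mul_one] at e1
      rw [← e1, show n * (n⁻¹ * r * n) * n⁻¹ = r by group] at y1
      exact absurd (h.inf_V.le ⟨y1, hV.bV⟩) hV.b1
    · rw [show n * e * n⁻¹ = (n * y * n⁻¹)⁻¹ * (n * (y * e) * n⁻¹) by group, ← e1,
        show n * (n⁻¹ * r * n) * n⁻¹ = r by group]
      exact mul_mem (mem_sup_left (inv_mem y1)) (mem_sup_right hV.bV)
  have c2 : C1 a ≤ Opc 2 (C1 z) ⊔ hV.V := by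
    rw [hn, ← cj_C1, ← h.sdp.sup, CfsgFT.cj_sup, cj_zpowers, h.sdp.sup, mem_N.1 n0]
    exact sup_le le_sup_left (zpowers_le.2 c1)
  have c3 : n * r * n⁻¹ ∈ Opc 2 (C1 z) ⊔ hV.V :=
    (mul_mem_cancel_left (mem_sup_right hV.aV)).1 (c2 (mem_C1_iff_conj.2 (by
      calc _ = s * (n * (r * (n⁻¹ * a * n) * r⁻¹) * n⁻¹) * s⁻¹ := by group
        _ = s * (n * (r * z * r⁻¹) * n⁻¹) * s⁻¹ := by rw [hn]; group
        _ = (s * (n * z * n⁻¹) * s⁻¹)⁻¹ := by rw [h.rz]; group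
        _ = _ := by rw [← hn, sa, inv_inv])))
  obtain ⟨k, hk, e⟩ := (sylIn_of_not_dvd le_sup_right hV.isPGroup (by
    rw [hK.relIndex_right]; exact not_dvd_card_Opc Nat.prime_two _)).frattini (g := n)
      (mem_N.1 (mem_N_of_cj_le (by
        rw [CfsgFT.cj_sup, mem_N.1 n0]
        exact sup_le le_sup_left (cj_le_iff.2 (hV.V_le (mem_cj.2 (by simpa using c1))
          (mem_cj.2 (by simpa using c3)))))))
  refine ⟨k * n, ⟨mul_mem (hK.normalIn.le_N hk) n0, mem_N.2 e⟩, ?_⟩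
  have c4 : cj k (C1 a) = C1 a := mem_N.1 (sup_le ((le_C1_iff.2 (hab a0)).trans (le_N _))
    (hV.V_le (mem_N.2 (by rw [cj_C1, sa, C1_inv])) (le_N _ (mem_C1.2 a2.symm))) hk)
  have c5 : k * n * s * (k * n)⁻¹ * a = a * (k * n * s * (k * n)⁻¹) := by
    refine mem_C1.1 (c4.le ?_)
    rw [show k * n * s * (k * n)⁻¹ = k * (n * s * n⁻¹) * k⁻¹ by group, conj_mem_cj, hn, ← cj_C1,
      conj_mem_cj]
    exact mem_C1.2 h.sz
  rcases hV.mem_V.1 (e.le (conj_mem_cj.2 hV.aV)) with e | e | e | e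
  · exact absurd e (conj_ne_one hV.a1 _)
  · exact absurd (e ▸ c5) sa'
  · exact e
  · rw [e, mul_assoc, ← a2, ← mul_assoc, ← mul_assoc, mul_left_inj] at c5
    exact absurd c5 sa'

omit [Finite G] in
theorem V_eq (h' : Four s (s * r)) : h'.V = h.four.V := by
  ext g
  rw [Four.mem_V, Four.mem_V, h.four.l1]
  tauto

omit [Finite G] in
theorem mul : Z3 z s (s * r) := by
  have h' : Four s (s * r) := ⟨h.four.a2, h.four.c2, by rw [h.four.l1, h.four.l3], h.four.a1,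
    h.four.c1, fun e => h.four.b1 (left_eq_mul.1 e)⟩
  refine ⟨h', h.z3, h.z1, h.sz, ?_, h.cz, ?_, ?_, ?_, h.card⟩
  · calc _ = s * (r * z * r⁻¹) * s⁻¹ := by group
      _ = (s * z * s⁻¹)⁻¹ := by rw [h.rz]; group
      _ = _ := by rw [h.sz, mul_inv_cancel_right]
  all_goals rw [h.V_eq]
  exacts [h.cube, h.conj, h.c9]

theorem not_ab : ¬ Ab (Opc 2 (C1 z)) := fun hab => by
  haveI : Fact (Nat.Prime 3) := ⟨Nat.prime_three⟩
  have hV := h.four
  obtain ⟨n, n0, n1⟩ := h.trans hab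
  obtain ⟨m, m0, m1⟩ := h.mul.trans hab
  rw [h.V_eq] at m0
  have h1 := class_mul (N (Opc 2 (C1 z)) ⊓ N hV.V) s (P := {s, r, s * r}) fun y => ⟨by
    rintro (rfl | rfl | rfl)
    exacts [⟨1, one_mem _, by simp⟩, ⟨n, n0, n1⟩, ⟨m, m0, m1⟩], by
    rintro ⟨g, hg, rfl⟩
    exact (hV.mem_V.1 (conj_mem_of_mem_N hg.2 hV.aV)).resolve_left (conj_ne_one hV.a1 g)⟩
  rw [Set.ncard_eq_three.2 ⟨_, _, _, hV.ne, fun e => hV.b1 (left_eq_mul.1 e),
    fun e => hV.a1 (right_eq_mul.1 e), rfl⟩] at h1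
  obtain ⟨P, hP⟩ := exists_sylIn 3 (N (Opc 2 (C1 z)) ⊓ N hV.V)
  have h2 : P ≤ Opc 2 (C1 z) := h.sylT.le_of_nrm' Nat.prime_three le_top hP.isPGroup
    (nrm_of_le_N (hP.le.trans inf_le_left))
  have h3 := relIndex_mul_card (le_inf hP.le (((le_inf h2 (hP.le.trans inf_le_right)).trans
    (inf_N_eq_inf_C h.nrmV h.inf_V).le).trans (inf_le_right.trans (C_le_C1 hV.aV))))
  rw [← relIndex_mul_card hP.le, ← h3, ← mul_assoc] at h1
  exact hP.not_dvd_relIndex ⟨_, (Nat.eq_of_mul_eq_mul_right Nat.card_pos h1).symm⟩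

theorem hs : Hs (Opc 2 (C1 z)) z := by
  obtain ⟨w, hw⟩ := exists_hs h.card27 (fun _ => h.cubeY) fun e => h.not_ab (ab_iff.2 e)
  rcases mem_zpowers_three hw.z3 (hw.cen z h.zY fun s hs => mem_C1.1 (Opc_le _ _ hs)) with
    e | e | e
  · exact absurd e h.z1
  · exact e ▸ e ▸ hw
  · have := hw.inv
    rwa [← e] at this

theorem cz' : Cz (Opc 2 (C1 z)) z s :=
  ⟨h.hs, by rw [h.cardC, h.card27], mem_C1.2 h.sz, h.four.a2, h.fix_s⟩

end Z3

end CfsgH3.X32
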