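import Cfsg.Agent.H3.X32M2

set_option autoImplicit false

/-! The `M₁₂` case: the amalgam. -/

namespace CfsgH3.X32

open Subgroup CfsgH5 CfsgH6 CfsgFT CfsgH7 CfsgH8 CfsgH8.M12

universe u
variable {G : Type u} [Group G] [Finite G]

theorem exists_hs3 {S : Subgroup G} {z : G} (hS : SylIn 3 S ⊤) (hz : Hs S z) {x : G}
    (hx : orderOf x = 3) (h27 : 27 ∣ Nat.card (Cx x)) {X : Subgroup G}
    (hX : X ≤ Cx x) (hX' : IsPGroup 3 X) : ∃ S', X ≤ S' ∧ Hs S' x := by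
  haveI : Fact (Nat.Prime 3) := ⟨Nat.prime_three⟩
  obtain ⟨S', h1, h2⟩ := exists_sylIn_ge hX hX'
  have h3 : x ∈ S' := mem_of_cube h2 (mem_Cx.2 rfl) (by rw [← hx, pow_orderOf_eq_one]) fun s hs => by
    rwa [← mem_Cx.1 (h2.le hs), mul_inv_cancel_right]
  have h4 : SylIn 3 S' ⊤ := hS.of_card_le le_top h2.isPGroup (hz.card ▸ Nat.le_of_dvd Nat.card_pos
    ((((Nat.Prime.coprime_iff_not_dvd Nat.prime_three).2 h2.not_dvd_relIndex).pow_left
      3).dvd_of_dvd_mul_left (relIndex_mul_card h2.le ▸ h27)))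
  obtain ⟨g, -, rfl⟩ := hS.conj h4
  have h5 := hz.cjj g
  refine ⟨_, h1, ?_⟩
  rcases mem_zpowers_three h5.z3 (h5.cen x h3 fun s hs => mem_Cx.1 (h2.le hs)) with e | e | e
  · simp [e] at hx
  · exact e ▸ h5
  · exact e ▸ h5.inv

theorem side {S : Subgroup G} {z e : G} (h : Cz S z e) (hS : SylIn 3 S ⊤) {t : G}
    (hy : ∀ a ∈ S, a ≠ 1 → t * a * t⁻¹ = a → IsConj z a)
    (t2 : t * t = 1) (te : t * e = e * t) (tz : t * z * t⁻¹ = z⁻¹) :
    ∃ a ∈ S, a ∉ zpowers z ∧ t * a * t⁻¹ = a ∧ e * a * e⁻¹ = a⁻¹ ∧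
      Aff (normalizer ((S ⊓ Cx a : Subgroup G) : Set G)) (S ⊓ Cx a) ∧
      ∀ g, NX z g → g ∈ normalizer ((S ⊓ Cx a : Subgroup G) : Set G) := by
  haveI : Fact (Nat.Prime 2) := ⟨Nat.prime_two⟩
  haveI : Fact (Nat.Prime 3) := ⟨Nat.prime_three⟩
  have := Fintype.ofFinite G
  have nz : ∀ v ∈ zpowers z, t * v * t⁻¹ = v → v = 1 := by
    rintro _ ⟨i, rfl⟩ e
    refine h.hs.eq_one (zpow_mem h.hs.zS i) (e.symm.trans ?_)
    simp only [← conj_zpow, tz, inv_zpow]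
  obtain ⟨a, ha, a1, ta⟩ := h.hs.exists_fix (h.nS (Or.inr tz)) t2
  have ha' : a ∉ zpowers z := fun e => a1 (nz a e ta)
  have ea : e * a * e⁻¹ = a⁻¹ := eq_inv_of_mul_eq_one_right (nz _
    (h.hs.inv_mod (h.nS h.ne) h.e2 h.fix ha) (by
      calc _ = t * a * t⁻¹ * ((t * e) * a * (t * e)⁻¹) := by group
        _ = t * a * t⁻¹ * (e * (t * a * t⁻¹) * e⁻¹) := by rw [te]; group
        _ = _ := by rw [ta]))
  have a3 : orderOf a = 3 := orderOf_eq_prime (h.hs.cube a ha) a1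
  have hc := hy a ha a1 ta
  have hB := h.hs.bas ha ha'
  obtain ⟨V, hV⟩ : ∃ V, V = S ⊓ Cx a := ⟨_, rfl⟩
  have hVS : V ≤ S := hV ▸ inf_le_left
  have hVa : V ≤ Cx a := hV ▸ inf_le_right
  refine ⟨a, ha, ha', ta, ea, ?_⟩
  rw [← hV] at hB ⊢
  have nV : ∀ g, g * z * g⁻¹ ∈ V → g * a * g⁻¹ ∈ V → g ∈ normalizer (V : Set G) :=
    fun g h1 h2 => mem_normalizer_of_conj_mem fun v hv => by
      obtain ⟨i, j, rfl⟩ := hB.surj hv
      rw [el_conj]
      exact el_mem h1 h2 i j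
  have nS : S ≤ normalizer (V : Set G) := fun s hs =>
    mem_normalizer_of_conj_mem fun v hv => h.hs.nrm hVS hB.xV hs hv
  have nC : Cx z ≤ normalizer (V : Set G) := fun g hg => by
    by_cases h1 : g ∈ S
    · exact nS h1
    · exact (mul_mem_cancel_right (nV e (by
        rw [mem_Cx.1 h.ez, mul_inv_cancel_right]; exact hB.xV)
        (ea ▸ inv_mem hB.yV))).1 (nS ((h.mm hg h.ez).2 (iff_of_false h1 h.eS)))
  have nX : ∀ g, NX z g → g ∈ normalizer (V : Set G) := fun g hg => by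
    rcases hg with h1 | h1
    · exact nC (mem_Cx.2 (mul_inv_eq_iff_eq_mul.1 h1))
    · refine (mul_mem_cancel_left (nV t (tz ▸ inv_mem hB.xV) (ta.symm ▸ hB.yV))).1
        (nC (mem_Cx.2 (mul_inv_eq_iff_eq_mul.1 ?_)))
      calc _ = t * (g * z * g⁻¹) * t⁻¹ := by group
        _ = t * z⁻¹ * t⁻¹ := by rw [h1]
        _ = (t * z * t⁻¹)⁻¹ := by group
        _ = _ := by rw [tz, inv_inv]
  have cV : ∀ g, (∀ v ∈ V, g * v = v * g) → g ∈ V := fun g hg => by
    have h1 : g ∈ Cx z := mem_Cx.2 (hg z hB.xV)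
    refine hV ▸ ⟨?_, mem_Cx.2 (hg a hB.yV)⟩
    by_contra h2
    have h3 := h.hs.comm _ ((h.mm h1 h.ez).2 (iff_of_false h2 h.eS)) a ha
    rw [show g * e * a * (g * e)⁻¹ * a⁻¹ = g * (e * a * e⁻¹) * g⁻¹ * a⁻¹ by group, ea,
      hg _ (inv_mem hB.yV), mul_inv_cancel_right] at h3
    exact ha' (inv_mem_iff.1 (h.hs.mem_of_sq (inv_mem ha) h3))
  refine ⟨⟨le_normalizer, hB.card, hB.cube, hB.comm, CfsgH6.nrm_normalizer V, fun g _ => cV g, ?_⟩, nX⟩
  have h1 := Nat.le_of_dvd (by norm_num) (card_normalizer_nine_aux hB.card hB.cube (le_antisymm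
    (fun g hg => cV g fun v hv => (mem_centralizer_iff.1 hg v hv).symm)
    fun g hg => mem_centralizer_iff.2 fun v hv => hB.comm v hv g hg))
  have h2 := relIndex_mul_card (le_normalizer : V ≤ _)
  have h3 : normalizer (S : Set G) ≤ normalizer (V : Set G) := fun g hg => nX g (by
    have h3 : Hs (cj g S) _ := h.hs.cjj g
    rw [mem_normalizer_iff_cj.1 hg] at h3
    rcases mem_zpowers_three h.hs.z3 (h.hs.cen _ h3.zS h3.zc) with e | e | e
    · exact absurd e h3.z1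
    · exact Or.inl e
    · exact Or.inr e)
  have h4 := relIndex_mul_card h3
  have h5 : Cx z ≤ normalizer (S : Set G) := fun g hg => mem_normalizer_of_conj_mem
    (h.nS (Or.inl (by rw [mem_Cx.1 hg, mul_inv_cancel_right])))
  have h6 := relIndex_mul_card h5
  have h7 : (Cx z).relIndex (normalizer (S : Set G)) ≠ 1 := fun e => h.hs.z1 (h.hs.eq_one h.hs.zS
    (by rw [← tz, mem_Cx.1 (relIndex_eq_one.1 e (mem_normalizer_of_conj_mem
      (h.nS (Or.inr tz)))), mul_inv_cancel_right]))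
  have h8 : (normalizer (S : Set G)).relIndex (normalizer (V : Set G)) ≠ 1 := fun e => by
    obtain ⟨S', i1, i3⟩ := exists_hs3 hS h.hs a3 (card_Cx_of_isConj hc ▸ h.card ▸
      by norm_num) hVa (hS.isPGroup.to_le hVS)
    obtain ⟨b, hb, hab⟩ := h.hs.exists_not_comm ha ha'
    refine hab (i3.zc b ((eq_of_le_of_card_ge (fun s hs => mem_of_cube hS trivial (i3.cube s hs)
      (CfsgH6.nrm_normalizer S s (relIndex_eq_one.1 e (mem_normalizer_of_conj_mem fun v hv =>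
        i3.nrm i1 hB.yV hs hv)))) (by rw [i3.card, h.hs.card])).ge hb))
  obtain ⟨P, rfl⟩ := hS.exists_sylow
  have h9 := relIndex_normalizer_modEq P nS
  rw [hB.card] at h2
  rw [h.card] at h6
  have h10 := Nat.card_pos (α := normalizer ((P : Subgroup G) : Set G))
  have h11 : 4 * 108 ≤ Nat.card (normalizer (V : Set G)) := by
    rw [← h4]
    refine Nat.mul_le_mul ?_ (by omega)
    unfold Nat.ModEq at h9
    omega
  omega

theorem Z3.iso {z s r : G} (h : Z3 z s r) (hc : Nat.card G = 12096 ∨ Nat.card G = 95040) :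
    Nonempty (G ≃* Cfsg.Spor.M12) := by
  have hC := h.cz'
  have hS := h.sylT
  have hz := h.hs
  have hV := h.four
  have hy : ∀ t ∈ hV.V, t ≠ 1 → ∀ a ∈ Opc 2 (C1 z), a ≠ 1 → t * a * t⁻¹ = a → IsConj z a :=
    fun t ht t1 a ha a1 e => h.conj t ht t1 a (mul_inv_eq_iff_eq_mul.1 e).symm (h.cubeY ha) a1
  generalize Opc 2 (C1 z) = S at hC hS hz hy
  obtain ⟨a, ha, ha', ta, ea, hA, nA⟩ := side hC hS (hy r hV.bV hV.b1) hV.b2 hV.ab.symm h.rz
  obtain ⟨b, hb, hb', tb, eb, hB, nB⟩ := side hC hS (hy _ (mul_mem hV.aV hV.bV) hV.c1) hV.c2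
    (by rw [hV.l1, hV.l3]) h.mul.rz
  have nS : ∀ s ∈ S, NX z s := fun s hs => Or.inl (by rw [hz.zc s hs, mul_inv_cancel_right])
  have h2 := Am.Amal.core ⟨hA, hB, fun s hs => nB s (nS s hs.1), fun s hs => nA s (nS s hs.1),
    fun h2 => ?_, (hz.bas ha ha').xV, (hz.bas hb hb').xV, hz.z1, fun g hg => ⟨nA g hg, nB g hg⟩⟩
  · generalize (_ ⊔ _ : Subgroup G) = H at h2
    have := card_subgroup_dvd_card H
    rcases h2 with ⟨⟨f⟩⟩ | ⟨⟨f⟩⟩
    · rw [Nat.card_congr f.toEquiv, card_M12] at this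
      rw [eq_top_of_card_eq H (by rw [Nat.card_congr f.toEquiv, card_M12]; omega)] at f
      exact ⟨topEquiv.symm.trans f⟩
    · rw [Nat.card_congr f.toEquiv, Am.card_psl33] at this
      omega
  · have hB := hz.bas ha ha'
    obtain ⟨i, j, h3⟩ := hB.surj (h2.ge (hz.bas hb hb').yV)
    have h4 := hB.conj_el (hB.mul (m := (1, 0, 0, 2)) (n := (2, 0, 0, 1))
      ⟨by rw [h.sz, mul_inv_cancel_right, el_one_zero], ea.trans hB.el_zero_two.symm⟩
      ⟨h.rz.trans hB.el_two_zero.symm, ta.trans (el_zero_one z a).symm⟩) i j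
    rw [← h3, tb, h3] at h4
    obtain ⟨h5, h6⟩ := hB.inj h4
    obtain ⟨rfl, rfl⟩ : i = 0 ∧ j = 0 := by
      clear h3 h4
      revert i j
      decide
    exact hb' (h3 ▸ (el_zero z a).symm ▸ one_mem _)

theorem fX1 : ∀ m : M true, m * x = x * m → (m * m * m = 1 ∨ m * m * m = s) ∧
    (m * m * m = 1 → m = 1 ∨ m = x ∨ m = x⁻¹) := by decide +kernel
theorem fX2 : (r : M true) * r = 1 ∧ (r : M true) ≠ 1 ∧ (s : M true) ≠ r ∧ (x : M true) * x * x = 1 ∧
    (x : M true) ≠ 1 ∧ (r : M true) * x * r⁻¹ = x⁻¹ ∧ (s * r : M true) * (s * r) = 1 ∧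
    (s * r : M true) ≠ 1 ∧ ¬ pZ (s * r : M true) := by decide +kernel

theorem CM.iso {f : M true →* G} (h : CM f) : Nonempty (G ≃* Cfsg.Spor.M12) := by
  haveI : Fact (Nat.Prime 3) := ⟨Nat.prime_three⟩
  obtain ⟨e1, e2, e3, e4, e5, e6, e7, e8, e9⟩ := fX2
  have hV : Four (f s) (f r) := ⟨Base.s2, by rw [← map_mul, e1, map_one], (Base.sc _).symm, h.s1,
    h.ne e2, fun e => e3 (h.eq e)⟩
  have hc : ∀ v ∈ hV.V, v ≠ 1 → IsConj (f s) v := fun v hv v1 => by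
    rcases hV.mem_V.1 hv with rfl | rfl | rfl | rfl
    exacts [absurd rfl v1, IsConj.refl _, h.fr, map_mul f _ _ ▸ h.conj_s e7 e8 e9]
  refine Z3.iso (z := f x) ⟨hV, by rw [pow_three', ← map_mul, ← map_mul, e4, map_one], h.ne e5,
    (Base.sc _).symm, by rw [← map_inv, ← map_mul, ← map_mul, e6, map_inv], fun g g1 g2 => ?_,
    fun v hv v1 a av ho => (pow_three' a).trans (h.cube (hc v hv v1) av ho),
    fun v hv v1 a av a3 a1 => h.conj3 ((pow_three' a).symm.trans a3) a1 (hc v hv v1) av,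
    fun v hv v1 => by rw [← card_Cx_of_isConj (hc v hv v1), h.card_C]; norm_num,
    fun S hS => ?_⟩ h.card
  · obtain ⟨m, rfl⟩ := h.cent g g2
    obtain ⟨m1, m2⟩ := fX1 m (h.comm g1)
    rw [pow_three', ← map_mul, ← map_mul]
    refine ⟨?_, fun e => ?_⟩
    · rcases m1 with e | e <;> rw [e]
      exacts [map_one f ▸ one_mem _, mem_zpowers _]
    · rcases m2 (h.eq (e.trans (map_one f).symm)) with rfl | rfl | rfl
      exacts [map_one f ▸ one_mem _, mem_zpowers _, map_inv f _ ▸ inv_mem (mem_zpowers _)]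
  · have h1 := relIndex_mul_card hS.le
    have h2 := hS.not_dvd_relIndex
    obtain ⟨k, h3⟩ := IsPGroup.iff_card.1 hS.isPGroup
    rw [card_top, h3] at h1
    rw [h3]
    have h4 : k ≤ 3 := by
      by_contra h4
      obtain ⟨j, rfl⟩ : ∃ j, k = 4 + j := ⟨k - 4, by omega⟩
      have : 81 ∣ Nat.card G := ⟨S.relIndex ⊤ * 3 ^ j, by rw [← h1, pow_add]; ring⟩
      rcases h.card with e | e <;> omega
    interval_cases k <;> rcases h.card with e | e <;> omega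

end CfsgH3.X32
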