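import Cfsg.Agent.H3.X32Cert

set_option autoImplicit false
set_option maxRecDepth 100000

/-! Table models of `2^{1+4}_+` and of its two split extensions by `Sym(3)` in which an element of
order three acts without fixed points modulo the centre. -/

namespace CfsgH3.X32

open CfsgH3.TC CfsgH8 Subgroup

def TQ : ℕ := 20092445745530020582826131415459864309969482213650717976541200867610282085084371063193824286129559217506427624331923832597768929673015579558650334986397819409458138290520662814218783214199754178397719481189431701989444597654964170335988539490169637146029758232662374074086897088642996366535562429441863268486004897636766475220417114503171097997454194702469960548035865391986928771782525308463890713246174949504020854778701779246350354569494662966657615635549918264440604377594352353306771689300663585696769296034697675389267182914855672784491333706454725774445769842894259950931412115613791417227439340378095837935493149712847433371663770868800237079956269124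7783971049106438150925805690921780862510880230188975646387925198389810070578290967944724415672306578260097796169475147235929067883453948362630535332572021125229611705941210064875137766748609117874909314267362612781348476496887785190501472908409303419885337266677114419859683048451223328107946451769563004230043005282513494748369054883433698991182500156042942778693534460236712045837636637058829841869915825844686579574898908843685082208968593992092306564455257092436010450107197398032707255087976620600473629679427843104708583283496161509831331300033158971570884119335668652056666945254717974715335564316328373515942501790933865455672513072150447009319594606029849730658645996643640045893797979168644308219955803476295772069138319556225136881226553720103913136003652883479501695173271364508745904451260669392207164546832383597852360364660278900189562424692191708091175505143892000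
def TI : ℕ := 1459937574083722236868775365679964506297781553184
def TW : ℕ := 1594688199524620527790566697582855787748783596603424
def TV : ℕ := 172065856
def TA0 : ℕ := 3449103029979752462473010145326632820886259785639744907569869594885008577762054463349665675905185079563336977345998667196260943055071007017730042219177203470739777973739113758213665688754838850395386265527074511067703695319294333344919824157554750695698017813003157658134234844070095718432
def TA1 : ℕ := 2526287338081562240716053029493408547919440752719614059865819401436715474943510969416108469263347093928424581975124194041833056861519457315396934541649668312918592041166694778974063986002204399704905556851268504330824668198509826629304433019898988545035222744413464048393611732225183811616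

def lk (T k : ℕ) : ℕ := Nat.mod (Nat.shiftRight T (Nat.mul 5 k)) 32
def f32 (n : ℕ) : Fin 32 := ⟨Nat.mod n 32, Nat.mod_lt _ (by decide)⟩
def f6 (n : ℕ) : Fin 6 := ⟨Nat.mod n 6, Nat.mod_lt _ (by decide)⟩
def qm (a b : Fin 32) : Fin 32 := f32 (lk TQ (Nat.add (Nat.mul 32 a.val) b.val))
def qi (a : Fin 32) : Fin 32 := f32 (lk TI a.val)
def wm (a b : Fin 6) : Fin 6 := f6 (lk TW (Nat.add (Nat.mul 6 a.val) b.val))
def wi (a : Fin 6) : Fin 6 := f6 (lk TV a.val)
def ac (τ : Bool) (a : Fin 6) (b : Fin 32) : Fin 32 :=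
  f32 (lk (cond τ TA1 TA0) (Nat.add (Nat.mul 32 a.val) b.val))

theorem qm_assoc : ∀ a b c, qm (qm a b) c = qm a (qm b c) := by decide +kernel
theorem wm_assoc : ∀ a b c, wm (wm a b) c = wm a (wm b c) := by decide +kernel
theorem ac_qm : ∀ τ a b c, ac τ a (qm b c) = qm (ac τ a b) (ac τ a c) := by decide +kernel
theorem ac_wm : ∀ τ a b c, ac τ (wm a b) c = ac τ a (ac τ b c) := by decide +kernel

/-- the extraspecial group -/
@[ext] structure Q5 where
  q : Fin 32
  deriving DecidableEq, Fintype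

instance (priority := high) decAllQ (p : Q5 → Prop) [DecidablePred p] : Decidable (∀ m, p m) :=
  decidable_of_iff (∀ v : Fin 32, p ⟨v⟩) ⟨fun h m => h m.q, fun h _ => h _⟩
instance (priority := high) decExQ (p : Q5 → Prop) [DecidablePred p] : Decidable (∃ m, p m) :=
  decidable_of_iff (∃ v : Fin 32, p ⟨v⟩) ⟨fun ⟨_, h⟩ => ⟨_, h⟩, fun ⟨m, h⟩ => ⟨m.q, h⟩⟩

instance instGroupQ5 : Group Q5 where
  mul a b := ⟨qm a.q b.q⟩
  one := ⟨0⟩
  inv a := ⟨qi a.q⟩
  mul_assoc _ _ _ := Q5.ext (qm_assoc _ _ _)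
  one_mul := by decide +kernel
  mul_one := by decide +kernel
  inv_mul_cancel := by decide +kernel

/-- the extension; `false` is the centralizer in `A₈`, `true` the one in `M₁₂` -/
@[ext] structure M (τ : Bool) where
  q : Fin 32
  w : Fin 6
  deriving DecidableEq, Fintype

instance (priority := high) decAll {τ : Bool} (p : M τ → Prop) [DecidablePred p] :
    Decidable (∀ m, p m) :=
  decidable_of_iff (∀ v : Fin 32, ∀ w : Fin 6, p ⟨v, w⟩) ⟨fun h m => h m.q m.w, fun h _ _ => h _⟩
instance (priority := high) decEx {τ : Bool} (p : M τ → Prop) [DecidablePred p] :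
    Decidable (∃ m, p m) :=
  decidable_of_iff (∃ v : Fin 32, ∃ w : Fin 6, p ⟨v, w⟩)
    ⟨fun ⟨_, _, h⟩ => ⟨_, h⟩, fun ⟨m, h⟩ => ⟨m.q, m.w, h⟩⟩

instance instMulM (τ : Bool) : Mul (M τ) := ⟨fun a b => ⟨qm a.q (ac τ a.w b.q), wm a.w b.w⟩⟩
instance instOneM (τ : Bool) : One (M τ) := ⟨⟨0, 0⟩⟩
instance instInvM (τ : Bool) : Inv (M τ) := ⟨fun a => ⟨ac τ (wi a.w) (qi a.q), wi a.w⟩⟩

theorem M_aux : ∀ τ, ∀ a : M τ, 1 * a = a ∧ a⁻¹ * a = 1 := by decide +kernel

instance instGroupM (τ : Bool) : Group (M τ) := Group.ofLeftAxioms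
  (fun a b c => M.ext (by
    show qm (qm a.q (ac τ a.w b.q)) (ac τ (wm a.w b.w) c.q) =
      qm a.q (ac τ a.w (qm b.q (ac τ b.w c.q)))
    rw [qm_assoc, ac_qm, ac_wm]) (wm_assoc _ _ _))
  (fun a => (M_aux τ a).1) fun a => (M_aux τ a).2

theorem card_Q5 : Nat.card Q5 = 32 := by
  rw [Nat.card_congr (⟨fun a => a.q, fun a => ⟨a⟩, fun _ => rfl, fun _ => rfl⟩ : Q5 ≃ Fin 32)]
  simp

theorem card_M (τ : Bool) : Nat.card (M τ) = 192 := by
  rw [Nat.card_congr (⟨fun a => (a.q, a.w), fun a => ⟨a.1, a.2⟩, fun _ => rfl, fun _ => rfl⟩ :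
    M τ ≃ Fin 32 × Fin 6)]
  simp

variable {G : Type*} [Group G]

/-- the relations of the extraspecial group -/
def RelQ (s y u z v : G) : Prop :=
  s * s = 1 ∧ y * y = 1 ∧ u * u = 1 ∧ z * z = 1 ∧ v * v = 1 ∧ s * y = y * s ∧ s * u = u * s ∧
    s * z = z * s ∧ s * v = v * s ∧ y * u = u * y ∧ z * v = v * z ∧ y * z = z * y ∧
    u * v = v * u ∧ y * v = s * v * y ∧ u * z = s * z * u

/-- the relations of the complement -/
def RelX (s y u z v x r : G) : Prop :=
  x * x * x = 1 ∧ x * s * x⁻¹ = s ∧ x * y * x⁻¹ = u ∧ x * u * x⁻¹ = y * u ∧ x * z * x⁻¹ = v ∧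
    x * v * x⁻¹ = z * v ∧ r * r = 1 ∧ r * x * r⁻¹ = x⁻¹ ∧ r * s * r⁻¹ = s ∧ r * y * r⁻¹ = y

/-- all relations -/
def Rel (τ : Bool) (s y u z v x r : G) : Prop :=
  RelQ s y u z v ∧ RelX s y u z v x r ∧ r * z * r⁻¹ = cond τ (s * y * z) z

instance (τ : Bool) (s y u z v x r : G) [DecidableEq G] : Decidable (Rel τ s y u z v x r) := by
  unfold Rel RelQ RelX; infer_instance

/-- the generators -/
def vals (s y u z v x r a b : G) : ℕ → G
  | 1 => s
  | 2 => y
  | 3 => u
  | 4 => z
  | 5 => v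
  | 6 => x
  | 7 => r
  | 8 => a
  | 9 => b
  | _ => 1

theorem RelQ.sat {s y u z v : G} (h : RelQ s y u z v) (x r a b : G) :
    Sat (vals s y u z v x r a b) relsQ := by
  refine ⟨rfl, ?_⟩
  obtain ⟨h1, h2, h3, h4, h5, h6, h7, h8, h9, h10, h11, h12, h13, h14, h15⟩ := h
  rw [← mul_inv_eq_one] at h6 h7 h8 h9 h10 h11 h12 h13 h14 h15
  simp only [mul_assoc, mul_inv_rev] at h6 h7 h8 h9 h10 h11 h12 h13 h14 h15
  simp only [relsQ, List.mem_cons, List.not_mem_nil, or_false, forall_eq_or_imp, forall_eq,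
    wval_cons, wval_nil, mul_one, sval]
  exact ⟨h1, h2, h3, h4, h5, h6, h7, h8, h9, h10, h11, h12, h13, h14, h15⟩

theorem Rel.sat {τ : Bool} {s y u z v x r : G} (h : Rel τ s y u z v x r) (a b : G) :
    Sat (vals s y u z v x r a b) (cond τ relsM relsA) := by
  refine ⟨rfl, ?_⟩
  obtain ⟨⟨h1, h2, h3, h4, h5, h6, h7, h8, h9, h10, h11, h12, h13, h14, h15⟩,
    ⟨g1, g2, g3, g4, g5, g6, g7, g8, g9, g10⟩, g11⟩ := h
  rw [← mul_inv_eq_one] at h6 h7 h8 h9 h10 h11 h12 h13 h14 h15 g2 g3 g4 g5 g6 g8 g9 g10 g11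
  cases τ <;>
  · simp only [mul_assoc, mul_inv_rev, inv_inv, cond] at *
    simp only [cond, relsA, relsM, List.mem_cons, List.not_mem_nil, or_false, forall_eq_or_imp,
      forall_eq, wval_cons, wval_nil, mul_one, sval]
    exact ⟨h1, h2, h3, h4, h5, h6, h7, h8, h9, h10, h11, h12, h13, h14, h15, g1, g2, g3, g4, g5,
      g6, g7, g8, g9, g10, g11⟩

def bit (n : Fin 32) (i : ℕ) : ℕ := n.val / 2 ^ i % 2

theorem nfQ : ∀ a : Q5, a = (⟨1⟩ : Q5) ^ bit a.q 0 * (⟨2⟩ : Q5) ^ bit a.q 1 *
    (⟨4⟩ : Q5) ^ bit a.q 2 * (⟨8⟩ : Q5) ^ bit a.q 3 * (⟨16⟩ : Q5) ^ bit a.q 4 := by decide +kernel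

theorem RelQ.exists_hom {s y u z v : G} (h : RelQ s y u z v) :
    ∃ f : Q5 →* G, f ⟨1⟩ = s ∧ f ⟨2⟩ = y ∧ f ⟨4⟩ = u ∧ f ⟨8⟩ = z ∧ f ⟨16⟩ = v := by
  have h0 : RelQ (⟨1⟩ : Q5) ⟨2⟩ ⟨4⟩ ⟨8⟩ ⟨16⟩ := by unfold RelQ; decide +kernel
  obtain ⟨f, -, hf⟩ := exists_hom_of_bound (n := 5) (h.sat 1 1 1 1) (h0.sat 1 1 1 1)
    (eq_top_iff.2 fun a _ => by
      have m := fun i => mem_Gen (n := 5) (vals (⟨1⟩ : Q5) ⟨2⟩ ⟨4⟩ ⟨8⟩ ⟨16⟩ 1 1 1 1) (a := i)
      rw [nfQ a]
      exact mul_mem (mul_mem (mul_mem (mul_mem (pow_mem (m 1 (by omega) (by omega)) _)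
        (pow_mem (m 2 (by omega) (by omega)) _)) (pow_mem (m 3 (by omega) (by omega)) _))
        (pow_mem (m 4 (by omega) (by omega)) _)) (pow_mem (m 5 (by omega) (by omega)) _))
    fun h3 => by rw [card_Q5]; exact boundQ h3
  exact ⟨f, hf 1 (by omega) (by omega), hf 2 (by omega) (by omega), hf 3 (by omega) (by omega),
    hf 4 (by omega) (by omega), hf 5 (by omega) (by omega)⟩

variable {τ : Bool}

def s : M τ := ⟨1, 0⟩
def y0 : M τ := ⟨2, 0⟩
def y1 : M τ := ⟨4, 0⟩
def z0 : M τ := ⟨8, 0⟩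
def z1 : M τ := ⟨16, 0⟩
def x : M τ := ⟨0, 1⟩
def r : M τ := ⟨0, 3⟩

theorem nfM : ∀ τ, ∀ a : M τ, a = s ^ bit a.q 0 * y0 ^ bit a.q 1 * y1 ^ bit a.q 2 *
    z0 ^ bit a.q 3 * z1 ^ bit a.q 4 * x ^ (a.w.val % 3) * r ^ (a.w.val / 3) := by decide +kernel

theorem rel0 : ∀ τ, Rel τ (s : M τ) y0 y1 z0 z1 x r := by decide +kernel

theorem le_of_gens {K : Subgroup (M τ)} (h1 : s ∈ K) (h2 : y0 ∈ K) (h3 : y1 ∈ K) (h4 : z0 ∈ K)
    (h5 : z1 ∈ K) (h6 : x ∈ K) (h7 : r ∈ K) (a : M τ) : a ∈ K := by
  rw [nfM τ a]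
  exact mul_mem (mul_mem (mul_mem (mul_mem (mul_mem (mul_mem (pow_mem h1 _) (pow_mem h2 _))
    (pow_mem h3 _)) (pow_mem h4 _)) (pow_mem h5 _)) (pow_mem h6 _)) (pow_mem h7 _)

theorem Rel.exists_hom {s' y u z v x' r' : G} (h : Rel τ s' y u z v x' r') :
    ∃ f : M τ →* G, f s = s' ∧ f y0 = y ∧ f y1 = u ∧ f z0 = z ∧ f z1 = v ∧ f x = x' ∧
      f r = r' := by
  have m := fun i => mem_Gen (n := 7) (vals (s : M τ) y0 y1 z0 z1 x r 1 1) (a := i)
  obtain ⟨f, -, hf⟩ := exists_hom_of_bound (n := 7) (h.sat 1 1) ((rel0 τ).sat 1 1)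
    (eq_top_iff.2 fun a _ => le_of_gens (m 1 (by omega) (by omega)) (m 2 (by omega) (by omega))
      (m 3 (by omega) (by omega)) (m 4 (by omega) (by omega)) (m 5 (by omega) (by omega))
      (m 6 (by omega) (by omega)) (m 7 (by omega) (by omega)) a)
    fun h3 => by
      rw [card_M]
      cases τ
      · exact boundA h3
      · exact boundM h3
  exact ⟨f, hf 1 (by omega) (by omega), hf 2 (by omega) (by omega), hf 3 (by omega) (by omega),
    hf 4 (by omega) (by omega), hf 5 (by omega) (by omega), hf 6 (by omega) (by omega),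
    hf 7 (by omega) (by omega)⟩

/-- commutator -/
def cm (a b : G) : G := a * b * a⁻¹ * b⁻¹

theorem map_cm {H : Type*} [Group H] (f : G →* H) (a b : G) : f (cm a b) = cm (f a) (f b) := by
  simp [cm]

def g4 (i : Fin 4) : Fin 32 := ⟨2 ^ (i.val + 1), by revert i; decide⟩

theorem fInjQ : ∀ m : Q5, m = 1 ∨ m = ⟨1⟩ ∨ ∃ i, cm m ⟨g4 i⟩ = ⟨1⟩ := by decide +kernel

theorem fInj : ∀ τ, ∀ m : M τ, m = 1 ∨ m = s ∨ ∃ i, cm m ⟨g4 i, 0⟩ = s ∨
    ∃ j, cm (cm m ⟨g4 i, 0⟩) ⟨g4 j, 0⟩ = s := by decide +kernel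

theorem injQ_of {f : Q5 →* G} (h : f ⟨1⟩ ≠ 1) : Function.Injective f := by
  refine (injective_iff_map_eq_one f).2 fun m hm => ?_
  rcases fInjQ m with e | e | ⟨i, e⟩
  · exact e
  · exact absurd (e ▸ hm) h
  · exact absurd (by rw [← e, map_cm, hm]; simp [cm]) h

theorem inj_of {f : M τ →* G} (h : f s ≠ 1) : Function.Injective f := by
  refine (injective_iff_map_eq_one f).2 fun m hm => ?_
  rcases fInj τ m with e | e | ⟨i, e | ⟨j, e⟩⟩
  · exact e
  · exact absurd (e ▸ hm) h
  · exact absurd (by rw [← e, map_cm, hm]; simp [cm]) h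
  · exact absurd (by rw [← e, map_cm, map_cm, hm]; simp [cm]) h

theorem s_ne : ∀ τ, (s : M τ) ≠ 1 := by decide +kernel

/-- automorphisms from frames -/
theorem Rel.exists_aut {y u z v x' r' : M τ} (h : Rel τ s y u z v x' r') :
    ∃ f : M τ →* M τ, Function.Surjective f ∧ f s = s ∧ f y0 = y ∧ f y1 = u ∧ f z0 = z ∧
      f z1 = v ∧ f x = x' ∧ f r = r' := by
  obtain ⟨f, hf⟩ := h.exists_hom
  exact ⟨f, Finite.injective_iff_surjective.1 (inj_of (hf.1.symm ▸ s_ne τ)), hf⟩

end CfsgH3.X32
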