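import Cfsg.Agent.H3.X32Mod
import Cfsg.Agent.H7.Loc1

set_option autoImplicit false

/-! The structure of an involution centralizer of shape `2^{1+4}.Sym(3)`. -/

namespace CfsgH3.X32

open Subgroup CfsgH5 CfsgH6 CfsgFT

variable {G : Type*} [Group G]

/-- the centralizer of `f s` is the image of the model -/
structure Base {τ : Bool} (f : M τ →* G) : Prop where
  inj : Function.Injective f
  cent : ∀ g, g * f s = f s * g → ∃ m, f m = g

/-- the abstract hypothesis -/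
structure H0 (s : G) (Q : Subgroup G) (ph : C1 s →* Equiv.Perm (Fin 3)) : Prop where
  s2 : s * s = 1
  s1 : s ≠ 1
  le : Q ≤ C1 s
  card : Nat.card Q = 32
  sQ : s ∈ Q
  cen : ∀ q ∈ Q, (∀ p ∈ Q, p * q = q * p) → q = 1 ∨ q = s
  comm : ∀ p ∈ Q, ∀ q ∈ Q, p * q = q * p ∨ p * q = s * q * p
  surj : Function.Surjective ph
  ker : ∀ g, ph g = 1 ↔ g.1 ∈ Q
  fix : ∀ x ∈ C1 s, x ≠ 1 → x * x * x = 1 → ∀ q ∈ Q, q * x = x * q → q = 1 ∨ q = s

theorem fQ1 : ∀ q : Q5, q * q = 1 → q * ⟨2⟩ = ⟨2⟩ * q → ⟨4⟩ * q = ⟨1⟩ * q * ⟨4⟩ →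
    q = ⟨8⟩ ∨ q = ⟨1⟩ * ⟨2⟩ * ⟨8⟩ ∨ q = ⟨1⟩ * ⟨8⟩ ∨ q = ⟨2⟩ * ⟨8⟩ := by decide +kernel

theorem cjm (g a b : G) : g * (a * b) * g⁻¹ = g * a * g⁻¹ * (g * b * g⁻¹) := by group

theorem cjc (g : G) {a b c d : G} (h : a * b = c * d) :
    g * a * g⁻¹ * (g * b * g⁻¹) = g * c * g⁻¹ * (g * d * g⁻¹) := by rw [← cjm, h, cjm]

theorem s_cen : ∀ τ, ∀ m : M τ, m * s = s * m := by decide +kernel

namespace H0

variable {s : G} {Q : Subgroup G} {ph : C1 s →* Equiv.Perm (Fin 3)} (h : H0 s Q ph)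
include h

theorem sc {g : G} (hg : g ∈ C1 s) : s * g = g * s := (mem_C1.1 hg).symm

theorem nrm {g q : G} (hg : g ∈ C1 s) (hq : q ∈ Q) : g * q * g⁻¹ ∈ Q := by
  refine (h.ker (⟨g, hg⟩ * ⟨q, h.le hq⟩ * ⟨g, hg⟩⁻¹)).1 ?_
  rw [map_mul, map_mul, (h.ker ⟨q, h.le hq⟩).2 hq, mul_one, ← map_mul, mul_inv_cancel, map_one]

theorem sq {q : G} (hq : q ∈ Q) : q * q = 1 ∨ q * q = s := by
  refine h.cen _ (mul_mem hq hq) fun p hp => ?_
  rcases h.comm p hp q hq with e | e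
  · rw [← mul_assoc, e, mul_assoc, e, mul_assoc]
  · calc p * (q * q) = p * q * q := by group
      _ = s * q * p * q := by rw [e]
      _ = s * q * (p * q) := by group
      _ = s * q * (s * q * p) := by rw [e]
      _ = s * (q * s) * q * p := by group
      _ = _ := by rw [← h.sc (h.le hq), ← mul_assoc, h.s2, one_mul]

theorem norm {x q : G} (hx : x ∈ C1 s) (x1 : x ≠ 1) (x3 : x * x * x = 1) (hq : q ∈ Q)
    (q2 : q * q = 1) : ∃ p, (p = q ∨ p = s * q) ∧ p * (x * p * x⁻¹) = x * p * x⁻¹ * p ∧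
      x * (x * p * x⁻¹) * x⁻¹ = p * (x * p * x⁻¹) := by
  have xs : x * s * x⁻¹ = s := mem_C1_iff_conj.1 hx
  have x3' : ∀ a, x * (x * (x * a * x⁻¹) * x⁻¹) * x⁻¹ = a := fun a => by
    calc _ = x * x * x * a * (x * x * x)⁻¹ := by group
      _ = a := by rw [x3]; group
  have key : ∀ p, p * p = 1 → p * (x * p * x⁻¹) * (x * (x * p * x⁻¹) * x⁻¹) = 1 →
      p * (x * p * x⁻¹) = x * p * x⁻¹ * p ∧ x * (x * p * x⁻¹) * x⁻¹ = p * (x * p * x⁻¹) := by
    intro p p2 e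
    have e1 := conj_mul_self p2 x
    have e2 := conj_mul_self e1 x
    have e3 : x * (x * p * x⁻¹) * x⁻¹ = p * (x * p * x⁻¹) :=
      (inv_eq_self e2).symm.trans (eq_inv_of_mul_eq_one_left e).symm
    refine ⟨?_, e3⟩
    rw [e3] at e2
    rw [← inv_eq_self e2, mul_inv_rev, inv_eq_self e1, inv_eq_self p2]
  obtain ⟨w, hw⟩ : ∃ w, w = q * (x * q * x⁻¹) * (x * (x * q * x⁻¹) * x⁻¹) := ⟨_, rfl⟩
  have wQ : w ∈ Q := hw ▸ mul_mem (mul_mem hq (h.nrm hx hq)) (h.nrm hx (h.nrm hx hq))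
  have h1 : q * (x * w * x⁻¹) = w * q := by
    rw [hw, cjm x (q * _), cjm x q, x3']; group
  have h2 : w = 1 ∨ w = s := by
    rcases h.comm w wQ q hq with e | e
    · rw [e, mul_left_cancel_iff, mul_inv_eq_iff_eq_mul] at h1
      exact h.fix x hx x1 x3 w wQ h1.symm
    · rw [e, h.sc (h.le hq), mul_assoc q s, mul_left_cancel_iff] at h1
      have h3 := x3' w
      rw [h1, cjm x s, xs, h1, ← mul_assoc s s, h.s2, one_mul, h1, mul_eq_right] at h3
      exact absurd h3 h.s1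
  rcases h2 with e | e
  · exact ⟨q, Or.inl rfl, key q q2 (hw ▸ e)⟩
  · refine ⟨s * q, Or.inr rfl, key _ ?_ ?_⟩
    · rw [mul_assoc, ← mul_assoc q, ← h.sc (h.le hq), mul_assoc, q2, mul_one, h.s2]
    · have c1 := h.sc (h.le hq)
      have c2 := h.sc (h.le (h.nrm hx hq))
      rw [cjm x s, xs, cjm x s, xs]
      generalize x * q * x⁻¹ = q1 at *
      generalize x * q1 * x⁻¹ = q2 at *
      calc _ = s * (q * s) * (q1 * s) * q2 := by group
        _ = s * s * (q * s) * q1 * q2 := by rw [← c2, ← c1]; nth_rewrite 2 [c1]; group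
        _ = s * w := by rw [h.s2, ← c1, hw]; group
        _ = 1 := by rw [e, h.s2]

theorem basis {x y : G} (hx : x ∈ C1 s) (x1 : x ≠ 1) (x3 : x * x * x = 1) (hy : y ∈ Q)
    (y2 : y * y = 1) (y1 : y ≠ 1) (ys : y ≠ s) :
    ∃ p z, (p = y ∨ p = s * y) ∧ p ∈ Q ∧ z ∈ Q ∧ RelQ s p (x * p * x⁻¹) z (x * z * x⁻¹) ∧
      x * (x * p * x⁻¹) * x⁻¹ = p * (x * p * x⁻¹) ∧ x * (x * z * x⁻¹) * x⁻¹ = z * (x * z * x⁻¹) := by
  have xs : x * s * x⁻¹ = s := mem_C1_iff_conj.1 hx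
  have x3' : ∀ a, x * (x * (x * a * x⁻¹) * x⁻¹) * x⁻¹ = a := fun a => by
    calc _ = x * x * x * a * (x * x * x)⁻¹ := by group
      _ = a := by rw [x3]; group
  have two : ∀ {q p : G}, q ∈ Q → q * q = 1 → (p = q ∨ p = s * q) → p ∈ Q ∧ p * p = 1 := by
    rintro q _ hq q2 (rfl | rfl)
    · exact ⟨hq, q2⟩
    · exact ⟨mul_mem h.sQ hq, by
        rw [mul_assoc, ← mul_assoc q, ← h.sc (h.le hq), mul_assoc, q2, mul_one, h.s2]⟩
  obtain ⟨p, hp, c1, c2⟩ := h.norm hx x1 x3 hy y2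
  obtain ⟨pQ, p2⟩ := two hy y2 hp
  obtain ⟨u, hu⟩ : ∃ u, u = x * p * x⁻¹ := ⟨_, rfl⟩
  rw [← hu] at c1 c2
  have uQ : u ∈ Q := hu ▸ h.nrm hx pQ
  have u2 : u * u = 1 := hu ▸ conj_mul_self p2 x
  have c3 : x * (p * u) * x⁻¹ = p := by rw [← c2, hu, x3']
  have h1 : ∃ a ∈ Q, p * a = a * p ∧ u * a = s * a * u := by
    have : ¬ ∀ a ∈ Q, a * (p * u) = p * u * a := fun e => by
      rcases h.cen _ (mul_mem pQ uQ) e with e | e <;> rw [e] at c3
      · rcases hp with rfl | rfl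
        · exact y1 (by rw [← c3]; group)
        · exact ys (by rw [← one_mul y, ← h.s2, mul_assoc, ← c3]; group)
      · rcases hp with rfl | rfl
        · exact ys (c3.symm.trans xs)
        · exact y1 (mul_eq_left.1 (c3.symm.trans xs))
    push Not at this
    obtain ⟨a, aQ, ha⟩ := this
    rcases h.comm p pQ a aQ with e | e <;> rcases h.comm u uQ a aQ with e' | e'
    · exact absurd (by rw [← mul_assoc, ← e, mul_assoc, ← e', mul_assoc]) ha
    · exact ⟨a, aQ, e, e'⟩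
    · have aQ' := h.nrm hx (h.nrm hx aQ)
      have e1 : p * (x * (x * a * x⁻¹) * x⁻¹) = x * (x * a * x⁻¹) * x⁻¹ * p := by
        have := cjc x (cjc x e')
        rwa [c2, c3] at this
      refine ⟨_, aQ', e1, ?_⟩
      have e2 : p * u * (x * (x * a * x⁻¹) * x⁻¹) = s * (x * (x * a * x⁻¹) * x⁻¹) * (p * u) := by
        have := cjc x (cjc x e)
        rwa [cjm x s, xs, cjm x s, xs, ← hu, c2] at this
      rw [mul_assoc s, ← mul_assoc _ p u, ← e1, ← mul_assoc s, ← mul_assoc s, h.sc (h.le pQ),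
        mul_assoc p, mul_assoc p, mul_assoc p, mul_left_cancel_iff] at e2
      exact e2
    · refine absurd ?_ ha
      calc a * (p * u) = s * (s * a * p) * u := by rw [← mul_assoc s, ← mul_assoc s, h.s2]; group
        _ = s * p * (a * u) := by rw [← e]; group
        _ = p * (s * a * u) := by rw [h.sc (h.le pQ)]; group
        _ = _ := by rw [← e', mul_assoc]
  have h2 : ∃ a ∈ Q, a * a = 1 ∧ p * a = a * p ∧ u * a = s * a * u := by
    obtain ⟨a, aQ, e, e'⟩ := h1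
    rcases h.sq aQ with e2 | e2
    · exact ⟨a, aQ, e2, e, e'⟩
    · refine ⟨a * u, mul_mem aQ uQ, ?_, by rw [← mul_assoc, e, mul_assoc, c1, mul_assoc],
        by rw [← mul_assoc, e']; group⟩
      calc _ = a * (u * a) * u := by group
        _ = (a * s) * a * (u * u) := by rw [e']; group
        _ = _ := by rw [u2, mul_one, ← h.sc (h.le aQ), mul_assoc, e2, h.s2]
  obtain ⟨a, aQ, a2, e, e'⟩ := h2
  obtain ⟨z, hz, c4, c5⟩ := h.norm hx x1 x3 aQ a2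
  obtain ⟨zQ, z2⟩ := two aQ a2 hz
  have e3 : p * z = z * p ∧ u * z = s * z * u := by
    rcases hz with rfl | rfl
    · exact ⟨e, e'⟩
    · exact ⟨by rw [← mul_assoc, ← h.sc (h.le pQ), mul_assoc, e, mul_assoc],
        by rw [← mul_assoc, ← h.sc (h.le uQ), mul_assoc, e']; group⟩
  have zQ' := h.nrm hx zQ
  subst hu
  refine ⟨p, z, hp, pQ, zQ, ⟨h.s2, p2, u2, z2, conj_mul_self z2 x, h.sc (h.le pQ), h.sc (h.le uQ),
    h.sc (h.le zQ), h.sc (h.le zQ'), c1, c4, e3.1, cjc x e3.1, ?_, e3.2⟩,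
    c2, c5⟩
  have e4 : p * (x * p * x⁻¹) * z = s * z * (p * (x * p * x⁻¹)) := by
    rw [mul_assoc p, e3.2, ← mul_assoc p, ← mul_assoc p, ← h.sc (h.le pQ), mul_assoc s p, e3.1]
    group
  have := cjc x e4
  rwa [c3, cjm x s, xs] at this

theorem exists_three : ∃ x ∈ C1 s, x ≠ 1 ∧ x * x * x = 1 := by
  obtain ⟨w, hw⟩ := h.surj (finRotate 3)
  have h1 : w.1 * w.1 * w.1 ∈ Q := (h.ker (w * w * w)).1 (by rw [map_mul, map_mul, hw]; decide)
  have h2 : (w.1 * w.1 * w.1) ^ 4 = 1 := by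
    rw [show 4 = 2 * 2 from rfl, pow_mul, pow_two, pow_two]
    rcases h.sq h1 with e | e <;> rw [e]
    exacts [one_mul 1, h.s2]
  refine ⟨w.1 ^ 4, pow_mem w.2 4, fun e => ?_, by
    rw [← h2, ← pow_three', ← pow_three', ← pow_mul, ← pow_mul]⟩
  have h3 : ph (w ^ 4) = 1 := (h.ker _).2 (by rw [SubgroupClass.coe_pow, e]; exact one_mem Q)
  rw [map_pow, hw] at h3
  exact absurd h3 (by decide)

theorem exists_invol {g : G} (hg : g * s * g⁻¹ ∈ Q) (hg' : g * s * g⁻¹ ≠ s) :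
    ∃ u ∈ C1 s, u ∉ Q ∧ u * u = 1 ∧ u * (g * s * g⁻¹) = g * s * g⁻¹ * u := by
  obtain ⟨x, hx, x1, x3⟩ := h.exists_three
  have two : ∀ {q p a : G}, a ∈ Q → (p = q ∨ p = s * q) → p * a = a * p → q * a = a * q := by
    rintro q _ a ha (rfl | rfl) e
    · exact e
    · rwa [← mul_assoc, ← h.sc (h.le ha), mul_assoc, mul_assoc, mul_left_cancel_iff] at e
  have h1 : g⁻¹ * s * g ∈ Q := by
    obtain ⟨p, z, hp, pQ, zQ, ⟨-, -, u2, z2, -, -, -, -, -, c1, -, c2, -, -, c3⟩, -⟩ :=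
      h.basis hx x1 x3 hg (conj_mul_self h.s2 g) (conj_ne_one h.s1 g) hg'
    have uQ := h.nrm hx pQ
    generalize x * p * x⁻¹ = u at *
    have e1 : u * z * (u * z) = s := by
      nth_rewrite 1 [c3]
      calc _ = s * z * (u * u) * z := by group
        _ = s := by rw [u2, mul_one, mul_assoc, z2, mul_one]
    have e2 := two (mul_mem uQ zQ) hp (by rw [← mul_assoc, c1, mul_assoc, c2, mul_assoc])
    have e3 : g⁻¹ * (u * z) * g ∈ C1 s := mem_C1.2 (by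
      calc _ = g⁻¹ * (u * z * (g * s * g⁻¹)) * g := by group
        _ = _ := by rw [← e2]; group)
    have e4 : g⁻¹ * (u * z) * g * (g⁻¹ * (u * z) * g) = g⁻¹ * s * g := by rw [← e1]; group
    have e5 : ∀ σ : Equiv.Perm (Fin 3), σ * σ * (σ * σ) = 1 → σ * σ = 1 := by decide
    rw [← e4]
    refine (h.ker (⟨_, e3⟩ * ⟨_, e3⟩)).1 (by
      rw [map_mul]
      refine e5 _ ?_
      rw [← map_mul, ← map_mul, h.ker]
      show _ * _ * (_ * _) ∈ Q
      rw [e4, show g⁻¹ * s * g * (g⁻¹ * s * g) = g⁻¹ * (s * s) * g by group, h.s2]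
      simp)
  obtain ⟨p, z, hp, pQ, zQ, ⟨-, -, u2, z2, -, d1, d2, d3, -, c1, -, c2, -, -, c3⟩, -⟩ :=
    h.basis hx x1 x3 h1 (by simpa using conj_mul_self h.s2 g⁻¹)
      (by simpa using conj_ne_one h.s1 g⁻¹) fun e => hg' (by nth_rewrite 1 [← e]; group)
  have uQ := h.nrm hx pQ
  generalize x * p * x⁻¹ = u at *
  have k : ∀ a ∈ Q, p * a = a * p → g * a * g⁻¹ ∈ C1 s := fun a ha e => mem_C1.2 (by
    calc _ = g * (a * (g⁻¹ * s * g)) * g⁻¹ := by group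
      _ = _ := by rw [← two ha hp e]; group)
  by_cases hu : g * u * g⁻¹ ∈ Q
  · refine ⟨_, k z zQ c2, fun hz => ?_, conj_mul_self z2 g, by rw [conj_mul, conj_mul, d3]⟩
    rcases h.comm _ hu _ hz with e | e
    · rw [conj_mul, conj_mul, c3, mul_left_inj, mul_right_inj, mul_assoc, mul_eq_right] at e
      exact h.s1 e
    · rw [conj_mul, c3, ← conj_mul, ← conj_mul, mul_left_inj, mul_left_inj] at e
      exact hg' e
  · exact ⟨_, k u uQ c1, hu, conj_mul_self u2 g, by rw [conj_mul, conj_mul, d2]⟩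

theorem exists_inverted {u : G} (hu : u ∈ C1 s) (uQ : u ∉ Q) (u2 : u * u = 1) :
    ∃ x ∈ C1 s, x ≠ 1 ∧ x * x * x = 1 ∧ u * x * u⁻¹ = x⁻¹ := by
  have e1 : ∀ σ : Equiv.Perm (Fin 3), σ ≠ 1 → σ * σ = 1 → ∃ π : Equiv.Perm (Fin 3),
      (σ * (π * σ * π⁻¹)) ^ 3 = 1 ∧ (σ * (π * σ * π⁻¹)) ^ 4 ≠ 1 := by decide +kernel
  obtain ⟨π, h1, h2⟩ := e1 (ph ⟨u, hu⟩) (fun e => uQ ((h.ker _).1 e))
    (by rw [← map_mul]; exact (h.ker _).2 (show u * u ∈ Q from u2 ▸ one_mem Q))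
  obtain ⟨v, rfl⟩ := h.surj π
  rw [← map_inv, ← map_mul, ← map_mul, ← map_mul, ← map_pow, h.ker] at h1
  rw [← map_inv, ← map_mul, ← map_mul, ← map_mul, ← map_pow, Ne, h.ker] at h2
  change (u * (v.1 * u * v.1⁻¹)) ^ _ ∈ Q at h1
  change (u * (v.1 * u * v.1⁻¹)) ^ _ ∉ Q at h2
  have h3 : ((u * (v.1 * u * v.1⁻¹)) ^ 3) ^ 4 = 1 := by
    rw [show 4 = 2 * 2 from rfl, pow_mul, pow_two, pow_two]
    rcases h.sq h1 with e | e <;> rw [e]
    exacts [one_mul 1, h.s2]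
  refine ⟨_, pow_mem (mul_mem hu (mul_mem (mul_mem v.2 hu) (inv_mem v.2))) 4,
    fun e => h2 (e ▸ one_mem Q), by rw [← h3, ← pow_three', ← pow_mul, ← pow_mul], ?_⟩
  rw [← conj_pow, ← inv_pow, ← mul_assoc u u, u2, one_mul, mul_inv_rev,
    inv_eq_self (conj_mul_self u2 _)]

theorem exists_base [Finite G] {g : G} (hg : g * s * g⁻¹ ∈ Q) (hg' : g * s * g⁻¹ ≠ s) :
    ∃ τ, ∃ f : M τ →* G, Base f ∧ IsConj (f X32.s) (f y0) := by
  obtain ⟨r, hr, rQ, r2, ry⟩ := h.exists_invol hg hg'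
  obtain ⟨x, hx, x1, x3, rx⟩ := h.exists_inverted hr rQ r2
  obtain ⟨p, z, hp, pQ, zQ, hR, c1, c2⟩ :=
    h.basis hx x1 x3 hg (conj_mul_self h.s2 g) (conj_ne_one h.s1 g) hg'
  have xs : x * s * x⁻¹ = s := mem_C1_iff_conj.1 hx
  have rs : r * s * r⁻¹ = s := mem_C1_iff_conj.1 hr
  have rp : r * p * r⁻¹ = p := by
    rcases hp with rfl | rfl
    · rw [ry, mul_inv_cancel_right]
    · rw [cjm r s, rs, ry, mul_inv_cancel_right]
  have xi : ∀ a, x⁻¹ * a * x = x * (x * a * x⁻¹) * x⁻¹ := fun a => by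
    calc _ = x⁻¹ * (x * x * x) * a * (x * x * x)⁻¹ * x := by rw [x3]; group
      _ = _ := by group
  have rc : ∀ a, r * (x * a * x⁻¹) * r⁻¹ = x * (x * (r * a * r⁻¹) * x⁻¹) * x⁻¹ := fun a => by
    rw [← xi]
    calc _ = r * x * r⁻¹ * (r * a * r⁻¹) * (r * x * r⁻¹)⁻¹ := by group
      _ = _ := by rw [rx, inv_inv]
  obtain ⟨f0, f1, f2, f3, f4, f5⟩ := hR.exists_hom
  have i0 : Function.Injective f0 := injQ_of (f1.symm ▸ h.s1)
  have hQ : f0.range = Q := by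
    refine eq_of_le_of_card_ge ?_ (by
      rw [h.card, ← Nat.card_congr (MonoidHom.ofInjective i0).toEquiv, card_Q5])
    rintro _ ⟨a, rfl⟩
    rw [nfQ a]
    simp only [map_mul, map_pow, f1, f2, f3, f4, f5]
    exact mul_mem (mul_mem (mul_mem (mul_mem (pow_mem h.sQ _) (pow_mem pQ _))
      (pow_mem (h.nrm hx pQ) _)) (pow_mem zQ _)) (pow_mem (h.nrm hx zQ) _)
  have hτ : ∃ τ, r * z * r⁻¹ = cond τ (s * p * z) z := by
    obtain ⟨q, hq⟩ := hQ.ge (h.nrm hr zQ)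
    obtain ⟨-, p2, -, z2, v2, -, -, -, -, -, d0, d1, -, d2, d3⟩ := hR
    have e0 : r * (p * (x * p * x⁻¹)) * r⁻¹ = x * p * x⁻¹ := by
      rw [cjm r p, rc, rp, c1, ← mul_assoc, p2, one_mul]
    have e1 : r * z * r⁻¹ * (x * (x * (r * z * r⁻¹) * x⁻¹) * x⁻¹) =
        x * (r * z * r⁻¹) * x⁻¹ := by
      rw [← rc, conj_mul, ← c2, rc, rc]
      calc _ = x * (x * x * x) * (r * z * r⁻¹) * (x * x * x)⁻¹ * x⁻¹ := by group
        _ = _ := by rw [x3]; group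
    rcases fQ1 q (i0 (by rw [map_mul, hq, conj_mul_self z2, map_one]))
      (i0 (by rw [map_mul, map_mul, hq, f2, ← rp, conj_mul, conj_mul, d1]))
      (i0 (by
        rw [map_mul, map_mul, map_mul, hq, f3, f1, ← e0, ← rs, conj_mul, conj_mul, conj_mul,
          mul_assoc p, d3, ← mul_assoc p, ← mul_assoc p, ← h.sc (h.le pQ), mul_assoc s p, d1]
        group)) with e | e | e | e <;> rw [e] at hq
    · exact ⟨false, hq.symm.trans f4⟩
    · exact ⟨true, by rw [← hq, map_mul, map_mul, f1, f2, f4]; rfl⟩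
    · rw [map_mul, f1, f4] at hq
      rw [← hq, cjm x s, xs, cjm x s, xs, c2, ← f5, ← f4, ← f1] at e1
      simp only [← map_mul] at e1
      exact absurd (i0 e1) (by decide +kernel)
    · rw [map_mul, f2, f4] at hq
      rw [← hq, cjm x p, cjm x (x * p * _), c1, c2, ← f5, ← f3, ← f4, ← f2] at e1
      simp only [← map_mul] at e1
      exact absurd (i0 e1) (by decide +kernel)
  obtain ⟨τ, hτ⟩ := hτ
  obtain ⟨f, g1, g2, -⟩ := Rel.exists_hom (τ := τ)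
    ⟨hR, ⟨x3, xs, rfl, c1, rfl, c2, r2, rx, rs, rp⟩, hτ⟩
  have i1 : Function.Injective f := inj_of (g1.symm ▸ h.s1)
  have hL : f.range = C1 s := by
    refine eq_of_le_of_card_ge ?_ ?_
    · rintro _ ⟨a, rfl⟩
      rw [mem_C1, ← g1, ← map_mul, s_cen, map_mul]
    · rw [← Nat.card_congr (MonoidHom.ofInjective i1).toEquiv, card_M,
        card_eq_card_quotient_mul_card_subgroup ph.ker,
        Nat.card_congr (QuotientGroup.quotientKerEquivOfSurjective ph h.surj).toEquiv,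
        show ph.ker = Q.subgroupOf (C1 s) from Subgroup.ext h.ker,
        Nat.card_congr (subgroupOfEquivOfLe h.le).toEquiv, h.card]
      simp [Fintype.card_perm, Nat.factorial]
  refine ⟨τ, f, ⟨i1, fun a ha => hL.ge (mem_C1.2 (g1 ▸ ha))⟩, ?_⟩
  rcases hp with e | e
  · exact isConj_iff.2 ⟨g, by rw [g1, g2, e]⟩
  · refine isConj_iff.2 ⟨f z1 * g, ?_⟩
    have e1 : ∀ τ, (z1 : M τ) * (X32.s * y0) * z1⁻¹ = y0 := by decide +kernel
    rw [← e1, map_mul, map_mul, map_mul, map_inv, g1, g2, e, ← mul_assoc s, h.s2]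
    group

end H0

theorem exists_h0 [Finite G] {s : G} (hs : orderOf s = 2) {Q : Subgroup G}
    (hQ : Q = (Cfsg.pCore 2 (C1 s)).map (C1 s).subtype)
    (hQex : Cfsg.IsExtraspecial 2 Q) (hQcard : Nat.card Q = 32)
    (e : C1 s ⧸ Cfsg.pCore 2 (C1 s) ≃* Equiv.Perm (Fin 3)) (X : Sylow 3 (C1 s))
    (hX : Q ⊓ C ((X : Subgroup (C1 s)).map (C1 s).subtype) = zpowers s) :
    ∃ ph, H0 s Q ph := by
  haveI : Fact (Nat.Prime 3) := ⟨Nat.prime_three⟩
  haveI := pCore_normal 2 (C1 s)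
  have hle : Q ≤ C1 s := hQ ▸ map_subtype_le _
  have hk : ∀ g : C1 s, (e.toMonoidHom.comp (QuotientGroup.mk' _)) g = 1 ↔ g.1 ∈ Q := fun g => by
    rw [hQ, MonoidHom.comp_apply, MulEquiv.coe_toMonoidHom, EmbeddingLike.map_eq_one_iff,
      QuotientGroup.mk'_apply, QuotientGroup.eq_one_iff]
    exact ⟨fun h => ⟨g, h, rfl⟩, fun ⟨a, h, e⟩ => (Subtype.ext e : a = g) ▸ h⟩
  have hs' : Function.Surjective (e.toMonoidHom.comp (QuotientGroup.mk' _)) :=
    e.surjective.comp (QuotientGroup.mk'_surjective _)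
  generalize e.toMonoidHom.comp (QuotientGroup.mk' _) = ph at hk hs'
  have s2 := mul_self_of_orderOf hs
  have s1 := ne_one_of_orderOf hs
  have sQ : s ∈ Q := (hX.ge (mem_zpowers s)).1
  have cen : ∀ q ∈ Q, (∀ p ∈ Q, p * q = q * p) → q = 1 ∨ q = s := fun q hq hc => by
    have h1 : zpowers (⟨s, sQ⟩ : Q) = center Q := eq_of_le_of_card_ge
      (zpowers_le.2 (mem_center_iff.2 fun p => Subtype.ext (mem_C1.1 (hle p.2))))
      (by rw [hQex.2, Nat.card_zpowers, ← orderOf_coe, hs])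
    obtain ⟨k, hk⟩ := h1.ge (mem_center_iff.2 fun p => Subtype.ext (hc p p.2) :
      (⟨q, hq⟩ : Q) ∈ center Q)
    exact CfsgH7.mem_zpowers_order_two' s2 ⟨k, congrArg Subtype.val hk⟩
  have hn : ∀ g ∈ C1 s, ∀ q ∈ Q, g * q * g⁻¹ ∈ Q := fun g hg q hq => by
    refine (hk (⟨g, hg⟩ * ⟨q, hle hq⟩ * ⟨g, hg⟩⁻¹)).1 ?_
    rw [map_mul, map_mul, (hk ⟨q, hle hq⟩).2 hq, mul_one, ← map_mul, mul_inv_cancel, map_one]
  refine ⟨ph, s2, s1, hle, hQcard, sQ, cen, fun p hp q hq => ?_, hs', hk, fun x hx x1 x3 q hq hc => ?_⟩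
  · have h1 : (⟨p, hp⟩ * ⟨q, hq⟩ * ⟨p, hp⟩⁻¹ * ⟨q, hq⟩⁻¹ : Q) ∈ center Q := by
      rw [← hQex.1.2.2]
      exact commutator_mem_commutator (mem_top _) (mem_top _)
    rcases cen (p * q * p⁻¹ * q⁻¹) (mul_mem (mul_mem (mul_mem hp hq) (inv_mem hp)) (inv_mem hq))
      fun a ha => congrArg Subtype.val (mem_center_iff.1 h1 ⟨a, ha⟩) with e | e
    · exact Or.inl (by rwa [mul_inv_eq_one, mul_inv_eq_iff_eq_mul] at e)
    · exact Or.inr (by rw [← e]; group)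
  · have h1 : Nat.card (C1 s) = 192 := by
      rw [card_eq_card_quotient_mul_card_subgroup ph.ker,
        Nat.card_congr (QuotientGroup.quotientKerEquivOfSurjective ph hs').toEquiv,
        show ph.ker = Q.subgroupOf (C1 s) from Subgroup.ext hk,
        Nat.card_congr (subgroupOfEquivOfLe hle).toEquiv, hQcard]
      simp [Fintype.card_perm, Nat.factorial]
    have o3 : orderOf (⟨x, hx⟩ : C1 s) = 3 := by
      rw [← orderOf_coe]
      exact orderOf_eq_prime (by rw [pow_three', x3]) x1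
    obtain ⟨g, -, hg⟩ := (sylIn_top_of_sylow X).exists_le_cj (X := zpowers ⟨x, hx⟩) le_top
      (IsPGroup.of_card (n := 1) (by rw [Nat.card_zpowers, o3, pow_one]))
    have h2 : zpowers (⟨x, hx⟩ : C1 s) = cj g X := eq_of_le_of_card_ge hg (by
      rw [card_cj, Nat.card_zpowers, o3, X.card_eq_multiplicity, h1]
      have : Nat.factorization 192 3 = 1 := by
        rw [show 192 = 3 * 64 from rfl, Nat.factorization_mul (by norm_num) (by norm_num)]
        simp [Nat.prime_three.factorization, Nat.factorization_eq_zero_of_not_dvd]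
      rw [this]; norm_num)
    have h3 : g.1⁻¹ * q * g.1⁻¹⁻¹ ∈ zpowers s := hX.le ⟨hn _ (inv_mem g.2) q hq, mem_C.2 (by
      rintro _ ⟨a, ha, rfl⟩
      obtain ⟨k, hk⟩ := h2.ge (conj_mem_cj.2 ha)
      have h4 : x ^ k = g.1 * a.1 * g.1⁻¹ := congrArg Subtype.val hk
      have h5 := (show Commute q x from hc).zpow_right k
      rw [h4] at h5
      calc a.1 * (g.1⁻¹ * q * g.1⁻¹⁻¹) = g.1⁻¹ * (g.1 * a.1 * g.1⁻¹ * q) * g.1 := by group
        _ = _ := by rw [← h5.eq]; simp [mul_assoc])⟩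
    rcases CfsgH7.mem_zpowers_order_two' s2 h3 with e | e
    · exact Or.inl (conj_eq_one_iff.1 e)
    · refine Or.inr (Eq.trans ?_ (mem_C1_iff_conj.1 g.2))
      generalize g.1 = k at e
      rw [← e]; group

end CfsgH3.X32
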