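import Cfsg.Agent.H3.X32Base
import Cfsg.Agent.SZ.ZS_fin

set_option autoImplicit false

/-! The case that all conjugates of `s` in its centralizer lie in `E₁`. -/

namespace CfsgH3.X32

open Subgroup CfsgH5 CfsgH6 CfsgFT CfsgH7 MatrixGroups

universe u
variable {G : Type u} [Group G] {τ : Bool}

theorem fU : ∀ τ, ∀ m : M τ, m * m = 1 → ¬ pE m → ∃ v : M τ, pE v ∧ v ≠ 1 ∧ v * m = m * v ∧
    (∀ e, pE e → cm e m = 1 ∨ cm e m = v) ∧ (∃ e, pE e ∧ cm e m = v) ∧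
    ∃ w, pE w ∧ w ≠ 1 ∧ v ≠ w ∧ w * m = m * w := by decide +kernel
theorem fCE : ∀ τ, ∀ m : M τ, m * y0 = y0 * m → m * y1 = y1 * m → pE m := by decide +kernel
theorem fE1 : ∀ τ, pE (s : M τ) ∧ pE (y0 : M τ) ∧ pE (y1 : M τ) ∧ ¬ pE (z0 : M τ) ∧
    (z0 : M τ) * z0 = 1 ∧ (z0 : M τ) ≠ 1 := by decide +kernel

def ε (τ : Bool) (v : Fin 3 → ZMod 2) : M τ := ⟨f32 ((v 0).val + 2 * (v 1).val + 4 * (v 2).val), 0⟩

theorem ε_add : ∀ τ v w, ε τ (v + w) = ε τ v * ε τ w := by decide +kernel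
theorem ε_inj : ∀ τ v w, ε τ v = ε τ w → v = w := by decide +kernel
theorem ε_surj : ∀ τ, ∀ m : M τ, pE m ↔ ∃ v, ε τ v = m := by decide +kernel

theorem card_sl32 : Nat.card SL(3, ZMod 2) = 168 := by
  have h1 := card_SL_mul (F := ZMod 2) (n := Fin 3)
  rw [Matrix.card_GL_field, Nat.card_eq_fintype_card (α := ZMod 2), ZMod.card] at h1
  generalize Nat.card SL(3, ZMod 2) = n at h1 ⊢
  simp [Fin.prod_univ_succ] at h1
  omega

theorem center_sl32 : center SL(3, ZMod 2) = ⊥ := eq_bot_iff.2 fun A hA => by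
  obtain ⟨c, h1, h2⟩ := Matrix.SpecialLinearGroup.mem_center_iff.1 hA
  have : c = 1 := by clear h2; revert h1; rw [Fintype.card_fin]; revert c; decide
  rw [this, map_one] at h2
  exact Subtype.ext h2.symm

/-- all conjugates of `s` in `L` lie in `E₁` -/
structure CU (f : M τ →* G) : Prop extends Base f where
  fus : IsConj (f s) (f y0)
  wc : ∀ m, IsConj (f s) (f m) → pE m

namespace CU

variable {f : M τ →* G} (h : CU f)
include h

theorem conj_E {e : M τ} (he : pE e) (e1 : e ≠ 1) : IsConj (f s) (f e) := by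
  rcases (fE τ e he).2.2.2 with rfl | rfl | ⟨k, rfl⟩
  · exact absurd rfl e1
  · exact IsConj.refl _
  · exact h.fus.trans (isConj_iff.2 ⟨f k, by simp⟩)

variable [Finite G]

theorem ti0 {g : G} (hg : g * f s * g⁻¹ ∈ (E0 τ).map f) : g ∈ N ((E0 τ).map f) := by
  obtain ⟨u, hu, e⟩ := hg
  obtain ⟨v, hv⟩ := (h.toBase.conj g).cent (f s) (by
    change f s * (g * f s * g⁻¹) = g * f s * g⁻¹ * f s
    rw [← e, Base.sc])
  change g * f v * g⁻¹ = f s at hv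
  have h1 := h.wc v (isConj_iff.2 ⟨g, hv⟩).symm
  refine mem_normalizer_of_conj_mem ?_
  rintro _ ⟨m, hm, rfl⟩
  obtain ⟨a, ha⟩ := h.cent (g * f m * g⁻¹) (by
    rw [← hv, conj_mul, conj_mul, ← map_mul, (fE τ m hm).2.1 v h1, map_mul])
  by_cases m1 : m = 1
  · rw [m1, map_one]; simp
  · exact ⟨a, h.wc a ((h.conj_E hm m1).trans (isConj_iff.2 ⟨g, ha.symm⟩)), ha⟩

theorem ti {g e : G} (he : e ∈ (E0 τ).map f) (e1 : e ≠ 1) (hg : g * e * g⁻¹ ∈ (E0 τ).map f) :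
    g ∈ N ((E0 τ).map f) := by
  obtain ⟨m, hm, rfl⟩ := he
  obtain ⟨k, hk⟩ := isConj_iff.1 (h.conj_E hm fun e => e1 (e ▸ map_one f))
  refine (mul_mem_cancel_right (h.ti0 (g := k) (hk ▸ ⟨m, hm, rfl⟩))).1 (h.ti0 ?_)
  rwa [← hk, show g * (k * f s * k⁻¹) * g⁻¹ = g * k * f s * (g * k)⁻¹ by group] at hg

theorem L_le (m : M τ) : f m ∈ N ((E0 τ).map f) :=
  h.ti0 ⟨s, (fE1 τ).1, by rw [Base.sc, mul_inv_cancel_right]⟩

theorem mem_E {u : G} (hu : u ∈ N ((E0 τ).map f)) (hc : IsConj (f s) u) : u ∈ (E0 τ).map f := by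
  obtain ⟨g, rfl⟩ := isConj_iff.1 hc
  obtain ⟨k, hk, m, -, -, e⟩ := h.toBase.invol h.L_le hu (conj_mul_self Base.s2 g)
  rw [e] at hc ⊢
  exact CfsgH6.nrm_normalizer _ k hk _ ⟨m, h.wc m (hc.trans (isConj_iff.2 ⟨k, rfl⟩).symm), rfl⟩

theorem C_le {e : G} (he : e ∈ (E0 τ).map f) (e1 : e ≠ 1) : C1 e ≤ N ((E0 τ).map f) :=
  fun _ hg => h.ti he e1 (by rwa [mem_C1_iff_conj.1 hg])

theorem C_le' {m : M τ} (m2 : m * m = 1) (m1 : m ≠ 1) : C1 (f m) ≤ N ((E0 τ).map f) := by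
  by_cases hm : pE m
  · exact h.C_le ⟨m, hm, rfl⟩ (h.ne m1)
  obtain ⟨v, hv, v1, vm, h1, ⟨e, he, h2⟩, w, hw, w1, vw, wm⟩ := fU τ m m2 hm
  have hV : Four (f v) (f w) := ⟨by rw [← map_mul, (fE τ v hv).1, map_one],
    by rw [← map_mul, (fE τ w hw).1, map_one], by rw [← map_mul, (fE τ v hv).2.1 w hw, map_mul],
    h.ne v1, h.ne w1, fun e => vw (h.eq e)⟩
  have hK : hV.V ≤ C1 (f m) := hV.V_le (mem_C1.2 (by rw [← map_mul, vm, map_mul]))
    (mem_C1.2 (by rw [← map_mul, wm, map_mul]))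
  have hE : hV.V ≤ (E0 τ).map f := hV.V_le ⟨v, hv, rfl⟩ ⟨w, hw, rfl⟩
  rw [← CfsgSZ.zstar (hK hV.aV) hV.a1 hV.a2 fun g hg hc => ?_]
  · exact sup_le (hV.gen ((nrm_Opc 2 _).mono hK) (not_dvd_card_Opc Nat.prime_two _)
      fun a ha a1 => inf_le_right.trans (h.C_le (hE ha) a1))
      (inf_le_right.trans (h.C_le (hE hV.aV) hV.a1))
  have h3 := h.ti (hE hV.aV) hV.a1 (h.mem_E (h.C_le (hE hV.aV) hV.a1 (mem_C1.2 hc.eq.symm))
    ((h.conj_E hv v1).trans (isConj_iff.2 ⟨g, rfl⟩)))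
  obtain ⟨e', he', h4⟩ := CfsgH6.nrm_normalizer _ g h3 _ ⟨e, he, rfl⟩
  have h5 : g * f v * g⁻¹ = f (cm e' m) := by
    rw [← h2, map_cm, map_cm, h4, ← mem_C1_iff_conj.1 hg]
    nth_rewrite 1 [mem_C1_iff_conj.1 hg]
    unfold cm; group
  rcases h1 e' he' with e | e <;> rw [e] at h5
  · exact absurd (h5.trans (map_one f)) (conj_ne_one hV.a1 g)
  · exact h5

theorem N_top (g : G) : g ∈ N ((E0 τ).map f) := by
  by_contra hg
  obtain ⟨-, -, -, z1, z2, z3⟩ := fE1 τ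
  have h1 := isConj_of_cent_le (M := N ((E0 τ).map f)) (fun w hw w1 w2 => by
      obtain ⟨k, hk, m, -, m2, rfl⟩ := h.toBase.invol h.L_le hw w2
      intro a ha
      have := h.C_le' m2 (fun e => w1 (by rw [e, map_one]; group))
        (mem_cj.1 ((cj_C1 k (f m)).ge ha))
      rwa [mul_mem_cancel_right hk, mul_mem_cancel_left (inv_mem hk)] at this)
    (t := f z0) (by rw [← map_mul, z2, map_one]) (h.ne z3) (h.L_le _) (conj_mul_self Base.s2 g)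
    fun e => hg (h.ti0 (h.mem_E e (isConj_iff.2 ⟨g, rfl⟩)))
  exact z1 (h.wc _ ((isConj_iff.2 ⟨g, rfl⟩).trans h1))

theorem card : Nat.card G = 1344 := by
  have h1 := class_mul ⊤ (f s) (P := sharp ((E0 τ).map f)) fun y => ⟨fun ⟨⟨m, hm, e⟩, y1⟩ => by
      obtain ⟨k, hk⟩ := isConj_iff.1 (h.conj_E hm fun e' => y1 (by rw [← e, e', map_one]))
      exact ⟨k, trivial, hk.trans e⟩,
    fun ⟨g, _, e⟩ => e ▸ ⟨CfsgH6.nrm_normalizer _ g (h.N_top g) _ ⟨s, (fE1 τ).1, rfl⟩,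
      conj_ne_one h.s1 g⟩⟩
  rw [ncard_sharp, h.card_map, card_E0, top_inf_eq, h.card_C, card_top] at h1
  omega

theorem main : ∃ (N : Subgroup G) (_ : N.Normal), IsMulCommutative N ∧ (∀ n ∈ N, n ^ 2 = 1) ∧
    Nat.card N = 8 ∧ Nonempty (G ⧸ N ≃* PSL(3, ZMod 2)) := by
  have h1 : ∀ g v, ∃ w, f (ε τ w) = g * f (ε τ v) * g⁻¹ := fun g v => by
    obtain ⟨m, hm, e⟩ := CfsgH6.nrm_normalizer _ g (h.N_top g) _
      ⟨_, (ε_surj τ _).2 ⟨v, rfl⟩, rfl⟩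
    obtain ⟨w, rfl⟩ := (ε_surj τ m).1 hm
    exact ⟨w, e⟩
  choose φ hφ using h1
  have hi : ∀ {v w}, f (ε τ v) = f (ε τ w) → v = w := fun e => ε_inj τ _ _ (h.eq e)
  let L : G →* Module.End (ZMod 2) (Fin 3 → ZMod 2) :=
    { toFun := fun g => (AddMonoidHom.mk' (φ g) fun v w => hi (by
        rw [ε_add, map_mul, hφ, hφ, hφ, ε_add, map_mul, cjm])).toZModLinearMap 2
      map_one' := LinearMap.ext fun v => hi ((hφ 1 v).trans (by simp))
      map_mul' := fun a b => LinearMap.ext fun v => hi (by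
        change f (ε τ (φ (a * b) v)) = f (ε τ (φ a (φ b v)))
        rw [hφ, hφ, hφ]; group) }
  let Φ : G →* Matrix (Fin 3) (Fin 3) (ZMod 2) :=
    (LinearMap.toMatrixAlgEquiv' (R := ZMod 2) (n := Fin 3)).toMulEquiv.toMonoidHom.comp L
  have hd : ∀ g, (Φ g).det = 1 := fun g => by
    have : (Φ g).det * (Φ g⁻¹).det = 1 := by
      rw [← Matrix.det_mul, ← map_mul, mul_inv_cancel, map_one, Matrix.det_one]
    revert this
    generalize (Φ g).det = a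
    generalize (Φ g⁻¹).det = b
    revert a b
    decide
  let Ψ : G →* SL(3, ZMod 2) :=
    { toFun := fun g => ⟨Φ g, hd g⟩
      map_one' := Subtype.ext (map_one Φ)
      map_mul' := fun a b => Subtype.ext (map_mul Φ a b) }
  have hk : Ψ.ker = (E0 τ).map f := by
    ext g
    have e1 : g ∈ Ψ.ker ↔ ∀ v, φ g v = v := by
      refine Iff.trans Subtype.ext_iff ?_
      change LinearMap.toMatrixAlgEquiv' (L g) = 1 ↔ _
      rw [EmbeddingLike.map_eq_one_iff, LinearMap.ext_iff]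
      rfl
    rw [e1]
    refine ⟨fun e => ?_, fun ⟨m, hm, e⟩ v => hi ?_⟩
    · have e2 : ∀ m, pE m → g * f m = f m * g := fun m hm => by
        obtain ⟨v, rfl⟩ := (ε_surj τ m).1 hm
        rw [← mul_inv_eq_iff_eq_mul, ← hφ, e]
      obtain ⟨t1, t2, t3, -⟩ := fE1 τ
      obtain ⟨m, rfl⟩ := h.cent g (e2 s t1)
      exact ⟨m, fCE τ m (h.comm (e2 _ t2)) (h.comm (e2 _ t3)), rfl⟩
    · rw [hφ, ← e, ← map_mul, (fE τ m hm).2.1 _ ((ε_surj τ _).2 ⟨v, rfl⟩), map_mul,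
        mul_inv_cancel_right]
  have h8 : Nat.card Ψ.ker = 8 := by rw [hk, h.card_map, card_E0]
  have hs : Function.Surjective Ψ := by
    have h2 := card_eq_card_quotient_mul_card_subgroup Ψ.ker
    rw [h.card, h8, Nat.card_congr (QuotientGroup.quotientKerEquivRange Ψ).toEquiv] at h2
    exact MonoidHom.range_eq_top.1 (eq_top_of_card_eq _ (by rw [card_sl32]; omega))
  refine ⟨Ψ.ker, inferInstance, ⟨⟨fun a b => Subtype.ext ?_⟩⟩, fun n hn => ?_, h8,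
    ⟨(QuotientGroup.quotientKerEquivOfSurjective Ψ hs).trans (QuotientGroup.quotientBot.symm.trans
      (QuotientGroup.quotientMulEquivOfEq center_sl32.symm))⟩⟩
  · obtain ⟨m, hm, e⟩ := hk.le a.2
    obtain ⟨n, hn, e'⟩ := hk.le b.2
    rw [coe_mul, coe_mul, ← e, ← e', ← map_mul, (fE τ m hm).2.1 n hn, map_mul]
  · obtain ⟨m, hm, rfl⟩ := hk.le hn
    rw [pow_two, ← map_mul, (fE τ m hm).1, map_one]

end CU

end CfsgH3.X32
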